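import Mathlib
import Cfsg.Agent.H8.AutBN

set_option autoImplicit false

/-! Passing to a central quotient of order prime to `p`. -/

namespace Cfsg.Agent.H8.AutBN

open Pointwise

variable {G : Type*} [Group G] {p : ℕ} [Fact p.Prime]

omit [Fact p.Prime] in
theorem mem_of_pow_mem {H : Subgroup G} {x : G} {r s : ℕ} (hrs : Nat.Coprime r s) (hr : x ^ r ∈ H) (hs : x ^ s ∈ H) :
    x ∈ H := by
  have h1 : x = x ^ ((r : ℤ) * r.gcdA s + s * r.gcdB s) := by
    rw [← Nat.gcd_eq_gcd_ab, hrs]; simp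
  rw [h1, zpow_add, zpow_mul, zpow_mul, zpow_natCast, zpow_natCast]
  exact mul_mem (zpow_mem hr _) (zpow_mem hs _)

/-- central of order prime to `p` -/
structure CenP (p : ℕ) (Z : Subgroup G) : Prop where
  cen : ∀ z ∈ Z, ∀ g, z * g = g * z
  prime : ∀ z ∈ Z, z ^ p = 1 → z = 1

variable {Z : Subgroup G} [Z.Normal] (hZ : CenP p Z)

include hZ in
omit [Z.Normal] [Fact p.Prime] in
theorem CenP.prime' : ∀ (k : ℕ) (z : G), z ∈ Z → z ^ p ^ k = 1 → z = 1 := by
  intro k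
  induction k with
  | zero => intro z _ h; simpa using h
  | succ k ih =>
    intro z hz h
    rw [pow_succ', pow_mul] at h
    exact hZ.prime z hz (ih _ (pow_mem hz p) h)

include hZ in
omit [Z.Normal] [Fact p.Prime] in
theorem CenP.eq_one {a b z : G} (hz : z ∈ Z) (h : b = a * z) (ha : ∃ k, a ^ p ^ k = 1) (hb : ∃ k, b ^ p ^ k = 1) : z = 1 := by
  obtain ⟨k, hk⟩ := ha
  obtain ⟨l, hl⟩ := hb
  apply hZ.prime' (k + l) z hz
  have hc : Commute a z := (hZ.cen z hz a).symm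
  have h1 : b ^ p ^ (k + l) = a ^ p ^ (k + l) * z ^ p ^ (k + l) := by rw [h, hc.mul_pow]
  have h2 : b ^ p ^ (k + l) = 1 := by rw [add_comm, pow_add, pow_mul, hl, one_pow]
  have h3 : a ^ p ^ (k + l) = 1 := by rw [pow_add, pow_mul, hk, one_pow]
  rw [h2, h3, one_mul] at h1
  exact h1.symm

omit [Fact p.Prime] in
theorem pE {H : Subgroup G} (hH : IsPGroup p H) {x : G} (hx : x ∈ H) : ∃ k, x ^ p ^ k = 1 := by
  obtain ⟨k, hk⟩ := hH ⟨x, hx⟩
  exact ⟨k, by simpa using congrArg Subtype.val hk⟩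

theorem map_c_smul (g : G) (H : Subgroup G) :
    c (QuotientGroup.mk' Z g) • H.map (QuotientGroup.mk' Z) = (c g • H).map (QuotientGroup.mk' Z) := by
  ext x
  rw [mem_c_smul, Subgroup.mem_map, Subgroup.mem_map]
  constructor
  · rintro ⟨h, hh, e⟩
    refine ⟨g * h * g⁻¹, by rw [mem_c_smul]; simpa [mul_assoc] using hh, ?_⟩
    rw [map_mul, map_mul, e, map_inv]; group
  · rintro ⟨h, hh, rfl⟩
    refine ⟨g⁻¹ * h * g, mem_c_smul.1 hh, by simp⟩

include hZ in
theorem le_of_map_le {A B : Subgroup G} (hA : IsPGroup p A) (hB : IsPGroup p B)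
    (h : A.map (QuotientGroup.mk' Z) ≤ B.map (QuotientGroup.mk' Z)) : A ≤ B := by
  intro a ha
  obtain ⟨b, hb, e⟩ := h (Subgroup.mem_map_of_mem _ ha)
  have h1 : b⁻¹ * a ∈ Z := by
    rw [← QuotientGroup.eq]; exact e
  have := hZ.eq_one (a := b) (b := a) (z := b⁻¹ * a) h1 (by group) (pE hB hb) (pE hA ha)
  rw [inv_mul_eq_one] at this
  rwa [← this]

include hZ in
theorem eq_of_map_eq {A B : Subgroup G} (hA : IsPGroup p A) (hB : IsPGroup p B)
    (h : A.map (QuotientGroup.mk' Z) = B.map (QuotientGroup.mk' Z)) : A = B :=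
  le_antisymm (le_of_map_le hZ hA hB h.le) (le_of_map_le hZ hB hA h.ge)

include hZ in
theorem map_inf_of_p {A B : Subgroup G} (hA : IsPGroup p A) (hB : IsPGroup p B) :
    A.map (QuotientGroup.mk' Z) ⊓ B.map (QuotientGroup.mk' Z) = (A ⊓ B).map (QuotientGroup.mk' Z) := by
  apply le_antisymm
  · rintro x ⟨⟨a, ha, rfl⟩, ⟨b, hb, e⟩⟩
    have h1 : b⁻¹ * a ∈ Z := by
      rw [← QuotientGroup.eq]; exact e
    have := hZ.eq_one (a := b) (b := a) (z := b⁻¹ * a) h1 (by group) (pE hB hb) (pE hA ha)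
    rw [inv_mul_eq_one] at this
    subst this
    exact ⟨b, ⟨ha, hb⟩, rfl⟩
  · exact Subgroup.map_inf_le _ _ _

omit [Fact p.Prime] in
theorem isPGroup_smul {A : Subgroup G} (hA : IsPGroup p A) (α : MulAut G) : IsPGroup p (α • A : Subgroup G) := by
  have : α • A = A.map α.toMonoidHom := rfl
  rw [this]
  exact hA.map _

include hZ in
theorem smul_map_eq_iff {A : Subgroup G} (hA : IsPGroup p A) (g : G) :
    c (QuotientGroup.mk' Z g) • A.map (QuotientGroup.mk' Z) = A.map (QuotientGroup.mk' Z) ↔ c g • A = A := by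
  rw [map_c_smul]
  exact ⟨fun h => eq_of_map_eq hZ (isPGroup_smul hA _) hA h, fun h => by rw [h]⟩

include hZ in
theorem mem_norm_map_iff {A : Subgroup G} (hA : IsPGroup p A) (g : G) :
    QuotientGroup.mk' Z g ∈ Subgroup.normalizer ((A.map (QuotientGroup.mk' Z) : Subgroup (G ⧸ Z)) : Set (G ⧸ Z)) ↔
      g ∈ Subgroup.normalizer (A : Set G) := by
  rw [mem_normalizer, mem_normalizer, smul_map_eq_iff hZ hA]

include hZ in
theorem inf_smul_map {A : Subgroup G} (hA : IsPGroup p A) (g : G) :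
    A.map (QuotientGroup.mk' Z) ⊓ c (QuotientGroup.mk' Z g) • A.map (QuotientGroup.mk' Z) =
      (A ⊓ c g • A).map (QuotientGroup.mk' Z) := by
  rw [map_c_smul, map_inf_of_p hZ hA (isPGroup_smul hA _)]

variable {I : Type*}

namespace Data

variable [Finite G] (D : Data p G I)

omit [Fact p.Prime] [Finite G] in
theorem isPV : IsPGroup p D.V := by rw [D.hV]; exact isPGroup_smul D.isP _

/-- the quotient data -/
def quot : Data p (G ⧸ Z) I where
  U := D.U.map (QuotientGroup.mk' Z)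
  V := D.V.map (QuotientGroup.mk' Z)
  N := QuotientGroup.mk' Z '' D.N
  s := fun i => QuotientGroup.mk' Z (D.s i)
  n0 := QuotientGroup.mk' Z D.n0
  star := D.star
  isP := D.isP.map _
  mx := by
    intro g h1 ⟨k, hk⟩
    obtain ⟨g, rfl⟩ := QuotientGroup.mk'_surjective Z g
    rw [smul_map_eq_iff hZ D.isP] at h1
    rw [← map_pow] at hk
    have hz : g ^ p ^ k ∈ Z := (QuotientGroup.eq_one_iff _).1 hk
    set r := orderOf (g ^ p ^ k) with hr
    have hr0 : 0 < r := orderOf_pos _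
    have hcop : Nat.Coprime r (p ^ k) := by
      apply Nat.Coprime.pow_right
      rw [Nat.coprime_comm, (Fact.out : p.Prime).coprime_iff_not_dvd]
      rintro ⟨t, ht⟩
      have h2 : ((g ^ p ^ k) ^ t) ^ p = 1 := by
        rw [← pow_mul, mul_comm t p, ← ht, hr, pow_orderOf_eq_one]
      have h3 := hZ.prime _ (pow_mem hz t) h2
      have h4 : r ∣ t := orderOf_dvd_of_pow_eq_one h3
      have ht0 : 0 < t := by
        rcases Nat.eq_zero_or_pos t with h | h
        · rw [h, mul_zero] at ht; omega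
        · exact h
      have h5 := Nat.le_of_dvd ht0 h4
      have h6 : 2 ≤ p := (Fact.out : p.Prime).two_le
      have : 2 * t ≤ p * t := Nat.mul_le_mul_right t h6
      omega
    have hgr : g ^ r ∈ D.U := by
      apply D.mx
      · rw [← mem_normalizer] at h1 ⊢
        exact pow_mem h1 _
      · exact ⟨k, by rw [← pow_mul, mul_comm, pow_mul, hr, pow_orderOf_eq_one]⟩
    refine mem_of_pow_mem hcop ?_ ?_
    · rw [← map_pow]; exact Subgroup.mem_map_of_mem _ hgr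
    · rw [← map_pow, hk]; exact one_mem _
  hV := by rw [map_c_smul, D.hV]
  disj := by rw [map_inf_of_p hZ D.isP D.isPV, D.disj, Subgroup.map_bot]
  bruhat := by
    intro g
    obtain ⟨g, rfl⟩ := QuotientGroup.mk'_surjective Z g
    obtain ⟨b, n, b', hb, hn, hb', rfl⟩ := D.bruhat g
    exact ⟨_, _, _, (smul_map_eq_iff hZ D.isP b).2 hb, ⟨n, hn, rfl⟩, (smul_map_eq_iff hZ D.isP b').2 hb', by
      rw [map_mul, map_mul]⟩
  small := by
    rintro _ ⟨n, hn, rfl⟩ h
    rw [Ne, smul_map_eq_iff hZ D.isP] at h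
    obtain ⟨i, hi⟩ := D.small n hn h
    refine ⟨i, ?_⟩
    rw [inf_smul_map hZ D.isP, inf_smul_map hZ D.isP]
    exact Subgroup.map_mono hi
  s_ne := by
    intro i
    rw [Ne, smul_map_eq_iff hZ D.isP]
    exact D.s_ne i
  opp := by
    rintro _ ⟨n, hn, rfl⟩ h
    rw [inf_smul_map hZ D.isP] at h
    rw [map_c_smul, D.opp n hn]
    refine eq_of_map_eq hZ (A := D.U ⊓ c n • D.U) (D.isP.to_le inf_le_left) (IsPGroup.of_bot) ?_
    rw [h, Subgroup.map_bot]
  Uinj := by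
    intro i j h
    rw [inf_smul_map hZ D.isP, inf_smul_map hZ D.isP] at h
    exact D.Uinj i j (le_of_map_le hZ (D.isP.to_le inf_le_left) (D.isP.to_le inf_le_left) h)
  Unorm := by
    intro i b hb
    obtain ⟨b, rfl⟩ := QuotientGroup.mk'_surjective Z b
    rw [smul_map_eq_iff hZ D.isP] at hb
    rw [inf_smul_map hZ D.isP, map_c_smul, D.Unorm i b hb]
  Vstar := by
    intro i
    rw [inf_smul_map hZ D.isP, inf_smul_map hZ D.isPV, map_c_smul, D.Vstar]

theorem quot_Ui (i : I) : (D.quot hZ).Ui i = (D.Ui i).map (QuotientGroup.mk' Z) := inf_smul_map hZ D.isP _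
theorem quot_Vi (i : I) : (D.quot hZ).Vi i = (D.Vi i).map (QuotientGroup.mk' Z) := inf_smul_map hZ D.isPV _

theorem quot_X (i : I) : (D.quot hZ).X i = (D.X i).map (QuotientGroup.mk' Z) := by
  ext x
  rw [X, quot_Vi]
  constructor
  · rintro ⟨⟨u, hu, rfl⟩, h⟩
    exact ⟨u, ⟨hu, (mem_norm_map_iff hZ (D.isPV.to_le inf_le_left) u).1 h⟩, rfl⟩
  · rintro ⟨u, ⟨hu, h⟩, rfl⟩
    exact ⟨⟨u, hu, rfl⟩, (mem_norm_map_iff hZ (D.isPV.to_le inf_le_left) u).2 h⟩

theorem quot_Y (i : I) : (D.quot hZ).Y i = (D.Y i).map (QuotientGroup.mk' Z) := by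
  ext x
  rw [Y, quot_Ui]
  constructor
  · rintro ⟨⟨u, hu, rfl⟩, h⟩
    exact ⟨u, ⟨hu, (mem_norm_map_iff hZ (D.isP.to_le inf_le_left) u).1 h⟩, rfl⟩
  · rintro ⟨u, ⟨hu, h⟩, rfl⟩
    exact ⟨⟨u, hu, rfl⟩, (mem_norm_map_iff hZ (D.isP.to_le inf_le_left) u).2 h⟩

include hZ in
omit [Fact p.Prime] [Finite G] in
theorem comm_iff {x y : G} (hx : ∃ k, x ^ p ^ k = 1) (hy : ∃ k, y ^ p ^ k = 1) :
    QuotientGroup.mk' Z x * QuotientGroup.mk' Z y = QuotientGroup.mk' Z y * QuotientGroup.mk' Z x ↔ x * y = y * x := by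
  constructor
  · intro h
    rw [← map_mul, ← map_mul] at h
    have h1 : (y * x)⁻¹ * (x * y) ∈ Z := by
      rw [← QuotientGroup.eq]; exact h.symm
    have h2 : (y * x)⁻¹ * (x * y) = 1 := by
      apply hZ.eq_one (a := x⁻¹ * y * x) (b := y) _ ?_ ?_ hy
      · exact h1
      · group
      · obtain ⟨k, hk⟩ := hy
        refine ⟨k, ?_⟩
        have : (x⁻¹ * y * x) ^ p ^ k = x⁻¹ * y ^ p ^ k * x := by
          have := conj_pow (i := p ^ k) (a := x⁻¹) (b := y)
          simpa using this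
        rw [this, hk]; simp
    rw [inv_mul_eq_one] at h2
    exact h2.symm
  · intro h
    rw [← map_mul, ← map_mul, h]

theorem quot_hXY (h : ∀ i j, (∀ x ∈ D.X i, ∀ y ∈ D.Y j, x * y = y * x) ↔ i ≠ j) :
    ∀ i j, (∀ x ∈ (D.quot hZ).X i, ∀ y ∈ (D.quot hZ).Y j, x * y = y * x) ↔ i ≠ j := by
  intro i j
  rw [← h, quot_X, quot_Y]
  constructor
  · intro h2 x hx y hy
    rw [← comm_iff hZ (pE D.isP hx.1) (pE D.isPV hy.1)]
    exact h2 _ ⟨x, hx, rfl⟩ _ ⟨y, hy, rfl⟩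
  · rintro h2 _ ⟨x, hx, rfl⟩ _ ⟨y, hy, rfl⟩
    rw [comm_iff hZ (pE D.isP hx.1) (pE D.isPV hy.1)]
    exact h2 x hx y hy

end Data

end Cfsg.Agent.H8.AutBN
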