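import Mathlib

set_option autoImplicit false

/-! Bruhat decomposition from rank one data. -/

namespace Cfsg.Agent.H8.BruhatGen

variable {G : Type*} [Group G] {I : Type*}

theorem bruhat_of (B N : Subgroup G) (s : I → G) (X : I → Set G)
    (hs : ∀ i, s i ∈ N) (hs2 : ∀ i, s i * s i ∈ B)
    (ha : ∀ i, ∀ b ∈ B, ∃ b' ∈ B, ∃ x ∈ X i, b = b' * x ∧ s i * b' * (s i)⁻¹ ∈ B)
    (hb : ∀ i, ∀ n ∈ N, (∀ x ∈ X i, n⁻¹ * x * n ∈ B) ∨ (∀ x ∈ X i, n⁻¹ * ((s i)⁻¹ * x * s i) * n ∈ B))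
    (hc : ∀ i, ∀ x ∈ X i, x ≠ 1 → ∃ b ∈ B, ∃ x' ∈ X i, s i * x * (s i)⁻¹ = b * s i * x')
    (hgen : Subgroup.closure ((B : Set G) ∪ Set.range s) = ⊤) (g : G) :
    ∃ b ∈ B, ∃ n ∈ N, ∃ b' ∈ B, g = b * n * b' := by
  have key : ∀ i, ∀ b ∈ B, ∀ n ∈ N, ∀ b' ∈ B, ∃ b1 ∈ B, ∃ n1 ∈ N, ∃ b2 ∈ B, s i * (b * n * b') = b1 * n1 * b2 := by
    intro i b hbB n hn b' hb'
    obtain ⟨b0, hb0, x, hx, rfl, hsb⟩ := ha i b hbB
    rcases hb i n hn with h | h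
    · refine ⟨s i * b0 * (s i)⁻¹, hsb, s i * n, N.mul_mem (hs i) hn, (n⁻¹ * x * n) * b', B.mul_mem (h x hx) hb', ?_⟩
      group
    · by_cases hx1 : x = 1
      · subst hx1
        exact ⟨s i * b0 * (s i)⁻¹, hsb, s i * n, N.mul_mem (hs i) hn, b', hb', by group⟩
      · obtain ⟨b1, hb1, x', hx', e⟩ := hc i x hx hx1
        refine ⟨(s i * b0 * (s i)⁻¹) * (b1 * (s i * s i)), B.mul_mem hsb (B.mul_mem hb1 (hs2 i)), n, hn,
          (n⁻¹ * ((s i)⁻¹ * x' * s i) * n) * b', B.mul_mem (h x' hx') hb', ?_⟩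
        have e2 : s i * x = b1 * s i * x' * s i := by rw [← e]; group
        calc s i * (b0 * x * n * b') = (s i * b0 * (s i)⁻¹) * (s i * x) * n * b' := by group
          _ = _ := by rw [e2]; group
  have hmul : ∀ x ∈ (B : Set G) ∪ Set.range s, ∀ y, (∃ b ∈ B, ∃ n ∈ N, ∃ b' ∈ B, y = b * n * b') →
      ∃ b ∈ B, ∃ n ∈ N, ∃ b' ∈ B, x * y = b * n * b' := by
    rintro x (hx | ⟨i, rfl⟩) _ ⟨b, hb, n, hn, b', hb', rfl⟩
    · exact ⟨x * b, B.mul_mem hx hb, n, hn, b', hb', by group⟩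
    · exact key i b hb n hn b' hb'
  have hg : g ∈ Subgroup.closure ((B : Set G) ∪ Set.range s) := by rw [hgen]; trivial
  induction hg using Subgroup.closure_induction_left with
  | one => exact ⟨1, B.one_mem, 1, N.one_mem, 1, B.one_mem, by simp⟩
  | mul_left x hx y _ ih => exact hmul x hx y ih
  | inv_mul_cancel x hx y _ ih =>
    rcases hx with hx | ⟨i, rfl⟩
    · exact hmul _ (Or.inl (B.inv_mem hx)) y ih
    · have e : (s i)⁻¹ * y = (s i * s i)⁻¹ * (s i * y) := by group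
      rw [e]
      exact hmul _ (Or.inl (B.inv_mem (hs2 i))) _ (hmul _ (Or.inr ⟨i, rfl⟩) y ih)

end Cfsg.Agent.H8.BruhatGen
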