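import Mathlib

set_option autoImplicit false

/-! Self-centralising abelian subgroups of odd order. -/

namespace Cfsg.Agent.H8.OddTor

variable {G : Type*} [Group G]

/-- `C` is abelian of odd order, contains the centralisers of its nontrivial elements and has index `2` or `4` in its
normaliser. -/
structure IsOT (C : Subgroup G) (w : ℕ) : Prop where
  comm : ∀ a ∈ C, ∀ b ∈ C, a * b = b * a
  odd : ¬ 2 ∣ Nat.card C
  cen : ∀ c ∈ C, c ≠ 1 → ∀ x, c * x = x * c → x ∈ C
  w24 : w = 2 ∨ w = 4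
  norm : Nat.card (Subgroup.normalizer (C : Set G)) = w * Nat.card C

namespace IsOT

variable [Finite G] {C : Subgroup G} {w : ℕ} (h : IsOT C w)

include h

theorem ordOdd {c : G} (hc : c ∈ C) : ¬ 2 ∣ orderOf c := by
  intro h2
  apply h.odd
  have : orderOf (⟨c, hc⟩ : C) = orderOf c := by rw [← Subgroup.orderOf_coe]
  rw [← this] at h2
  exact h2.trans (orderOf_dvd_natCard _)

omit [Finite G] in
theorem notMem_of_sq {t : G} (ht : t * t = 1) (ht1 : t ≠ 1) : t ∉ C := by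
  intro hc
  apply h.odd
  have h2 : orderOf t = 2 := orderOf_eq_prime (by rw [pow_two, ht]) ht1
  have : orderOf (⟨t, hc⟩ : C) = 2 := by rw [← h2, ← Subgroup.orderOf_coe]
  rw [← this]
  exact orderOf_dvd_natCard _

omit [Finite G] in
/-- An involution normalising `C` inverts it. -/
theorem inv {t : G} (ht : t * t = 1) (ht1 : t ≠ 1) (htN : t ∈ Subgroup.normalizer (C : Set G)) {c : G} (hc : c ∈ C) :
    t * c * t⁻¹ = c⁻¹ := by
  have h1 : t * c * t⁻¹ ∈ C := (Subgroup.mem_normalizer_iff.1 htN c).1 hc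
  have h2 := h.comm _ hc _ h1
  have htt : t⁻¹ = t := inv_eq_of_mul_eq_one_left ht
  by_contra hne
  have hd : c * (t * c * t⁻¹) ≠ 1 := fun h' => hne (eq_inv_of_mul_eq_one_right h')
  apply h.notMem_of_sq ht ht1
  apply h.cen _ (C.mul_mem hc h1) hd
  calc c * (t * c * t⁻¹) * t = c * t * c := by group
    _ = (t * t) * c * t * c := by rw [ht, one_mul]
    _ = t * ((t * c * t⁻¹) * c) := by rw [htt]; simp only [mul_assoc]
    _ = t * (c * (t * c * t⁻¹)) := by rw [h2]

omit [Finite G] in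
theorem commutator {a b : G} (ha : a ∈ Subgroup.normalizer (C : Set G)) (hb : b ∈ Subgroup.normalizer (C : Set G)) :
    a * b * a⁻¹ * b⁻¹ ∈ C := by
  set N := Subgroup.normalizer (C : Set G) with hN
  have hnorm : (C.subgroupOf N).Normal := Subgroup.normal_in_normalizer
  have hle : C ≤ N := Subgroup.le_normalizer
  have hcardC : 0 < Nat.card C := Nat.pos_of_ne_zero (by
    intro h0; apply h.odd; rw [h0]; exact dvd_zero _)
  have hcard : Nat.card (N ⧸ C.subgroupOf N) = w := by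
    have h1 := (C.subgroupOf N).card_eq_card_quotient_mul_card_subgroup
    rw [h.norm, Nat.card_congr (Subgroup.subgroupOfEquivOfLe hle).toEquiv] at h1
    exact (Nat.eq_of_mul_eq_mul_right hcardC h1).symm
  have hcomm : ∀ x y : N ⧸ C.subgroupOf N, x * y = y * x := by
    rcases h.w24 with rfl | rfl
    · have : Fact (Nat.Prime 2) := ⟨Nat.prime_two⟩
      have hc : IsCyclic (N ⧸ C.subgroupOf N) := isCyclic_of_prime_card hcard
      exact fun x y => (IsCyclic.isMulCommutative (α := N ⧸ C.subgroupOf N)).is_comm.comm x y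
    · have : Fact (Nat.Prime 2) := ⟨Nat.prime_two⟩
      exact IsPGroup.commutative_of_card_eq_prime_sq (p := 2) (by rw [hcard]; norm_num)
  have h1 := hcomm (QuotientGroup.mk ⟨a, ha⟩) (QuotientGroup.mk ⟨b, hb⟩)
  have h2 : (QuotientGroup.mk (⟨b, hb⟩ * ⟨a, ha⟩ : N) : N ⧸ C.subgroupOf N) = QuotientGroup.mk (⟨a, ha⟩ * ⟨b, hb⟩ : N) := h1.symm
  have h3 := QuotientGroup.eq.1 h2
  rw [Subgroup.mem_subgroupOf] at h3
  have h4 : (b * a)⁻¹ * (a * b) ∈ C := h3
  have h5 := (Subgroup.mem_normalizer_iff.1 (N.mul_mem hb ha) _).1 h4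
  have e : b * a * ((b * a)⁻¹ * (a * b)) * (b * a)⁻¹ = a * b * a⁻¹ * b⁻¹ := by group
  rwa [e] at h5

theorem exists_sqrt {c : G} (hc : c ∈ C) : ∃ d ∈ C, d * d = c := by
  obtain ⟨k, hk⟩ : ∃ k, orderOf c = 2 * k + 1 := ⟨orderOf c / 2, by have := h.ordOdd hc; omega⟩
  refine ⟨c ^ (k + 1), C.pow_mem hc _, ?_⟩
  rw [← pow_add, show k + 1 + (k + 1) = orderOf c + 1 by omega, pow_succ, pow_orderOf_eq_one, one_mul]

/-- Decomposition relative to an involution. -/
theorem decomp {t : G} (ht : t * t = 1) (ht1 : t ≠ 1) (htN : t ∈ Subgroup.normalizer (C : Set G)) {n : G}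
    (hn : n ∈ Subgroup.normalizer (C : Set G)) :
    ∃ c ∈ C, ∃ p ∈ Subgroup.normalizer (C : Set G), p * t = t * p ∧ n = c * p := by
  have hd := h.commutator htN hn
  obtain ⟨c, hc, hcd⟩ := h.exists_sqrt (C.inv_mem hd)
  have htt : t⁻¹ = t := inv_eq_of_mul_eq_one_left ht
  refine ⟨c, hc, c⁻¹ * n, Subgroup.mul_mem _ (Subgroup.inv_mem _ (Subgroup.le_normalizer hc)) hn, ?_, by group⟩
  have h1 : t * c⁻¹ * t⁻¹ = c := by
    have := h.inv ht ht1 htN (C.inv_mem hc)
    rwa [inv_inv] at this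
  have h2 : t * n * t⁻¹ = (c * c)⁻¹ * n := by rw [hcd]; group
  calc c⁻¹ * n * t = c⁻¹ * n * t⁻¹ := by rw [htt]
    _ = c * ((c * c)⁻¹ * n) * t⁻¹ := by group
    _ = (t * c⁻¹ * t⁻¹) * (t * n * t⁻¹) * t⁻¹ := by rw [h1, h2]
    _ = t * (c⁻¹ * n) * (t⁻¹ * t⁻¹) := by group
    _ = t * (c⁻¹ * n) := by rw [htt, ht, mul_one]

omit [Finite G] in
theorem inter {t : G} (ht : t * t = 1) (ht1 : t ≠ 1) {c : G} (hc : c ∈ C) (hct : c * t = t * c) : c = 1 := by
  by_contra hne
  exact h.notMem_of_sq ht ht1 (h.cen c hc hne t hct)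

/-- `N(C) ∩ C(t)` has order `w`. -/
theorem card_P {t : G} (ht : t * t = 1) (ht1 : t ≠ 1) (htN : t ∈ Subgroup.normalizer (C : Set G)) :
    Nat.card (Subgroup.normalizer (C : Set G) ⊓ Subgroup.centralizer {t} : Subgroup G) = w := by
  have hmem : ∀ p : G, p ∈ (Subgroup.normalizer (C : Set G) ⊓ Subgroup.centralizer {t} : Subgroup G) ↔
      p ∈ Subgroup.normalizer (C : Set G) ∧ t * p = p * t := by
    intro p; rw [Subgroup.mem_inf, Subgroup.mem_centralizer_iff]; simp
  let f : C × (Subgroup.normalizer (C : Set G) ⊓ Subgroup.centralizer {t} : Subgroup G) → Subgroup.normalizer (C : Set G) :=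
    fun x => ⟨x.1 * x.2, Subgroup.mul_mem _ (Subgroup.le_normalizer x.1.2) ((hmem _).1 x.2.2).1⟩
  have hf : Function.Bijective f := by
    constructor
    · rintro ⟨⟨c, hc⟩, p, hp⟩ ⟨⟨d, hd⟩, q, hq⟩ hpq
      have h1 : c * p = d * q := congrArg Subtype.val hpq
      have h2 : d⁻¹ * c = q * p⁻¹ := by
        calc d⁻¹ * c = d⁻¹ * (c * p) * p⁻¹ := by group
          _ = _ := by rw [h1]; group
      have h3 : d⁻¹ * c = 1 := by
        apply h.inter ht ht1 (C.mul_mem (C.inv_mem hd) hc)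
        rw [h2]
        have h4 := ((hmem _).1 (Subgroup.mul_mem _ hq (Subgroup.inv_mem _ hp))).2
        exact h4.symm
      have h5 : c = d := by rw [inv_mul_eq_one] at h3; exact h3.symm
      subst h5
      have h6 : p = q := mul_left_cancel h1
      subst h6
      rfl
    · rintro ⟨n, hn⟩
      obtain ⟨c, hc, p, hp, hpt, hcp⟩ := h.decomp ht ht1 htN hn
      exact ⟨⟨⟨c, hc⟩, ⟨p, (hmem p).2 ⟨hp, hpt.symm⟩⟩⟩, Subtype.ext hcp.symm⟩
  have h1 := Nat.card_congr (Equiv.ofBijective f hf)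
  rw [Nat.card_prod, h.norm, mul_comm] at h1
  exact Nat.eq_of_mul_eq_mul_right Nat.card_pos h1

omit [Finite G] in
/-- Commuting involutions of the normaliser are equal. -/
theorem unique_inv {s t : G} (hs : s * s = 1) (hs1 : s ≠ 1) (ht : t * t = 1) (ht1 : t ≠ 1)
    (hsN : s ∈ Subgroup.normalizer (C : Set G)) (htN : t ∈ Subgroup.normalizer (C : Set G)) (hst : s * t = t * s)
    (hC : C ≠ ⊥) : s = t := by
  obtain ⟨⟨c, hc⟩, hc1'⟩ := Subgroup.ne_bot_iff_exists_ne_one.1 hC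
  have hc1 : c ≠ 1 := fun h' => hc1' (Subtype.ext h')
  by_contra hne
  have h1 := h.inv hs hs1 hsN (C.inv_mem hc)
  have h2 := h.inv ht ht1 htN hc
  have hss : s⁻¹ = s := inv_eq_of_mul_eq_one_left hs
  have htt : t⁻¹ = t := inv_eq_of_mul_eq_one_left ht
  rw [inv_inv] at h1
  have h3 : (s * t) * c = c * (s * t) := by
    calc (s * t) * c = s * (t * c * t⁻¹) * s⁻¹ * (s * t) := by group
      _ = s * c⁻¹ * s⁻¹ * (s * t) := by rw [h2]
      _ = c * (s * t) := by rw [h1]
  have h4 := h.cen c hc hc1 (s * t) h3.symm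
  refine h.notMem_of_sq (t := s * t) ?_ ?_ h4
  · calc s * t * (s * t) = (s * t) * (t * s) := by rw [hst]
      _ = s * (t * t) * s := by group
      _ = 1 := by rw [ht, mul_one, hs]
  · intro h'
    apply hne
    calc s = s * t * t⁻¹ := by group
      _ = t := by rw [h', one_mul, htt]

end IsOT

end Cfsg.Agent.H8.OddTor
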