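import Mathlib
import Cfsg.Agent.H8.Basic

set_option autoImplicit false

/-! Extensions with the same prime graph. -/

namespace Cfsg.Agent.H8.PrimeGraph

/-- Same prime graph. -/
def Same (G H : Type*) [Group G] [Group H] : Prop :=
  (∀ r : ℕ, r.Prime → (r ∣ Nat.card G ↔ r ∣ Nat.card H)) ∧
  (∀ r s : ℕ, r.Prime → s.Prime → r ≠ s → ((∃ x : G, orderOf x = r * s) ↔ (∃ y : H, orderOf y = r * s)))

theorem Same.trans {G H K : Type*} [Group G] [Group H] [Group K] (h1 : Same G H) (h2 : Same H K) : Same G K :=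
  ⟨fun r hr => (h1.1 r hr).trans (h2.1 r hr), fun r s hr hs hrs => (h1.2 r s hr hs hrs).trans (h2.2 r s hr hs hrs)⟩

theorem Same.of_equiv {G H : Type*} [Group G] [Group H] (e : G ≃* H) : Same G H := by
  refine ⟨fun r _ => by rw [Nat.card_congr e.toEquiv], fun r s _ _ _ => ⟨?_, ?_⟩⟩
  · rintro ⟨x, hx⟩; exact ⟨e x, by rw [e.orderOf_eq]; exact hx⟩
  · rintro ⟨x, hx⟩; exact ⟨e.symm x, by rw [e.symm.orderOf_eq]; exact hx⟩

variable {G : Type*} [Group G] {V : Type*} [CommGroup V]

/-- Pointwise action on functions. -/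
def act (φ : G →* MulAut V) (k : ℕ) : G →* MulAut (Fin k → V) where
  toFun g := MulEquiv.piCongrRight (fun _ => φ g)
  map_one' := by ext v i; simp
  map_mul' g h := by ext v i; simp

theorem act_apply (φ : G →* MulAut V) (k : ℕ) (g : G) (v : Fin k → V) (i : Fin k) :
    act φ k g v i = φ g (v i) := rfl

theorem same_semidirect [Finite G] [Finite V] (φ : G →* MulAut V) (p : ℕ) (hp : p.Prime)
    (hexp : ∀ v : V, v ^ p = 1) (hdvd : p ∣ Nat.card G)
    (hfix : ∀ g : G, ∀ s : ℕ, s.Prime → s ≠ p → orderOf g = s → ∀ v, φ g v = v → v = 1) :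
    Same G (V ⋊[φ] G) := by
  have hfin : Finite (V ⋊[φ] G) := Finite.of_equiv _ SemidirectProduct.equivProd.symm
  have hcard : Nat.card (V ⋊[φ] G) = Nat.card V * Nat.card G := by
    rw [Nat.card_congr SemidirectProduct.equivProd, Nat.card_prod]
  have hVp : IsPGroup p V := fun v => ⟨1, by rw [pow_one]; exact hexp v⟩
  have : Fact p.Prime := ⟨hp⟩
  obtain ⟨n, hn⟩ := (IsPGroup.iff_card.1 hVp)
  refine ⟨fun r hr => ?_, fun r s hr hs hrs => ⟨?_, ?_⟩⟩
  · rw [hcard]
    constructor
    · intro h; exact Dvd.dvd.mul_left h _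
    · intro h
      rcases hr.dvd_mul.1 h with h | h
      · rw [hn] at h
        rw [(Nat.prime_dvd_prime_iff_eq hr hp).1 (hr.dvd_of_dvd_pow h)]; exact hdvd
      · exact h
  · rintro ⟨x, hx⟩
    exact ⟨SemidirectProduct.inr x, by rw [orderOf_injective _ SemidirectProduct.inr_injective]; exact hx⟩
  · rintro ⟨y, hy⟩
    set g := y.right with hg
    set d := orderOf g with hd
    have hdr : d ∣ r * s := by
      rw [← hy]; exact orderOf_map_dvd (SemidirectProduct.rightHom : V ⋊[φ] G →* G) y
    by_cases hdd : d = r * s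
    · exact ⟨g, hdd⟩
    exfalso
    have hd0 : 0 < d := orderOf_pos g
    -- y ^ d is in the kernel
    have h1 : (y ^ d).right = 1 := by
      have : (SemidirectProduct.rightHom : V ⋊[φ] G →* G) (y ^ d) = g ^ d := by rw [map_pow]; rfl
      rw [hd, pow_orderOf_eq_one] at this
      exact this
    set w := (y ^ d).left with hw
    have h2 : y ^ d = SemidirectProduct.inl w := by
      apply SemidirectProduct.ext
      · rfl
      · rw [h1]; rfl
    have hw1 : w ≠ 1 := by
      intro h
      rw [h, map_one] at h2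
      have := orderOf_dvd_of_pow_eq_one h2
      rw [hy] at this
      exact hdd (Nat.dvd_antisymm hdr this)
    have h3 : orderOf (y ^ d) = p := by
      rw [h2, orderOf_injective _ SemidirectProduct.inl_injective]
      exact orderOf_eq_prime (hexp w) hw1
    have h4 : r * s / d = p := by
      rw [← h3, orderOf_pow, hy, Nat.gcd_eq_right hdr]
    have h5 : r * s = p * d := by rw [← h4]; exact (Nat.div_mul_cancel hdr).symm
    -- d is a prime different from p
    have h6 : d.Prime ∧ d ≠ p := by
      have hp' : p ∣ r * s := ⟨d, h5⟩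
      rcases hp.dvd_mul.1 hp' with h | h
      · have := (Nat.prime_dvd_prime_iff_eq hp hr).1 h
        subst this
        have := Nat.eq_of_mul_eq_mul_left hp.pos h5
        rw [← this]; exact ⟨hs, Ne.symm hrs⟩
      · have := (Nat.prime_dvd_prime_iff_eq hp hs).1 h
        subst this
        rw [mul_comm] at h5
        have := Nat.eq_of_mul_eq_mul_left hp.pos h5
        rw [← this]; exact ⟨hr, hrs⟩
    apply hw1
    apply hfix g d h6.1 h6.2 rfl
    -- commute
    have h7 : y * SemidirectProduct.inl w = SemidirectProduct.inl w * y := by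
      rw [← h2, ← pow_succ, ← pow_succ']
    have h8 := congrArg SemidirectProduct.left h7
    simp only [SemidirectProduct.mul_left, SemidirectProduct.left_inl, SemidirectProduct.right_inl, map_one, MulAut.one_apply] at h8
    rw [mul_comm w] at h8
    exact mul_left_cancel h8

/-- Main construction. -/
theorem exists_large {G : Type*} [Group G] [Finite G] {V : Type*} [CommGroup V] [Finite V] [Nontrivial V]
    (φ : G →* MulAut V) (p : ℕ) (hp : p.Prime)
    (hexp : ∀ v : V, v ^ p = 1) (hdvd : p ∣ Nat.card G)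
    (hfix : ∀ g : G, ∀ s : ℕ, s.Prime → s ≠ p → orderOf g = s → ∀ v, φ g v = v → v = 1) (N : ℕ) :
    ∃ (H : Type) (_ : Group H) (_ : Fintype H), N < Fintype.card H ∧ Same G H := by
  have h1 := same_semidirect (act φ (N + 1)) p hp (fun v => by funext i; exact hexp _) hdvd (by
    intro g s hs hsp hgs v hv
    funext i
    exact hfix g s hs hsp hgs (v i) (congrFun hv i))
  have hfin : Finite ((Fin (N + 1) → V) ⋊[act φ (N + 1)] G) := Finite.of_equiv _ SemidirectProduct.equivProd.symm
  obtain ⟨H, i1, i2, ⟨e⟩⟩ := Cfsg.Agent.H8.Basic.exists_type0 ((Fin (N + 1) → V) ⋊[act φ (N + 1)] G)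
  refine ⟨H, i1, i2, ?_, h1.trans (Same.of_equiv e)⟩
  rw [← Nat.card_eq_fintype_card, ← Nat.card_congr e.toEquiv, Nat.card_congr SemidirectProduct.equivProd, Nat.card_prod]
  have h2 : 2 ≤ Nat.card V := by
    have := Finite.one_lt_card_iff_nontrivial.2 (inferInstance : Nontrivial V); omega
  have h3 : N + 1 < Nat.card (Fin (N + 1) → V) := by
    rw [Nat.card_fun, Nat.card_eq_fintype_card (α := Fin (N+1)), Fintype.card_fin]
    calc N + 1 < 2 ^ (N + 1) := Nat.lt_two_pow_self
      _ ≤ Nat.card V ^ (N + 1) := Nat.pow_le_pow_left h2 _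
  have h4 : 0 < Nat.card G := Nat.card_pos
  nlinarith

end Cfsg.Agent.H8.PrimeGraph
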