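import Mathlib
import Cfsg.Agent.H8.AutQuot

set_option autoImplicit false

/-! Pattern subgroups and monomial matrices in `SL_n`. -/

namespace Cfsg.Agent.H8.SLPat

open Matrix Pointwise Cfsg.Agent.H8.AutBN

variable {ι : Type*} [Fintype ι] [DecidableEq ι] {F : Type*} [Field F]

/-- strict pattern -/
structure Str (R : ι → ι → Prop) : Prop where
  irr : ∀ a, ¬ R a a
  tr : ∀ a b d, R a b → R b d → R a d

theorem str_lt {α : Type*} [Preorder α] : Str (fun a b : α => a < b) := ⟨fun a => lt_irrefl a, fun _ _ _ h1 h2 => lt_trans h1 h2⟩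
theorem str_gt {α : Type*} [Preorder α] : Str (fun a b : α => b < a) := ⟨fun a => lt_irrefl a, fun _ _ _ h1 h2 => lt_trans h2 h1⟩

theorem slone_apply {i j : ι} : (1 : SpecialLinearGroup ι F) i j = if i = j then 1 else 0 := by
  show (1 : Matrix ι ι F) i j = _
  rw [Matrix.one_apply]

theorem slmul_apply (g h : SpecialLinearGroup ι F) (i j : ι) : (g * h) i j = ∑ k, g i k * h k j := by
  show (g.1 * h.1) i j = _
  rw [Matrix.mul_apply]

/-- a submonoid closed in a finite group is closed under inverses -/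
theorem inv_mem_of_finite {G : Type*} [Group G] [Finite G] (P : G → Prop) (h1 : P 1) (hm : ∀ a b, P a → P b → P (a * b))
    (x : G) (hx : P x) : P x⁻¹ := by
  have hp : ∀ k : ℕ, P (x ^ k) := by
    intro k
    induction k with
    | zero => simpa using h1
    | succ k ih => rw [pow_succ]; exact hm _ _ ih hx
  have e : x⁻¹ = x ^ (orderOf x - 1) := by
    rw [inv_eq_iff_mul_eq_one, ← pow_succ', Nat.sub_add_cancel (orderOf_pos x), pow_orderOf_eq_one]
  rw [e]; exact hp _

variable [Finite F]

/-- unipotent pattern subgroup -/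
def patU {R : ι → ι → Prop} (hR : Str R) : Subgroup (SpecialLinearGroup ι F) where
  carrier := {g | ∀ i j, ¬ R i j → g i j = (1 : SpecialLinearGroup ι F) i j}
  one_mem' := fun _ _ _ => rfl
  mul_mem' := by
    intro a b ha hb i j hij
    rw [slmul_apply, Finset.sum_eq_single i]
    · rw [ha i i (hR.irr i), hb i j hij, slone_apply (i := i), if_pos rfl, one_mul]
    · intro k _ hk
      by_cases h1 : R i k
      · by_cases h2 : R k j
        · exact absurd (hR.tr _ _ _ h1 h2) hij
        · rw [hb k j h2, slone_apply]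
          by_cases h3 : k = j
          · subst h3; exact absurd h1 hij
          · rw [if_neg h3, mul_zero]
      · rw [ha i k h1, slone_apply, if_neg (Ne.symm hk), zero_mul]
    · simp
  inv_mem' := by
    intro x hx
    refine inv_mem_of_finite (fun g : SpecialLinearGroup ι F => ∀ i j, ¬ R i j → g i j = (1 : SpecialLinearGroup ι F) i j)
      (fun _ _ _ => rfl) ?_ x hx
    intro a b ha hb i j hij
    rw [slmul_apply, Finset.sum_eq_single i]
    · rw [ha i i (hR.irr i), hb i j hij, slone_apply (i := i), if_pos rfl, one_mul]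
    · intro k _ hk
      by_cases h1 : R i k
      · by_cases h2 : R k j
        · exact absurd (hR.tr _ _ _ h1 h2) hij
        · rw [hb k j h2, slone_apply]
          by_cases h3 : k = j
          · subst h3; exact absurd h1 hij
          · rw [if_neg h3, mul_zero]
      · rw [ha i k h1, slone_apply, if_neg (Ne.symm hk), zero_mul]
    · simp

theorem mem_patU {R : ι → ι → Prop} {hR : Str R} {g : SpecialLinearGroup ι F} :
    g ∈ patU hR ↔ ∀ i j, ¬ R i j → g i j = if i = j then 1 else 0 := by
  constructor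
  · intro h i j hij; rw [h i j hij, slone_apply]
  · intro h i j hij; rw [h i j hij, slone_apply]

omit [Finite F] in
theorem transvection_apply {i j : ι} (hij : i ≠ j) (t : F) (a b : ι) :
    (SpecialLinearGroup.transvection hij t : SpecialLinearGroup ι F) a b =
      (if a = b then 1 else 0) + (if a = i ∧ b = j then t else 0) := by
  rw [SpecialLinearGroup.transvection_coe, Matrix.add_apply, Matrix.one_apply, Matrix.single_apply]
  congr 1
  by_cases h : a = i ∧ b = j
  · rw [if_pos h, if_pos ⟨h.1.symm, h.2.symm⟩]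
  · rw [if_neg h, if_neg]; rintro ⟨rfl, rfl⟩; exact h ⟨rfl, rfl⟩

theorem transvection_mem_patU {R : ι → ι → Prop} {hR : Str R} {i j : ι} (hij : i ≠ j) (h : R i j) (t : F) :
    SpecialLinearGroup.transvection hij t ∈ patU hR := by
  rw [mem_patU]
  intro a b hab
  rw [transvection_apply]
  rw [if_neg (c := a = i ∧ b = j), add_zero]
  rintro ⟨rfl, rfl⟩; exact hab h

theorem patU_le_iff {R S : ι → ι → Prop} {hR : Str R} {hS : Str S} :
    patU hR ≤ (patU hS : Subgroup (SpecialLinearGroup ι F)) ↔ ∀ a b, R a b → S a b := by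
  constructor
  · intro h a b hab
    by_contra hn
    have hne : a ≠ b := by rintro rfl; exact hR.irr _ hab
    have := h (transvection_mem_patU (hR := hR) hne hab 1)
    rw [mem_patU] at this
    have h2 := this a b hn
    rw [transvection_apply] at h2
    simp [hne] at h2
  · intro h g hg
    rw [mem_patU] at hg ⊢
    intro i j hij
    exact hg i j (fun h' => hij (h _ _ h'))

theorem patU_eq_iff {R S : ι → ι → Prop} {hR : Str R} {hS : Str S} :
    patU hR = (patU hS : Subgroup (SpecialLinearGroup ι F)) ↔ ∀ a b, R a b ↔ S a b := by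
  rw [le_antisymm_iff, patU_le_iff, patU_le_iff]
  exact ⟨fun h a b => ⟨h.1 a b, h.2 a b⟩, fun h => ⟨fun a b => (h a b).1, fun a b => (h a b).2⟩⟩

theorem str_inf {R S : ι → ι → Prop} (hR : Str R) (hS : Str S) : Str (fun a b => R a b ∧ S a b) :=
  ⟨fun a h => hR.irr a h.1, fun _ _ _ h1 h2 => ⟨hR.tr _ _ _ h1.1 h2.1, hS.tr _ _ _ h1.2 h2.2⟩⟩

theorem patU_inf {R S : ι → ι → Prop} (hR : Str R) (hS : Str S) :
    patU hR ⊓ patU hS = (patU (str_inf hR hS) : Subgroup (SpecialLinearGroup ι F)) := by
  ext g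
  rw [Subgroup.mem_inf, mem_patU, mem_patU, mem_patU]
  constructor
  · rintro ⟨h1, h2⟩ i j hij
    by_cases h : R i j
    · exact h2 i j (fun h' => hij ⟨h, h'⟩)
    · exact h1 i j h
  · intro h
    exact ⟨fun i j hij => h i j (fun h' => hij h'.1), fun i j hij => h i j (fun h' => hij h'.2)⟩

theorem patU_bot {R : ι → ι → Prop} {hR : Str R} (h : ∀ a b, ¬ R a b) :
    (patU hR : Subgroup (SpecialLinearGroup ι F)) = ⊥ := by
  rw [eq_bot_iff]
  intro g hg
  rw [mem_patU] at hg
  rw [Subgroup.mem_bot]
  ext i j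
  rw [hg i j (h i j), slone_apply]

/-- monomial matrix over the permutation `ω` -/
def Mono (n : SpecialLinearGroup ι F) (ω : Equiv.Perm ι) : Prop := ∀ i j, i ≠ ω j → n i j = 0

omit [Finite F] in
theorem Mono.ne_zero {n : SpecialLinearGroup ι F} {ω : Equiv.Perm ι} (h : Mono n ω) (j : ι) : n (ω j) j ≠ 0 := by
  intro h0
  have h1 : (n⁻¹ * n) j j = 1 := by rw [inv_mul_cancel, slone_apply, if_pos rfl]
  rw [slmul_apply, Finset.sum_eq_zero] at h1
  · exact zero_ne_one h1
  · intro k _
    by_cases hk : k = ω j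
    · rw [hk, h0, mul_zero]
    · rw [h k j hk, mul_zero]

omit [Finite F] in
theorem Mono.inv {n : SpecialLinearGroup ι F} {ω : Equiv.Perm ι} (h : Mono n ω) : Mono n⁻¹ ω⁻¹ := by
  intro p q hpq
  by_contra hne
  have h2 : (n * n⁻¹) (ω p) q = 0 := by
    rw [mul_inv_cancel, slone_apply, if_neg]
    intro e; apply hpq; rw [← e]; simp
  rw [slmul_apply, Finset.sum_eq_single p] at h2
  · rcases mul_eq_zero.1 h2 with h3 | h3
    · exact h.ne_zero p h3
    · exact hne h3
  · intro k _ hk
    rw [h _ k (fun e => hk (ω.injective e.symm)), zero_mul]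
  · simp

omit [Finite F] in
theorem Mono.mul {n n' : SpecialLinearGroup ι F} {ω ω' : Equiv.Perm ι} (h : Mono n ω) (h' : Mono n' ω') :
    Mono (n * n') (ω * ω') := by
  intro i j hij
  rw [slmul_apply]
  apply Finset.sum_eq_zero
  intro k _
  by_cases hk : k = ω' j
  · rw [h i k, zero_mul]
    rw [hk]; exact hij
  · rw [h' k j hk, mul_zero]

omit [Finite F] in
theorem Mono.conj {n : SpecialLinearGroup ι F} {ω : Equiv.Perm ι} (h : Mono n ω) (u : SpecialLinearGroup ι F) (a b : ι) :
    n (ω a) a * (n⁻¹ * u * n) a b = u (ω a) (ω b) * n (ω b) b := by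
  have h1 : (n * (n⁻¹ * u * n)) (ω a) b = (u * n) (ω a) b := by
    have : n * (n⁻¹ * u * n) = u * n := by group
    rw [this]
  rw [slmul_apply, slmul_apply, Finset.sum_eq_single a, Finset.sum_eq_single (ω b)] at h1
  · exact h1
  · intro k _ hk
    rw [h k b hk, mul_zero]
  · simp
  · intro k _ hk
    rw [h (ω a) k (fun e => hk (ω.injective e.symm)), zero_mul]
  · simp

omit [Finite F] in
theorem Mono.conj_zero {n : SpecialLinearGroup ι F} {ω : Equiv.Perm ι} (h : Mono n ω) (u : SpecialLinearGroup ι F) (a b : ι) :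
    (n⁻¹ * u * n) a b = 0 ↔ u (ω a) (ω b) = 0 := by
  have h1 := h.conj u a b
  constructor
  · intro h2
    rw [h2, mul_zero] at h1
    exact (mul_eq_zero.1 h1.symm).resolve_right (h.ne_zero b)
  · intro h2
    rw [h2, zero_mul] at h1
    exact (mul_eq_zero.1 h1).resolve_left (h.ne_zero a)

omit [Finite F] in
theorem Mono.conj_diag {n : SpecialLinearGroup ι F} {ω : Equiv.Perm ι} (h : Mono n ω) (u : SpecialLinearGroup ι F) (a : ι) :
    (n⁻¹ * u * n) a a = u (ω a) (ω a) := by
  have h1 := h.conj u a a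
  rw [mul_comm] at h1
  exact mul_right_cancel₀ (h.ne_zero a) h1

theorem str_perm {R : ι → ι → Prop} (hR : Str R) (ω : Equiv.Perm ι) : Str (fun a b => R (ω⁻¹ a) (ω⁻¹ b)) :=
  ⟨fun a => hR.irr _, fun _ _ _ h1 h2 => hR.tr _ _ _ h1 h2⟩

theorem Mono.smul {n : SpecialLinearGroup ι F} {ω : Equiv.Perm ι} (h : Mono n ω) {R : ι → ι → Prop} (hR : Str R) :
    c n • patU hR = (patU (str_perm hR ω) : Subgroup (SpecialLinearGroup ι F)) := by
  ext u
  rw [mem_c_smul, mem_patU, mem_patU]
  constructor
  · intro h1 i j hij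
    have h2 := h1 (ω⁻¹ i) (ω⁻¹ j) hij
    by_cases e : i = j
    · subst e
      rw [if_pos rfl] at h2 ⊢
      rw [h.conj_diag] at h2
      simpa using h2
    · rw [if_neg e]
      rw [if_neg (fun e' => e (by simpa using e')), h.conj_zero] at h2
      simpa using h2
  · intro h1 a b hab
    have h2 := h1 (ω a) (ω b) (by simpa using hab)
    by_cases e : a = b
    · subst e
      rw [if_pos rfl] at h2 ⊢
      rw [h.conj_diag, h2]
    · rw [if_neg e, h.conj_zero, h2, if_neg (fun e' => e (ω.injective e'))]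

omit [Finite F] in
/-- existence of monomial matrices of determinant one -/
theorem exists_mono [Nonempty ι] (ω : Equiv.Perm ι) : ∃ n : SpecialLinearGroup ι F, Mono n ω := by
  obtain ⟨i0⟩ := ‹Nonempty ι›
  let d : ι → F := fun j => if j = i0 then ((Equiv.Perm.sign ω : ℤ) : F) else 1
  let M : Matrix ι ι F := fun i j => if i = ω j then d j else 0
  have hM : M = ((ω⁻¹ : Equiv.Perm ι).toPEquiv.toMatrix : Matrix ι ι F) * Matrix.diagonal d := by
    ext i j
    rw [Matrix.mul_diagonal, PEquiv.toMatrix_apply]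
    simp only [M, Equiv.toPEquiv_apply, Option.mem_def, Option.some.injEq]
    by_cases h : i = ω j
    · subst h; simp
    · rw [if_neg h, if_neg, zero_mul]
      intro h'; apply h; rw [← h']; simp
  have hdet : M.det = 1 := by
    rw [hM, Matrix.det_mul, Matrix.det_permutation, Matrix.det_diagonal, Finset.prod_eq_single i0]
    · simp only [d, if_pos, Equiv.Perm.sign_inv]
      rw [← Int.cast_mul, ← Units.val_mul]
      have : Equiv.Perm.sign ω * Equiv.Perm.sign ω = 1 := Int.units_mul_self _
      rw [this]; simp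
    · intro j _ hj; simp only [d, if_neg hj]
    · simp
  refine ⟨⟨M, hdet⟩, ?_⟩
  intro i j hij
  show (if i = ω j then d j else 0) = 0
  rw [if_neg hij]

end Cfsg.Agent.H8.SLPat
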