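import Mathlib
import Cfsg.Agent.Lib.SLn
import Cfsg.Agent.H8.SLPat
import Cfsg.Agent.H8.BruhatGen

set_option autoImplicit false
set_option linter.all false

/-! Triangular subgroups, Bruhat decomposition of `SL_{m+1}`. -/

namespace Cfsg.Agent.H8.SLTri

open scoped commutatorElement
open Matrix Pointwise Cfsg.Agent.H8.AutBN Cfsg.Agent.H8.SLPat

section gen

variable {ι : Type*} [Fintype ι] [DecidableEq ι] {F : Type*} [Field F]

/-- `n_{ab}(t)` -/
def nn {a b : ι} (h : a ≠ b) (t : F) : SpecialLinearGroup ι F :=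
  SpecialLinearGroup.transvection h t * SpecialLinearGroup.transvection h.symm (-t⁻¹) * SpecialLinearGroup.transvection h t

theorem nn_coe {a b : ι} (h : a ≠ b) {t : F} (ht : t ≠ 0) : ((nn h t : SpecialLinearGroup ι F) : Matrix ι ι F) =
    1 + t • Matrix.single a b (1 : F) - t⁻¹ • Matrix.single b a (1 : F) - Matrix.single a a (1 : F) - Matrix.single b b (1 : F) := by
  have hE : Matrix.single a b (1 : F) * Matrix.single a b (1 : F) = 0 := by
    rw [Matrix.single_mul_single_of_ne _ _ _ _ h.symm]
  have hG : Matrix.single b a (1 : F) * Matrix.single b a (1 : F) = 0 := by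
    rw [Matrix.single_mul_single_of_ne _ _ _ _ h]
  have hEG : Matrix.single a b (1 : F) * Matrix.single b a (1 : F) * Matrix.single a b (1 : F)
      = Matrix.single a b (1 : F) := by
    rw [Matrix.single_mul_single_same, Matrix.single_mul_single_same]; simp
  have := Cfsg.Agent.Lib.SLn.alg_w (F := F) _ _ hE hG hEG t ht
  rw [Matrix.single_mul_single_same, Matrix.single_mul_single_same, mul_one] at this
  rw [← this]
  show (1 + Matrix.single a b t) * (1 + Matrix.single b a (-t⁻¹)) * (1 + Matrix.single a b t) = _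
  simp only [Matrix.smul_single, smul_eq_mul, mul_one]

theorem nn_apply {a b : ι} (h : a ≠ b) {t : F} (ht : t ≠ 0) (i j : ι) : (nn h t : SpecialLinearGroup ι F) i j =
    (if i = j then 1 else 0) + (if i = a ∧ j = b then t else 0) - (if i = b ∧ j = a then t⁻¹ else 0) -
      (if i = a ∧ j = a then 1 else 0) - (if i = b ∧ j = b then 1 else 0) := by
  rw [nn_coe h ht]
  simp only [Matrix.sub_apply, Matrix.add_apply, Matrix.one_apply, Matrix.smul_apply, Matrix.single_apply, smul_eq_mul,
    mul_ite, mul_one, mul_zero, eq_comm (a := a) (b := i), eq_comm (a := b) (b := j), eq_comm (a := b) (b := i),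
    eq_comm (a := a) (b := j)]

theorem nn_mono {a b : ι} (h : a ≠ b) {t : F} (ht : t ≠ 0) : Mono (nn h t : SpecialLinearGroup ι F) (Equiv.swap a b) := by
  intro i j hij
  rw [nn_apply h ht]
  by_cases hj : j = a
  · subst hj
    rw [Equiv.swap_apply_left] at hij
    simp [hij, h]
  · by_cases hj' : j = b
    · subst hj'
      rw [Equiv.swap_apply_right] at hij
      simp [hij, hj]
    · rw [Equiv.swap_apply_of_ne_of_ne hj hj'] at hij
      simp [hij, hj, hj']

theorem alg_conj {A : Type*} [Ring A] [Algebra F A] (E G : A) (hE : E * E = 0) (hG : G * G = 0) (hEG : E * G * E = E)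
    (hGE : G * E * G = G) (t s : F) (ht : t ≠ 0) :
    ((1 + t • E) * (1 + (-t⁻¹) • G) * (1 + t • E)) * (1 + s • E) =
      (1 + (-(t⁻¹ ^ 2 * s)) • G) * ((1 + t • E) * (1 + (-t⁻¹) • G) * (1 + t • E)) := by
  rw [Cfsg.Agent.Lib.SLn.alg_w E G hE hG hEG t ht]
  have h1 : E * (G * E) = E := by rw [← mul_assoc]; exact hEG
  have h1' : G * (E * G) = G := by rw [← mul_assoc]; exact hGE
  have e5 : E * G * G = 0 := by rw [mul_assoc, hG, mul_zero]
  have e6 : G * E * E = 0 := by rw [mul_assoc, hE, mul_zero]
  have e7 : E * (E * G) = 0 := by rw [← mul_assoc, hE, zero_mul]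
  have e8 : G * (G * E) = 0 := by rw [← mul_assoc, hG, zero_mul]
  simp only [mul_add, add_mul, mul_sub, sub_mul, mul_one, one_mul, smul_mul_assoc,
    mul_smul_comm, smul_smul, h1, h1', hE, hG, hEG, hGE, e5, e6, e7, e8,
    smul_zero, neg_smul, mul_neg, neg_mul, smul_neg, one_smul, sub_smul]
  have h5 : t⁻¹ ^ 2 * s * t = s * t⁻¹ := by field_simp
  match_scalars
  all_goals ring_nf
  all_goals (field_simp)

theorem nn_mul {a b : ι} (h : a ≠ b) {t : F} (ht : t ≠ 0) (s : F) :
    nn h t * SpecialLinearGroup.transvection h s = SpecialLinearGroup.transvection h.symm (-(t⁻¹ ^ 2 * s)) * nn h t := by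
  apply Subtype.ext
  have hE : Matrix.single a b (1 : F) * Matrix.single a b (1 : F) = 0 := by
    rw [Matrix.single_mul_single_of_ne _ _ _ _ h.symm]
  have hG : Matrix.single b a (1 : F) * Matrix.single b a (1 : F) = 0 := by
    rw [Matrix.single_mul_single_of_ne _ _ _ _ h]
  have hEG : Matrix.single a b (1 : F) * Matrix.single b a (1 : F) * Matrix.single a b (1 : F)
      = Matrix.single a b (1 : F) := by
    rw [Matrix.single_mul_single_same, Matrix.single_mul_single_same]; simp
  have hGE : Matrix.single b a (1 : F) * Matrix.single a b (1 : F) * Matrix.single b a (1 : F)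
      = Matrix.single b a (1 : F) := by
    rw [Matrix.single_mul_single_same, Matrix.single_mul_single_same]; simp
  have := alg_conj (F := F) _ _ hE hG hEG hGE t s ht
  show (1 + Matrix.single a b t) * (1 + Matrix.single b a (-t⁻¹)) * (1 + Matrix.single a b t) * (1 + Matrix.single a b s) =
    (1 + Matrix.single b a (-(t⁻¹ ^ 2 * s))) * ((1 + Matrix.single a b t) * (1 + Matrix.single b a (-t⁻¹)) * (1 + Matrix.single a b t))
  simpa only [Matrix.smul_single, smul_eq_mul, mul_one] using this

end gen

variable {m : ℕ} {F : Type*} [Field F]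

theorem ne_i (i : Fin m) : i.castSucc ≠ i.succ := Fin.castSucc_lt_succ.ne

/-- simple root element -/
def x (i : Fin m) (t : F) : SpecialLinearGroup (Fin (m + 1)) F := SpecialLinearGroup.transvection (ne_i i) t
/-- negative simple root element -/
def y (i : Fin m) (t : F) : SpecialLinearGroup (Fin (m + 1)) F := SpecialLinearGroup.transvection (ne_i i).symm t

theorem mem_of_gen (K : Subgroup (SpecialLinearGroup (Fin (m + 1)) F)) (hx : ∀ i t, x i t ∈ K) (hy : ∀ i t, y i t ∈ K) :
    K = ⊤ := by
  rw [eq_top_iff, ← Cfsg.Agent.Lib.SLn.closure_transvectionSet, Subgroup.closure_le]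
  have hcomm : ∀ g h : SpecialLinearGroup (Fin (m + 1)) F, g ∈ K → h ∈ K → ⁅g, h⁆ ∈ K := by
    intro g h hg hh
    rw [commutatorElement_def]
    exact K.mul_mem (K.mul_mem (K.mul_mem hg hh) (K.inv_mem hg)) (K.inv_mem hh)
  have up : ∀ d : ℕ, ∀ (i j : Fin (m + 1)) (hij : i ≠ j), (i : ℕ) + d + 1 = j → ∀ t : F,
      SpecialLinearGroup.transvection hij t ∈ K := by
    intro d
    induction d with
    | zero =>
      intro i j hij e t
      have hi : (i : ℕ) < m := by have := j.2; omega
      have e1 : i = (⟨i, hi⟩ : Fin m).castSucc := by ext; simp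
      have e2 : j = (⟨i, hi⟩ : Fin m).succ := by ext; simp; omega
      have := hx ⟨i, hi⟩ t
      rw [x] at this
      convert this using 2
    | succ d ih =>
      intro i j hij e t
      have hk : (i : ℕ) + 1 < m + 1 := by have := j.2; omega
      have hik : i ≠ (⟨i + 1, hk⟩ : Fin (m + 1)) := by intro h; have := congrArg Fin.val h; simp at this
      have hkj : (⟨i + 1, hk⟩ : Fin (m + 1)) ≠ j := by intro h; have := congrArg Fin.val h; simp at this; omega
      rw [← Cfsg.Agent.Lib.SLn.commutator_transvection hij hik hkj t]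
      apply hcomm
      · have hi : (i : ℕ) < m := by omega
        have := hx ⟨i, hi⟩ t
        rw [x] at this
        convert this using 2
      · exact ih _ _ _ (by simp; omega) _
  have dn : ∀ d : ℕ, ∀ (i j : Fin (m + 1)) (hij : i ≠ j), (j : ℕ) + d + 1 = i → ∀ t : F,
      SpecialLinearGroup.transvection hij t ∈ K := by
    intro d
    induction d with
    | zero =>
      intro i j hij e t
      have hi : (j : ℕ) < m := by have := i.2; omega
      have e1 : j = (⟨j, hi⟩ : Fin m).castSucc := by ext; simp
      have e2 : i = (⟨j, hi⟩ : Fin m).succ := by ext; simp; omega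
      have := hy ⟨j, hi⟩ t
      rw [y] at this
      convert this using 2
    | succ d ih =>
      intro i j hij e t
      have hk : (j : ℕ) + 1 < m + 1 := by have := i.2; omega
      have hik : i ≠ (⟨j + 1, hk⟩ : Fin (m + 1)) := by intro h; have := congrArg Fin.val h; simp at this; omega
      have hkj : (⟨j + 1, hk⟩ : Fin (m + 1)) ≠ j := by intro h; have := congrArg Fin.val h; simp at this
      rw [← Cfsg.Agent.Lib.SLn.commutator_transvection hij hik hkj t]
      apply hcomm
      · exact ih _ _ _ (by simp; omega) _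
      · have hi : (j : ℕ) < m := by omega
        have := hy ⟨j, hi⟩ 1
        rw [y] at this
        convert this using 2
  rintro _ ⟨i, j, h, t, rfl⟩
  rcases lt_or_gt_of_ne h with h' | h'
  · exact up (j - i - 1) i j h (by have : (i : ℕ) < j := h'; omega) t
  · exact dn (i - j - 1) i j h (by have : (j : ℕ) < i := h'; omega) t

variable [Finite F]

/-- the upper triangular subgroup -/
def B (m : ℕ) (F : Type*) [Field F] [Finite F] : Subgroup (SpecialLinearGroup (Fin (m + 1)) F) where
  carrier := {g | ∀ i j, j < i → g i j = 0}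
  one_mem' := by
    intro i j hij
    rw [slone_apply, if_neg hij.ne']
  mul_mem' := by
    intro a b ha hb i j hij
    rw [slmul_apply]
    apply Finset.sum_eq_zero
    intro k _
    rcases lt_or_ge k i with h | h
    · rw [ha i k h, zero_mul]
    · rw [hb k j (lt_of_lt_of_le hij h), mul_zero]
  inv_mem' := by
    intro x hx
    refine inv_mem_of_finite (fun g : SpecialLinearGroup (Fin (m + 1)) F => ∀ i j, j < i → g i j = 0) ?_ ?_ x hx
    · intro i j hij
      rw [slone_apply, if_neg hij.ne']
    · intro a b ha hb i j hij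
      rw [slmul_apply]
      apply Finset.sum_eq_zero
      intro k _
      rcases lt_or_ge k i with h | h
      · rw [ha i k h, zero_mul]
      · rw [hb k j (lt_of_lt_of_le hij h), mul_zero]

theorem mem_B {g : SpecialLinearGroup (Fin (m + 1)) F} : g ∈ B m F ↔ ∀ i j, j < i → g i j = 0 := Iff.rfl

theorem diag_mul {a b : SpecialLinearGroup (Fin (m + 1)) F} (ha : a ∈ B m F) (hb : b ∈ B m F) (i : Fin (m + 1)) :
    (a * b) i i = a i i * b i i := by
  rw [slmul_apply, Finset.sum_eq_single i]
  · intro k _ hk
    rcases lt_or_gt_of_ne hk with h | h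
    · rw [ha i k h, zero_mul]
    · rw [hb k i h, mul_zero]
  · simp

theorem diag_ne {a : SpecialLinearGroup (Fin (m + 1)) F} (ha : a ∈ B m F) (i : Fin (m + 1)) : a i i ≠ 0 := by
  intro h
  have := diag_mul ha (inv_mem ha) i
  rw [mul_inv_cancel, slone_apply, if_pos rfl, h, zero_mul] at this
  exact one_ne_zero this

theorem diag_pow {a : SpecialLinearGroup (Fin (m + 1)) F} (ha : a ∈ B m F) (i : Fin (m + 1)) (k : ℕ) :
    (a ^ k) i i = a i i ^ k := by
  induction k with
  | zero => rw [pow_zero, pow_zero, slone_apply, if_pos rfl]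
  | succ k ih => rw [pow_succ, pow_succ, diag_mul (pow_mem ha k) ha, ih]

/-- upper unitriangular -/
abbrev U (m : ℕ) (F : Type*) [Field F] [Finite F] : Subgroup (SpecialLinearGroup (Fin (m + 1)) F) :=
  patU (str_lt (α := Fin (m + 1)))
/-- lower unitriangular -/
abbrev V (m : ℕ) (F : Type*) [Field F] [Finite F] : Subgroup (SpecialLinearGroup (Fin (m + 1)) F) :=
  patU (str_gt (α := Fin (m + 1)))

theorem mem_U {g : SpecialLinearGroup (Fin (m + 1)) F} : g ∈ U m F ↔ g ∈ B m F ∧ ∀ i, g i i = 1 := by
  rw [mem_patU]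
  constructor
  · intro h
    exact ⟨fun i j hij => by rw [h i j (not_lt.2 hij.le), if_neg hij.ne'], fun i => by rw [h i i (lt_irrefl i), if_pos rfl]⟩
  · rintro ⟨h1, h2⟩ i j hij
    rcases eq_or_ne i j with rfl | h
    · rw [h2, if_pos rfl]
    · rw [h1 i j (lt_of_le_of_ne (not_lt.1 hij) h.symm), if_neg h]

theorem U_le_B : U m F ≤ B m F := fun _ h => (mem_U.1 h).1

theorem B_norm {b : SpecialLinearGroup (Fin (m + 1)) F} (hb : b ∈ B m F) : c b • U m F = U m F := by
  rw [← mem_normalizer, Subgroup.mem_normalizer_iff]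
  have key : ∀ b ∈ B m F, ∀ u ∈ U m F, b * u * b⁻¹ ∈ U m F := by
    intro b hb u hu
    rw [mem_U] at hu ⊢
    refine ⟨mul_mem (mul_mem hb hu.1) (inv_mem hb), fun i => ?_⟩
    rw [diag_mul (mul_mem hb hu.1) (inv_mem hb), diag_mul hb hu.1, hu.2, mul_one, ← diag_mul hb (inv_mem hb),
      mul_inv_cancel, slone_apply, if_pos rfl]
  intro u
  refine ⟨key b hb u, fun h => ?_⟩
  have := key b⁻¹ (inv_mem hb) _ h
  have e : b⁻¹ * (b * u * b⁻¹) * b⁻¹⁻¹ = u := by group
  rwa [e] at this

theorem x_mem_U (i : Fin m) (t : F) : x i t ∈ U m F := transvection_mem_patU _ Fin.castSucc_lt_succ t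
theorem y_mem_V (i : Fin m) (t : F) : y i t ∈ V m F := transvection_mem_patU _ (by exact Fin.castSucc_lt_succ) t

/-- the monomial subgroup -/
def N (m : ℕ) (F : Type*) [Field F] [Finite F] : Subgroup (SpecialLinearGroup (Fin (m + 1)) F) where
  carrier := {n | ∃ ω, Mono n ω}
  one_mem' := ⟨1, by intro i j hij; rw [slone_apply, if_neg]; simpa using hij⟩
  mul_mem' := by
    rintro a b ⟨ω, h⟩ ⟨ω', h'⟩
    exact ⟨_, h.mul h'⟩
  inv_mem' := by
    intro x hx
    refine inv_mem_of_finite (fun g : SpecialLinearGroup (Fin (m + 1)) F => ∃ ω, Mono g ω) ?_ ?_ x hx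
    · exact ⟨1, by intro i j hij; rw [slone_apply, if_neg]; simpa using hij⟩
    · rintro a b ⟨ω, h⟩ ⟨ω', h'⟩
      exact ⟨_, h.mul h'⟩

theorem mono_one_mem {n : SpecialLinearGroup (Fin (m + 1)) F} (h : Mono n 1) : n ∈ B m F := by
  intro i j hij
  exact h i j (by simpa using hij.ne')

/-- simple reflection representative -/
def s (i : Fin m) : SpecialLinearGroup (Fin (m + 1)) F := nn (ne_i i) 1

omit [Finite F] in
theorem s_mono (i : Fin m) : Mono (s i : SpecialLinearGroup (Fin (m + 1)) F) (Equiv.swap i.castSucc i.succ) :=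
  nn_mono _ one_ne_zero

/-- membership of conjugated root elements -/
theorem conj_x_mem {n : SpecialLinearGroup (Fin (m + 1)) F} {ω : Equiv.Perm (Fin (m + 1))} (h : Mono n ω) {a b : Fin (m + 1)}
    (hab : a ≠ b) (hlt : ω⁻¹ a < ω⁻¹ b) (t : F) : n⁻¹ * SpecialLinearGroup.transvection hab t * n ∈ U m F := by
  rw [← mem_c_smul, h.smul]
  apply transvection_mem_patU
  exact hlt

theorem bruhat (g : SpecialLinearGroup (Fin (m + 1)) F) : ∃ b ∈ B m F, ∃ n ∈ N m F, ∃ b' ∈ B m F, g = b * n * b' := by
  apply Cfsg.Agent.H8.BruhatGen.bruhat_of (B m F) (N m F) (s (F := F)) (fun i => Set.range (x (F := F) i))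
  · intro i; exact ⟨_, s_mono i⟩
  · intro i
    apply mono_one_mem
    have := (s_mono (F := F) i).mul (s_mono i)
    rwa [Equiv.swap_mul_self] at this
  · intro i b hb
    refine ⟨b * (x i (b i.castSucc i.succ / b i.castSucc i.castSucc))⁻¹, mul_mem hb (inv_mem (U_le_B (x_mem_U i _))),
      x i (b i.castSucc i.succ / b i.castSucc i.castSucc), ⟨_, rfl⟩, by group, ?_⟩
    set t := b i.castSucc i.succ / b i.castSucc i.castSucc with ht
    set b' := b * (x i t)⁻¹ with hb'
    have hbB : b' ∈ B m F := mul_mem hb (inv_mem (U_le_B (x_mem_U i _)))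
    have hz : b' i.castSucc i.succ = 0 := by
      rw [hb', x, SpecialLinearGroup.transvection_inv, slmul_apply]
      have : ∀ k, b i.castSucc k * (SpecialLinearGroup.transvection (ne_i i) (-t) : SpecialLinearGroup (Fin (m + 1)) F) k i.succ =
          (if k = i.succ then b i.castSucc i.succ else 0) + (if k = i.castSucc then - (b i.castSucc i.castSucc * t) else 0) := by
        intro k
        rw [transvection_apply]
        by_cases h1 : k = i.succ
        · subst h1; simp [(ne_i i).symm]
        · by_cases h2 : k = i.castSucc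
          · subst h2; simp [ne_i i]
          · simp [h1, h2]
      rw [Finset.sum_congr rfl (fun k _ => this k), Finset.sum_add_distrib]
      simp only [Finset.sum_ite_eq', Finset.mem_univ, if_true]
      rw [ht, mul_div_cancel₀ _ (diag_ne hb _)]; ring
    intro a d had
    have hm := (s_mono (F := F) i).inv
    have e : s i * b' * (s i)⁻¹ = (s i)⁻¹⁻¹ * b' * (s i)⁻¹ := by group
    rw [e, hm.conj_zero]
    rw [Equiv.swap_inv]
    by_cases h1 : Equiv.swap i.castSucc i.succ d < Equiv.swap i.castSucc i.succ a
    · exact hbB _ _ h1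
    · have h2 : Equiv.swap i.castSucc i.succ a = i.castSucc ∧ Equiv.swap i.castSucc i.succ d = i.succ := by
        have h3 : Equiv.swap i.castSucc i.succ a ≤ Equiv.swap i.castSucc i.succ d := not_lt.1 h1
        simp only [Equiv.swap_apply_def] at h3 ⊢
        have hl : i.castSucc < i.succ := Fin.castSucc_lt_succ
        by_cases ha1 : a = i.castSucc
        · subst ha1
          rw [if_pos rfl] at h3 ⊢
          exfalso
          by_cases hd1 : d = i.castSucc
          · subst hd1; exact lt_irrefl _ had
          · by_cases hd2 : d = i.succ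
            · subst hd2; exact absurd had (not_lt.2 hl.le)
            · rw [if_neg hd1, if_neg hd2] at h3
              exact absurd (hl.trans_le h3) (not_lt.2 had.le)
        · by_cases ha2 : a = i.succ
          · subst ha2
            rw [if_neg (ne_i i).symm, if_pos rfl] at h3 ⊢
            refine ⟨rfl, ?_⟩
            by_cases hd1 : d = i.castSucc
            · rw [if_pos hd1]
            · exfalso
              have hd2 : d ≠ i.succ := had.ne
              rw [if_neg hd1, if_neg hd2] at h3
              have h4 : i.castSucc < d := lt_of_le_of_ne h3 (Ne.symm hd1)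
              have h5 : (i : ℕ) < d := h4
              have h6 : (d : ℕ) < i + 1 := had
              omega
          · rw [if_neg ha1, if_neg ha2] at h3 ⊢
            exfalso
            by_cases hd1 : d = i.castSucc
            · subst hd1
              rw [if_pos rfl] at h3
              have h4 : a < i.succ := lt_of_le_of_ne h3 ha2
              have h5 : (i : ℕ) < a := had
              have h6 : (a : ℕ) < i + 1 := h4
              omega
            · by_cases hd2 : d = i.succ
              · subst hd2
                rw [if_neg (ne_i i).symm, if_pos rfl] at h3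
                exact absurd (had.trans_le h3) (not_lt.2 hl.le)
              · rw [if_neg hd1, if_neg hd2] at h3
                exact absurd had (not_lt.2 h3)
      rw [h2.1, h2.2, hz]
  · rintro i n ⟨ω, h⟩
    rcases lt_or_gt_of_ne (fun e => ne_i i (ω⁻¹.injective e) : ω⁻¹ i.castSucc ≠ ω⁻¹ i.succ) with h1 | h1
    · left
      rintro _ ⟨t, rfl⟩
      exact U_le_B (conj_x_mem h (ne_i i) h1 t)
    · right
      rintro _ ⟨t, rfl⟩
      have e : n⁻¹ * ((s i)⁻¹ * x i t * s i) * n = (s i * n)⁻¹ * x i t * (s i * n) := by group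
      rw [e]
      refine U_le_B (conj_x_mem ((s_mono i).mul h) (ne_i i) ?_ t)
      rw [_root_.mul_inv_rev, Equiv.swap_inv]
      simpa using h1
  · rintro i _ ⟨t, rfl⟩ hne
    have ht : t ≠ 0 := by rintro rfl; exact hne (SpecialLinearGroup.transvection_coeff_zero _)
    have e1 : s i * x i t * (s i)⁻¹ = y i (-t) := by
      rw [mul_inv_eq_iff_eq_mul, s, x, nn_mul (ne_i i) one_ne_zero, y]
      congr 2; simp
    have e2 : y i (-t) = (x i t⁻¹)⁻¹ * nn (ne_i i) t⁻¹ * (x i t⁻¹)⁻¹ := by
      rw [nn, inv_inv]; simp only [x, y]; group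
    rw [e1, e2]
    refine ⟨(x i t⁻¹)⁻¹ * (nn (ne_i i) t⁻¹ * (s i)⁻¹), ?_, (x i t⁻¹)⁻¹, ⟨-t⁻¹, ?_⟩, by group⟩
    · apply mul_mem (inv_mem (U_le_B (x_mem_U i _)))
      have hh : nn (ne_i i) t⁻¹ * (s i)⁻¹ = nn (ne_i i) t⁻¹ * s i * (s i * s i)⁻¹ := by group
      rw [hh]
      apply mul_mem
      · apply mono_one_mem
        have := (nn_mono (ne_i i) (inv_ne_zero ht)).mul (s_mono (F := F) i)
        rwa [Equiv.swap_mul_self] at this
      · apply inv_mem
        apply mono_one_mem
        have := (s_mono (F := F) i).mul (s_mono i)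
        rwa [Equiv.swap_mul_self] at this
    · simp only [x, SpecialLinearGroup.transvection_inv]
  · apply mem_of_gen
    · intro i t
      exact Subgroup.subset_closure (Or.inl (U_le_B (x_mem_U i t)))
    · intro i t
      have e1 : s i * x i (-t) * (s i)⁻¹ = y i t := by
        rw [mul_inv_eq_iff_eq_mul, s, x, nn_mul (ne_i i) one_ne_zero, y]
        congr 2; simp
      rw [← e1]
      exact mul_mem (mul_mem (Subgroup.subset_closure (Or.inr ⟨i, rfl⟩)) (Subgroup.subset_closure (Or.inl (U_le_B (x_mem_U i _)))))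
        (inv_mem (Subgroup.subset_closure (Or.inr ⟨i, rfl⟩)))

end Cfsg.Agent.H8.SLTri
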