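import Mathlib
import Cfsg.Agent.H8.SLTri

set_option autoImplicit false
set_option linter.all false

/-! The data of `AutBN` for `SL_{m+1}(F)`. -/

namespace Cfsg.Agent.H8.SLData

open scoped commutatorElement
open Matrix Pointwise Cfsg.Agent.H8.AutBN Cfsg.Agent.H8.SLPat Cfsg.Agent.H8.SLTri

section root

variable {ι : Type*} [Fintype ι] [DecidableEq ι] {F : Type*} [Field F] [Finite F]

/-- the reversed relation without one pair -/
def opp (R : ι → ι → Prop) (p q : ι) : ι → ι → Prop := fun a b => R b a ∧ ¬ (a = q ∧ b = p)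

theorem transvection_conj_apply {p q : ι} (hpq : p ≠ q) (t : F) (v : SpecialLinearGroup ι F) (a b : ι) :
    (SpecialLinearGroup.transvection hpq t * v * (SpecialLinearGroup.transvection hpq t)⁻¹) a b =
      v a b + (if a = p then t * v q b else 0) - (if b = q then t * v a p else 0) -
        (if a = p ∧ b = q then t * t * v q p else 0) := by
  rw [SpecialLinearGroup.transvection_inv]
  have h1 : ∀ (w : SpecialLinearGroup ι F) (t : F) (a b : ι), (SpecialLinearGroup.transvection hpq t * w) a b =
      w a b + (if a = p then t * w q b else 0) := by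
    intro w t a b
    rw [slmul_apply]
    have : ∀ k, (SpecialLinearGroup.transvection hpq t : SpecialLinearGroup ι F) a k * w k b =
        (if k = a then w a b else 0) + (if k = q then (if a = p then t * w q b else 0) else 0) := by
      intro k
      rw [transvection_apply]
      by_cases h1 : k = a
      · subst h1
        by_cases h2 : k = p
        · subst h2; simp [hpq]
        · by_cases h3 : k = q
          · subst h3; simp [h2]
          · simp [h2, h3]
      · by_cases h2 : k = q
        · subst h2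
          by_cases h3 : a = p
          · subst h3; simp [h1, Ne.symm h1]
          · simp [h1, h3, Ne.symm h1]
        · simp [h1, h2, Ne.symm h1]
    rw [Finset.sum_congr rfl (fun k _ => this k), Finset.sum_add_distrib]
    simp
  have h2 : ∀ (w : SpecialLinearGroup ι F) (t : F) (a b : ι), (w * SpecialLinearGroup.transvection hpq t) a b =
      w a b + (if b = q then w a p * t else 0) := by
    intro w t a b
    rw [slmul_apply]
    have : ∀ k, w a k * (SpecialLinearGroup.transvection hpq t : SpecialLinearGroup ι F) k b =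
        (if k = b then w a b else 0) + (if k = p then (if b = q then w a p * t else 0) else 0) := by
      intro k
      rw [transvection_apply]
      by_cases g1 : k = b
      · subst g1
        by_cases g2 : k = q
        · subst g2
          by_cases g3 : k = p
          · exact absurd g3.symm hpq
          · simp [g3]
        · by_cases g3 : k = p
          · subst g3; simp [g2]
          · simp [g2, g3]
      · by_cases g2 : k = p
        · subst g2
          by_cases g3 : b = q
          · subst g3; simp [g1]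
          · simp [g1, g3]
        · simp [g1, g2]
    rw [Finset.sum_congr rfl (fun k _ => this k), Finset.sum_add_distrib]
    simp
  rw [h2, h1, h1]
  by_cases ha : a = p
  · by_cases hb : b = q
    · simp only [ha, hb, if_true, and_self]; ring
    · simp [ha, hb]
  · by_cases hb : b = q
    · simp only [ha, hb, if_true, if_false, false_and]; ring
    · simp [ha, hb]

theorem root_norm {R : ι → ι → Prop} (hR : Str R) (htot : ∀ a b, a ≠ b → R a b ∨ R b a) {p q : ι} (hpq : p ≠ q) (h1 : R p q)
    (hadj : ∀ k, ¬ (R p k ∧ R k q)) (hS : Str (opp R p q)) (u : SpecialLinearGroup ι F) :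
    (u ∈ patU hR ∧ u ∈ Subgroup.normalizer ((patU hS : Subgroup (SpecialLinearGroup ι F)) : Set (SpecialLinearGroup ι F))) ↔
      ∃ t, u = SpecialLinearGroup.transvection hpq t := by
  constructor
  · rintro ⟨hu, hn⟩
    have hu2 := mem_patU.1 hu
    have hu3 := mem_patU.1 (inv_mem hu)
    have key : ∀ a0 c0, R a0 c0 → ¬ (a0 = p ∧ c0 = q) → u a0 c0 = 0 := by
      intro a0 c0 h hne
      have hac : c0 ≠ a0 := by rintro rfl; exact hR.irr _ h
      have hm : SpecialLinearGroup.transvection hac (1 : F) ∈ (patU hS : Subgroup (SpecialLinearGroup ι F)) := by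
        apply transvection_mem_patU
        exact ⟨h, fun h' => hne ⟨h'.2, h'.1⟩⟩
      have hm2 := (Subgroup.mem_normalizer_iff.1 hn _).1 hm
      have hm3 := mem_patU.1 hm2 a0 a0 (hS.irr _)
      rw [if_pos rfl] at hm3
      have e : ∀ b, (u * SpecialLinearGroup.transvection hac (1 : F)) a0 b = u a0 b + (if b = a0 then u a0 c0 else 0) := by
        intro b
        rw [slmul_apply]
        have : ∀ k, u a0 k * (SpecialLinearGroup.transvection hac (1 : F) : SpecialLinearGroup ι F) k b =
            (if k = b then u a0 b else 0) + (if k = c0 then (if b = a0 then u a0 c0 else 0) else 0) := by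
          intro k
          rw [transvection_apply]
          by_cases g1 : k = b
          · subst g1
            by_cases g2 : k = a0
            · subst g2; simp [hac.symm]
            · simp [g2]
          · by_cases g2 : k = c0
            · subst g2
              by_cases g3 : b = a0
              · subst g3; simp [g1]
              · simp [g1, g3]
            · simp [g1, g2]
        rw [Finset.sum_congr rfl (fun k _ => this k), Finset.sum_add_distrib]
        simp
      rw [slmul_apply] at hm3
      have e2 : ∀ k, (u * SpecialLinearGroup.transvection hac (1 : F)) a0 k * (u⁻¹) k a0 =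
          u a0 k * u⁻¹ k a0 + (if k = a0 then u a0 c0 * u⁻¹ a0 a0 else 0) := by
        intro k
        rw [e k, add_mul]
        by_cases g : k = a0
        · subst g; simp
        · simp [g]
      rw [Finset.sum_congr rfl (fun k _ => e2 k), Finset.sum_add_distrib, ← slmul_apply, mul_inv_cancel, slone_apply,
        if_pos rfl, Finset.sum_ite_eq', if_pos (Finset.mem_univ _), hu3 a0 a0 (hR.irr _), if_pos rfl, mul_one] at hm3
      simpa using hm3
    refine ⟨u p q, ?_⟩
    ext a b
    rw [transvection_apply]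
    by_cases h : a = p ∧ b = q
    · obtain ⟨rfl, rfl⟩ := h
      simp [hpq]
    · rw [if_neg h, add_zero]
      by_cases hr : R a b
      · rw [key a b hr h, if_neg]
        rintro rfl; exact hR.irr _ hr
      · exact hu2 a b hr
  · rintro ⟨t, rfl⟩
    refine ⟨transvection_mem_patU _ h1 t, ?_⟩
    have key : ∀ t : F, ∀ v ∈ (patU hS : Subgroup (SpecialLinearGroup ι F)),
        SpecialLinearGroup.transvection hpq t * v * (SpecialLinearGroup.transvection hpq t)⁻¹ ∈
          (patU hS : Subgroup (SpecialLinearGroup ι F)) := by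
      intro t v hv
      rw [mem_patU] at hv ⊢
      have hasym : ∀ a b, R a b → ¬ R b a := fun a b g1 g2 => hR.irr _ (hR.tr _ _ _ g1 g2)
      have hqp : v q p = 0 := by
        rw [hv q p (fun h => h.2 ⟨rfl, rfl⟩), if_neg hpq.symm]
      intro a b hab
      rw [transvection_conj_apply, hqp, mul_zero, ite_self, sub_zero, hv a b hab]
      by_cases ha : a = p
      · subst ha
        by_cases hb : b = q
        · subst hb
          have g1 : v b b = 1 := by rw [hv b b (hS.irr _), if_pos rfl]
          have g2 : v a a = 1 := by rw [hv a a (hS.irr _), if_pos rfl]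
          rw [g1, g2]; simp
        · rw [if_neg hb, if_pos rfl, sub_zero]
          have g : v q b = 0 := by
            by_cases hb2 : b = a
            · rw [hb2]; exact hqp
            · have hR1 : ¬ R b a := fun h => hab ⟨h, fun h' => hpq h'.1⟩
              have hR2 : R a b := (htot a b (Ne.symm hb2)).resolve_right hR1
              have hR3 : ¬ R b q := fun h => hadj b ⟨hR2, h⟩
              rw [hv q b (fun h => hR3 h.1), if_neg (Ne.symm hb)]
          rw [g, mul_zero, add_zero]
      · rw [if_neg ha, add_zero]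
        by_cases hb : b = q
        · subst hb
          rw [if_pos rfl]
          have g : v a p = 0 := by
            by_cases ha2 : a = b
            · rw [ha2]; exact hqp
            · have hR1 : ¬ R b a := fun h => hab ⟨h, fun h' => hpq h'.2.symm⟩
              have hR2 : R a b := (htot a b ha2).resolve_right hR1
              have hR3 : ¬ R p a := fun h => hadj a ⟨h, hR2⟩
              rw [hv a p (fun h => hR3 h.1), if_neg ha]
          rw [g, mul_zero, sub_zero]
        · rw [if_neg hb, sub_zero]
    rw [Subgroup.mem_normalizer_iff]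
    intro v
    refine ⟨key t v, fun h => ?_⟩
    have := key (-t) _ h
    rw [← SpecialLinearGroup.transvection_inv] at this
    have e : (SpecialLinearGroup.transvection hpq t)⁻¹ * (SpecialLinearGroup.transvection hpq t * v * (SpecialLinearGroup.transvection hpq t)⁻¹) *
        (SpecialLinearGroup.transvection hpq t)⁻¹⁻¹ = v := by group
    rwa [e] at this

end root

variable {m : ℕ} {F : Type*} [Field F] [Finite F]

theorem swap_val (i : Fin m) (z : Fin (m + 1)) : ((Equiv.swap i.castSucc i.succ z : Fin (m + 1)) : ℕ) =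
    if (z : ℕ) = i then (i : ℕ) + 1 else if (z : ℕ) = i + 1 then (i : ℕ) else z := by
  rw [Equiv.swap_apply_def]
  by_cases h1 : z = i.castSucc
  · subst h1; simp
  · have h1' : (z : ℕ) ≠ i := fun e => h1 (by ext; simpa using e)
    by_cases h2 : z = i.succ
    · subst h2; simp [(ne_i i).symm]
    · have h2' : (z : ℕ) ≠ i + 1 := fun e => h2 (by ext; simpa using e)
      simp [h1, h2, h1', h2']

theorem swap_lt (i : Fin m) {a b : Fin (m + 1)} (hab : a < b) :
    Equiv.swap i.castSucc i.succ a < Equiv.swap i.castSucc i.succ b ↔ ¬ (a = i.castSucc ∧ b = i.succ) := by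
  have hab' : (a : ℕ) < b := hab
  have ea : a = i.castSucc ↔ (a : ℕ) = i := by rw [Fin.ext_iff]; simp
  have eb' : b = i.succ ↔ (b : ℕ) = i + 1 := by rw [Fin.ext_iff]; simp
  rw [Fin.lt_def, swap_val, swap_val, ea, eb']
  split_ifs <;> omega

theorem exists_descent (ω : Equiv.Perm (Fin (m + 1))) (h : ω ≠ 1) : ∃ i : Fin m, ω i.succ < ω i.castSucc := by
  by_contra hcon
  push Not at hcon
  apply h
  have hmono : StrictMono ω := by
    rw [Fin.strictMono_iff_lt_succ]
    intro i
    exact lt_of_le_of_ne (hcon i) (fun e => ne_i i (ω.injective e))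
  ext x
  have : (StrictMono.orderIsoOfSurjective ω hmono ω.surjective) = OrderIso.refl _ := Subsingleton.elim _ _
  have h2 := congrArg (fun f => f x) this
  simpa using congrArg Fin.val h2

theorem smul_U_eq_iff {g : SpecialLinearGroup (Fin (m + 1)) F} : c g • U m F = U m F ↔ g ∈ B m F := by
  refine ⟨fun h => ?_, B_norm⟩
  obtain ⟨b, hb, n, ⟨ω, hn⟩, b', hb', rfl⟩ := bruhat g
  rw [c_mul, c_mul, mul_smul, mul_smul, B_norm hb'] at h
  have h2 : c n • U m F = U m F := by
    have h3 := congrArg (fun H => c b⁻¹ • H) h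
    rw [smul_smul, ← c_mul, inv_mul_cancel, c_one, one_smul, B_norm (inv_mem hb)] at h3
    exact h3
  have h3 : ω = 1 := by
    by_contra hne
    obtain ⟨i, hi⟩ := exists_descent ω⁻¹ (by simpa using hne)
    rw [hn.smul, patU_eq_iff] at h2
    have := (h2 i.castSucc i.succ).2 Fin.castSucc_lt_succ
    exact lt_asymm this hi
  subst h3
  exact mul_mem (mul_mem hb (mono_one_mem hn)) hb'

/-- superdiagonal entry of a product -/
theorem super_mul {a b : SpecialLinearGroup (Fin (m + 1)) F} (ha : a ∈ B m F) (hb : b ∈ B m F) (i : Fin m) :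
    (a * b) i.castSucc i.succ = a i.castSucc i.castSucc * b i.castSucc i.succ + a i.castSucc i.succ * b i.succ i.succ := by
  rw [slmul_apply]
  have : ∀ k, a i.castSucc k * b k i.succ = (if k = i.castSucc then a i.castSucc i.castSucc * b i.castSucc i.succ else 0) +
      (if k = i.succ then a i.castSucc i.succ * b i.succ i.succ else 0) := by
    intro k
    by_cases h1 : k = i.castSucc
    · subst h1; simp [ne_i i]
    · by_cases h2 : k = i.succ
      · subst h2; simp [(ne_i i).symm]
      · rw [if_neg h1, if_neg h2, add_zero]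
        rcases lt_or_gt_of_ne h1 with h | h
        · rw [ha _ _ h, zero_mul]
        · have h' : i.succ < k := by
            have h3 : (i : ℕ) < k := h
            have h4 : (k : ℕ) ≠ i + 1 := fun e => h2 (by ext; simpa using e)
            rw [Fin.lt_def]; simp; omega
          rw [hb _ _ h', mul_zero]
  rw [Finset.sum_congr rfl (fun k _ => this k), Finset.sum_add_distrib]
  simp

variable (F) in
/-- the antidiagonal monomial element -/
noncomputable def n0 (m : ℕ) : SpecialLinearGroup (Fin (m + 1)) F := (exists_mono (F := F) (Fin.revPerm (n := m + 1))).choose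

omit [Finite F] in
theorem n0_mono : Mono (n0 F m) Fin.revPerm := (exists_mono (F := F) (Fin.revPerm (n := m + 1))).choose_spec

/-- relation of `U_i` -/
theorem Ui_eq (i : Fin m) : U m F ⊓ c (s (F := F) i) • U m F =
    patU (R := fun a b => a < b ∧ (Equiv.swap i.castSucc i.succ)⁻¹ a < (Equiv.swap i.castSucc i.succ)⁻¹ b)
      (str_inf str_lt (str_perm str_lt _)) := by
  rw [(s_mono i).smul, patU_inf]

theorem Vi_eq (i : Fin m) : V m F ⊓ c (s (F := F) i) • V m F =
    patU (R := fun a b => b < a ∧ (Equiv.swap i.castSucc i.succ)⁻¹ b < (Equiv.swap i.castSucc i.succ)⁻¹ a)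
      (str_inf str_gt (str_perm str_gt _)) := by
  rw [(s_mono i).smul, patU_inf]

theorem isP {p : ℕ} [Fact p.Prime] [CharP F p] : IsPGroup p (U m F) := by
  rintro ⟨u, hu⟩
  rw [mem_U] at hu
  have htri : (u.1 - 1 : Matrix (Fin (m + 1)) (Fin (m + 1)) F).IsUpperTriangular := by
    intro i j hij
    have h1 : j < i := hij
    rw [Matrix.sub_apply, Matrix.one_apply, if_neg h1.ne']
    have := hu.1 i j h1
    rw [this, sub_zero]
  have hcp := Matrix.charpoly_of_isUpperTriangular _ htri
  have hX : (u.1 - 1 : Matrix (Fin (m + 1)) (Fin (m + 1)) F).charpoly = Polynomial.X ^ (m + 1) := by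
    rw [hcp]
    have : ∀ i : Fin (m + 1), (Polynomial.X - Polynomial.C ((u.1 - 1 : Matrix (Fin (m + 1)) (Fin (m + 1)) F) i i)) = Polynomial.X := by
      intro i
      rw [Matrix.sub_apply, Matrix.one_apply, if_pos rfl]
      have h2 := hu.2 i
      rw [h2, sub_self, Polynomial.C_0, sub_zero]
    rw [Finset.prod_congr rfl (fun i _ => this i)]
    simp
  have hz := Matrix.aeval_self_charpoly (u.1 - 1 : Matrix (Fin (m + 1)) (Fin (m + 1)) F)
  rw [hX, map_pow, Polynomial.aeval_X] at hz
  refine ⟨m + 1, ?_⟩
  apply Subtype.ext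
  apply Subtype.ext
  show (u.1) ^ p ^ (m + 1) = 1
  have h3 : (u.1 - 1 : Matrix (Fin (m + 1)) (Fin (m + 1)) F) ^ p ^ (m + 1) = 0 := by
    have hle : m + 1 ≤ p ^ (m + 1) := (Nat.lt_pow_self (Fact.out : p.Prime).one_lt).le
    rw [← Nat.sub_add_cancel hle, pow_add, hz, mul_zero]
  have : CharP (Matrix (Fin (m + 1)) (Fin (m + 1)) F) p := inferInstance
  have hc : Commute (u.1) (1 : Matrix (Fin (m + 1)) (Fin (m + 1)) F) := Commute.one_right _
  have h4 := sub_pow_char_pow_of_commute (p := p) (n := m + 1) hc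
  rw [h3, one_pow] at h4
  exact (sub_eq_zero.1 h4.symm)


theorem patU_bot_iff {ι : Type*} [Fintype ι] [DecidableEq ι] {R : ι → ι → Prop} (hR : Str R)
    (h : (patU hR : Subgroup (SpecialLinearGroup ι F)) = ⊥) : ∀ a b, ¬ R a b := by
  have hS : Str (fun _ _ : ι => False) := ⟨fun _ h => h, fun _ _ _ h _ => h⟩
  have h2 : (patU hR : Subgroup (SpecialLinearGroup ι F)) = patU hS := by rw [h, patU_bot (fun _ _ h => h)]
  intro a b hab
  exact (patU_eq_iff.1 h2 a b).1 hab

theorem Vstar_aux (i : Fin m) (a b : Fin (m + 1)) :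
    ((Fin.revPerm (n := m + 1))⁻¹ a < (Fin.revPerm (n := m + 1))⁻¹ b ∧ (Equiv.swap i.castSucc i.succ)⁻¹ ((Fin.revPerm (n := m + 1))⁻¹ a) <
      (Equiv.swap i.castSucc i.succ)⁻¹ ((Fin.revPerm (n := m + 1))⁻¹ b)) ↔
    (b < a ∧ (Equiv.swap (Fin.rev i).castSucc (Fin.rev i).succ)⁻¹ b < (Equiv.swap (Fin.rev i).castSucc (Fin.rev i).succ)⁻¹ a) := by
  have e : ∀ z : Fin (m + 1), (Fin.revPerm (n := m + 1))⁻¹ z = Fin.rev z := fun z => rfl
  simp only [e, Equiv.swap_inv, Fin.rev_lt_rev]
  constructor
  · rintro ⟨h1, h2⟩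
    refine ⟨h1, ?_⟩
    rw [swap_lt _ (Fin.rev_lt_rev.2 h1)] at h2
    rw [swap_lt _ h1]
    rintro ⟨h3, h4⟩
    apply h2
    rw [h3, h4]
    simp [Fin.rev_succ, Fin.rev_castSucc]
  · rintro ⟨h1, h2⟩
    refine ⟨h1, ?_⟩
    rw [swap_lt _ h1] at h2
    rw [swap_lt _ (Fin.rev_lt_rev.2 h1)]
    rintro ⟨h3, h4⟩
    apply h2
    rw [← Fin.rev_inj, h4, ← Fin.rev_inj (i := a), h3]
    simp [Fin.rev_succ, Fin.rev_castSucc]

variable (p : ℕ) [Fact p.Prime] [CharP F p]

/-- the data -/
noncomputable def dat (p m : ℕ) (F : Type*) [Field F] [Finite F] [Fact p.Prime] [CharP F p] :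
    Data p (SpecialLinearGroup (Fin (m + 1)) F) (Fin m) where
  U := U m F
  V := V m F
  N := N m F
  s := s
  n0 := n0 F m
  star := Fin.revPerm
  isP := isP
  mx := by
    rintro g hg ⟨k, hk⟩
    rw [smul_U_eq_iff] at hg
    rw [mem_U]
    refine ⟨hg, fun i => ?_⟩
    have h1 : g i i ^ p ^ k = 1 := by rw [← diag_pow hg, hk, slone_apply, if_pos rfl]
    have h2 : (g i i - 1) ^ p ^ k = 0 := by
      rw [sub_pow_char_pow, h1, one_pow, sub_self]
    exact sub_eq_zero.1 (eq_zero_of_pow_eq_zero h2)
  hV := by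
    rw [n0_mono.smul, patU_eq_iff]
    intro a b
    show b < a ↔ Fin.rev a < Fin.rev b
    rw [Fin.rev_lt_rev]
  disj := by
    rw [patU_inf]
    exact patU_bot (fun a b h => lt_asymm h.1 h.2)
  bruhat := by
    intro g
    obtain ⟨b, hb, n, hn, b', hb', e⟩ := bruhat g
    exact ⟨b, n, b', B_norm hb, hn, B_norm hb', e⟩
  small := by
    rintro n ⟨ω, hn⟩ hne
    obtain ⟨i, hi⟩ := exists_descent ω⁻¹ (by
      rintro h
      apply hne
      have : ω = 1 := by simpa using h
      subst this
      exact B_norm (mono_one_mem hn))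
    refine ⟨i, ?_⟩
    rw [hn.smul, patU_inf, Ui_eq, patU_le_iff]
    rintro a b ⟨h1, h2⟩
    refine ⟨h1, ?_⟩
    rw [Equiv.swap_inv, swap_lt i h1]
    rintro ⟨rfl, rfl⟩
    exact lt_asymm h2 hi
  s_ne := by
    intro i
    rw [(s_mono i).smul, Ne, patU_eq_iff]
    intro h
    have := (h i.castSucc i.succ).2 Fin.castSucc_lt_succ
    rw [Equiv.swap_inv, swap_lt i Fin.castSucc_lt_succ] at this
    exact this ⟨rfl, rfl⟩
  opp := by
    rintro n ⟨ω, hn⟩ h
    rw [hn.smul, patU_inf] at h
    have h2 := patU_bot_iff _ h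
    rw [hn.smul, patU_eq_iff]
    intro a b
    constructor
    · intro h3
      rcases lt_trichotomy a b with h4 | rfl | h4
      · exact absurd ⟨h4, h3⟩ (h2 a b)
      · exact absurd h3 (lt_irrefl _)
      · exact h4
    · intro h3
      rcases lt_trichotomy (ω⁻¹ a) (ω⁻¹ b) with h4 | h4 | h4
      · exact h4
      · exact absurd (ω⁻¹.injective h4) h3.ne'
      · exact absurd ⟨h3, h4⟩ (h2 b a)
  Uinj := by
    intro i j h
    rw [Ui_eq, Ui_eq, patU_le_iff] at h
    by_contra hne
    have h2 := h j.castSucc j.succ ⟨Fin.castSucc_lt_succ, by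
      rw [Equiv.swap_inv, swap_lt i Fin.castSucc_lt_succ]
      rintro ⟨h3, _⟩
      exact hne (Fin.castSucc_injective _ h3).symm⟩
    have h3 := h2.2
    rw [Equiv.swap_inv, swap_lt j Fin.castSucc_lt_succ] at h3
    exact h3 ⟨rfl, rfl⟩
  Unorm := by
    intro i b hb
    rw [smul_U_eq_iff] at hb
    have hmem : ∀ u : SpecialLinearGroup (Fin (m + 1)) F, u ∈ U m F ⊓ c (s (F := F) i) • U m F ↔ u ∈ U m F ∧ u i.castSucc i.succ = 0 := by
      intro u
      rw [Ui_eq, mem_patU, mem_patU]
      constructor
      · intro h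
        refine ⟨fun a b hab => h a b (fun h' => hab h'.1), ?_⟩
        rw [h _ _ (fun h' => ?_), if_neg (ne_i i)]
        have h3 := h'.2
        rw [Equiv.swap_inv, swap_lt i Fin.castSucc_lt_succ] at h3
        exact h3 ⟨rfl, rfl⟩
      · rintro ⟨h1, h2⟩ a b hab
        by_cases h3 : a < b
        · by_cases h4 : a = i.castSucc ∧ b = i.succ
          · obtain ⟨rfl, rfl⟩ := h4
            rw [h2, if_neg h3.ne]
          · exact absurd ⟨h3, by rw [Equiv.swap_inv, swap_lt i h3]; exact h4⟩ hab
        · exact h1 a b h3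
    have key : ∀ b ∈ B m F, c b • (U m F ⊓ c (s (F := F) i) • U m F) ≤ U m F ⊓ c (s (F := F) i) • U m F := by
      intro b hb u hu
      rw [mem_c_smul, hmem] at hu
      rw [hmem]
      have hu1 : u ∈ U m F := by
        have : u ∈ c b • U m F := by rw [mem_c_smul]; exact hu.1
        rwa [B_norm hb] at this
      refine ⟨hu1, ?_⟩
      obtain ⟨v, hv⟩ : ∃ v, v = b⁻¹ * u * b := ⟨_, rfl⟩
      rw [← hv] at hu
      have hv2 := mem_U.1 hu.1
      have e : u = b * v * b⁻¹ := by rw [hv]; group
      rw [e, super_mul (mul_mem hb hv2.1) (inv_mem hb), super_mul hb hv2.1, diag_mul hb hv2.1, hv2.2, hv2.2, hu.2, mul_one,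
        mul_one, mul_zero, zero_add, ← super_mul hb (inv_mem hb), mul_inv_cancel, slone_apply, if_neg (ne_i i)]
    apply le_antisymm (key b hb)
    have := (Subgroup.pointwise_smul_le_pointwise_smul_iff (a := c b)).2 (key b⁻¹ (inv_mem hb))
    rwa [smul_smul, ← c_mul, mul_inv_cancel, c_one, one_smul] at this
  Vstar := by
    intro i
    rw [Subgroup.smul_inf]
    have h1 : c (n0 F m) • U m F = V m F := by
      rw [n0_mono.smul, patU_eq_iff]
      intro a b
      show Fin.rev a < Fin.rev b ↔ b < a
      rw [Fin.rev_lt_rev]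
    rw [← Subgroup.smul_inf, Ui_eq, n0_mono.smul, Vi_eq, patU_eq_iff]
    intro a b
    exact Vstar_aux i a b

theorem dat_X (i : Fin m) (u : SpecialLinearGroup (Fin (m + 1)) F) : u ∈ (dat p m F).X i ↔ ∃ t, u = x i t := by
  have hS : Str (SLData.opp (fun a b : Fin (m + 1) => a < b) i.castSucc i.succ) := by
    refine ⟨fun a h => lt_irrefl _ h.1, ?_⟩
    rintro a b d ⟨h1, h2⟩ ⟨h3, h4⟩
    refine ⟨h3.trans h1, ?_⟩
    rintro ⟨rfl, rfl⟩
    have h5 : (i : ℕ) < b := h3
    have h6 : (b : ℕ) < i + 1 := by have : (b : ℕ) < (i.succ : Fin (m + 1)) := h1; simpa using this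
    omega
  have key := root_norm (F := F) (str_lt (α := Fin (m + 1))) (fun a b h => lt_or_gt_of_ne h) (ne_i i) Fin.castSucc_lt_succ
    (by
      rintro k ⟨h1, h2⟩
      have h3 : (i : ℕ) < k := h1
      have h4 : (k : ℕ) < (i.succ : Fin (m + 1)) := h2
      simp at h4; omega) hS u
  have hV : (dat p m F).Vi i = (patU hS : Subgroup (SpecialLinearGroup (Fin (m + 1)) F)) := by
    show V m F ⊓ c (s (F := F) i) • V m F = _
    rw [Vi_eq, patU_eq_iff]
    intro a b
    constructor
    · rintro ⟨h1, h2⟩
      refine ⟨h1, ?_⟩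
      rw [Equiv.swap_inv, swap_lt i h1] at h2
      rintro ⟨h3, h4⟩; exact h2 ⟨h4, h3⟩
    · rintro ⟨h1, h2⟩
      refine ⟨h1, ?_⟩
      rw [Equiv.swap_inv, swap_lt i h1]
      rintro ⟨h3, h4⟩; exact h2 ⟨h4, h3⟩
  rw [Data.X, hV]
  exact key

theorem dat_Y (i : Fin m) (u : SpecialLinearGroup (Fin (m + 1)) F) : u ∈ (dat p m F).Y i ↔ ∃ t, u = y i t := by
  have hS : Str (SLData.opp (fun a b : Fin (m + 1) => b < a) i.succ i.castSucc) := by
    refine ⟨fun a h => lt_irrefl _ h.1, ?_⟩
    rintro a b d ⟨h1, h2⟩ ⟨h3, h4⟩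
    refine ⟨h1.trans h3, ?_⟩
    rintro ⟨rfl, rfl⟩
    have h5 : (i : ℕ) < b := h1
    have h6 : (b : ℕ) < i + 1 := by have : (b : ℕ) < (i.succ : Fin (m + 1)) := h3; simpa using this
    omega
  have key := root_norm (F := F) (str_gt (α := Fin (m + 1))) (fun a b h => (lt_or_gt_of_ne h).symm) (ne_i i).symm Fin.castSucc_lt_succ
    (by
      rintro k ⟨h1, h2⟩
      have h3 : (i : ℕ) < k := h2
      have h4 : (k : ℕ) < (i.succ : Fin (m + 1)) := h1
      simp at h4; omega) hS u
  have hV : (dat p m F).Ui i = (patU hS : Subgroup (SpecialLinearGroup (Fin (m + 1)) F)) := by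
    show U m F ⊓ c (s (F := F) i) • U m F = _
    rw [Ui_eq, patU_eq_iff]
    intro a b
    constructor
    · rintro ⟨h1, h2⟩
      refine ⟨h1, ?_⟩
      rw [Equiv.swap_inv, swap_lt i h1] at h2
      exact h2
    · rintro ⟨h1, h2⟩
      refine ⟨h1, ?_⟩
      rw [Equiv.swap_inv, swap_lt i h1]
      exact h2
  rw [Data.Y, hV]
  exact key

theorem comm_of_ne {i j : Fin m} (h : i ≠ j) (t u : F) : x i t * y j u = y j u * x i t := by
  apply Subtype.ext
  show (1 + Matrix.single i.castSucc i.succ t) * (1 + Matrix.single j.succ j.castSucc u) =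
    (1 + Matrix.single j.succ j.castSucc u) * (1 + Matrix.single i.castSucc i.succ t)
  have h1 : i.succ ≠ j.succ := fun e => h (Fin.succ_injective _ e)
  have h2 : j.castSucc ≠ i.castSucc := fun e => h (Fin.castSucc_injective _ e).symm
  rw [add_mul, add_mul, mul_add, mul_add, mul_add, mul_add, Matrix.single_mul_single_of_ne _ _ _ _ h1,
    Matrix.single_mul_single_of_ne _ _ _ _ h2]
  simp only [mul_one, one_mul, add_zero]
  abel

theorem not_comm (i : Fin m) : x i (1 : F) * y i 1 ≠ y i 1 * x i 1 := by
  intro h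
  have h1 := congrArg (fun g : SpecialLinearGroup (Fin (m + 1)) F => g i.castSucc i.castSucc) h
  have h2 : (1 + Matrix.single i.castSucc i.succ (1 : F)) * (1 + Matrix.single i.succ i.castSucc (1 : F)) =
    (1 + Matrix.single i.succ i.castSucc 1) * (1 + Matrix.single i.castSucc i.succ 1) := congrArg Subtype.val h
  have h3 := congrFun (congrFun h2 i.castSucc) i.castSucc
  rw [add_mul, add_mul, mul_add, mul_add, mul_add, mul_add, Matrix.single_mul_single_same, Matrix.single_mul_single_same] at h3
  simp [Matrix.single_apply, (ne_i i).symm, ne_i i] at h3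

theorem dat_XY (i j : Fin m) : (∀ u ∈ (dat p m F).X i, ∀ v ∈ (dat p m F).Y j, u * v = v * u) ↔ i ≠ j := by
  constructor
  · rintro h rfl
    exact not_comm i (h _ ((dat_X p i _).2 ⟨1, rfl⟩) _ ((dat_Y p i _).2 ⟨1, rfl⟩))
  · intro h u hu v hv
    obtain ⟨t, rfl⟩ := (dat_X p i _).1 hu
    obtain ⟨t', rfl⟩ := (dat_Y p j _).1 hv
    exact comm_of_ne h t t'

end Cfsg.Agent.H8.SLData
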