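import Mathlib

set_option autoImplicit false

/-! Explicit matrices of the Suzuki groups. -/

namespace Cfsg.Agent.H8.Suz

open Matrix

variable {F : Type*} [Field F]

/-- The coordinate `z` of an ovoid point. -/
def z (θ : F →+* F) (x y : F) : F := x * y + θ x * x ^ 2 + θ y

/-- matrix of `T a b` -/
def Tm (θ : F →+* F) (a b : F) : Matrix (Fin 4) (Fin 4) F :=
  !![1, a, b + θ a * a, z θ a b; 0, 1, θ a, b; 0, 0, 1, a; 0, 0, 0, 1]

def wm (F : Type*) [Field F] : Matrix (Fin 4) (Fin 4) F := !![0, 0, 0, 1; 0, 0, 1, 0; 0, 1, 0, 0; 1, 0, 0, 0]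

def hm (θ : F →+* F) (u : Fˣ) : Matrix (Fin 4) (Fin 4) F :=
  !![u * θ u, 0, 0, 0; 0, u, 0, 0; 0, 0, (u : F)⁻¹, 0; 0, 0, 0, (u * θ u : F)⁻¹]

/-- The unipotent element `T a b`. -/
def T (θ : F →+* F) (a b : F) : SpecialLinearGroup (Fin 4) F :=
  ⟨Tm θ a b, by simp [Tm, det_succ_row_zero, Fin.sum_univ_succ]⟩

/-- The reversal. -/
def w (F : Type*) [Field F] : SpecialLinearGroup (Fin 4) F :=
  ⟨wm F, by simp [wm, det_succ_row_zero, Fin.sum_univ_succ, Fin.succAbove]; ring⟩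

/-- The torus. -/
def h (θ : F →+* F) (u : Fˣ) : SpecialLinearGroup (Fin 4) F :=
  ⟨hm θ u, by
    have hu : (u : F) ≠ 0 := u.ne_zero
    have hu' : θ (u : F) ≠ 0 := by simp
    simp [hm, det_succ_row_zero, Fin.sum_univ_succ, Fin.succAbove]; field_simp⟩

theorem T_mul (θ : F →+* F) [CharP F 2] (hθ : ∀ x, θ (θ x) = x ^ 2) (a b c d : F) :
    T θ a b * T θ c d = T θ (a + c) (b + d + θ a * c) := by
  refine Matrix.SpecialLinearGroup.ext _ _ fun i j => ?_
  show (Tm θ a b * Tm θ c d) i j = Tm θ (a + c) (b + d + θ a * c) i j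
  fin_cases i <;> fin_cases j <;> simp [Tm, z, Matrix.mul_apply, Fin.sum_univ_succ, hθ] <;> grind

theorem w_mul_w : w F * w F = 1 := by
  refine Matrix.SpecialLinearGroup.ext _ _ fun i j => ?_
  show (wm F * wm F) i j = (1 : Matrix (Fin 4) (Fin 4) F) i j
  fin_cases i <;> fin_cases j <;> simp [wm, Matrix.mul_apply, Fin.sum_univ_succ]

theorem h_mul (θ : F →+* F) (u v : Fˣ) : h θ u * h θ v = h θ (u * v) := by
  refine Matrix.SpecialLinearGroup.ext _ _ fun i j => ?_
  show (hm θ u * hm θ v) i j = hm θ (u * v) i j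
  fin_cases i <;> fin_cases j <;> simp [hm, Matrix.mul_apply, Fin.sum_univ_succ] <;> ring

theorem h_one (θ : F →+* F) : h θ (1 : Fˣ) = 1 := by
  refine Matrix.SpecialLinearGroup.ext _ _ fun i j => ?_
  show hm θ (1 : Fˣ) i j = (1 : Matrix (Fin 4) (Fin 4) F) i j
  fin_cases i <;> fin_cases j <;> simp [hm]

theorem T_zero (θ : F →+* F) : T θ (0 : F) 0 = 1 := by
  refine Matrix.SpecialLinearGroup.ext _ _ fun i j => ?_
  show Tm θ 0 0 i j = (1 : Matrix (Fin 4) (Fin 4) F) i j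
  fin_cases i <;> fin_cases j <;> simp [Tm, z]

theorem h_mul_T (θ : F →+* F) [CharP F 2] (hθ : ∀ x, θ (θ x) = x ^ 2) (u : Fˣ) (a b : F) :
    h θ u * T θ a b = T θ (θ u * a) (θ u * u ^ 2 * b) * h θ u := by
  have hu : (u : F) ≠ 0 := u.ne_zero
  have hu' : θ (u : F) ≠ 0 := by simp
  refine Matrix.SpecialLinearGroup.ext _ _ fun i j => ?_
  show (hm θ u * Tm θ a b) i j = (Tm θ (θ u * a) (θ u * u ^ 2 * b) * hm θ u) i j
  fin_cases i <;> fin_cases j <;> simp [hm, Tm, z, Matrix.mul_apply, Fin.sum_univ_succ, hθ] <;> field_simp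

theorem w_mul_h (θ : F →+* F) (u : Fˣ) : w F * h θ u = h θ u⁻¹ * w F := by
  refine Matrix.SpecialLinearGroup.ext _ _ fun i j => ?_
  show (wm F * hm θ u) i j = (hm θ u⁻¹ * wm F) i j
  fin_cases i <;> fin_cases j <;> simp [wm, hm, Matrix.mul_apply, Fin.sum_univ_succ, mul_comm]


/-! ### Action on the ovoid -/

theorem z_eq_zero_iff (θ : F →+* F) [CharP F 2] (hθ : ∀ x, θ (θ x) = x ^ 2) (x y : F) :
    z θ x y = 0 ↔ x = 0 ∧ y = 0 := by
  constructor
  · intro hz
    by_cases hx : x = 0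
    · subst hx
      simp [z] at hz
      exact ⟨rfl, hz⟩
    · exfalso
      have hθx : θ x ≠ 0 := by simpa using hx
      obtain ⟨t, ht⟩ : ∃ t : F, y = t * (θ x * x) := ⟨y / (θ x * x), by field_simp⟩
      have h1 : θ t + t + 1 = 0 := by
        have : (θ t + t + 1) * (θ x * x ^ 2) = 0 := by
          rw [← hz, z, ht, map_mul, map_mul, hθ]; ring
        rcases mul_eq_zero.1 this with h | h
        · exact h
        · exact absurd h (by positivity)
      have h2 : t ^ 2 + θ t + 1 = 0 := by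
        have := congrArg θ h1
        simpa [hθ] using this
      have h3 : t * (t + 1) = 0 := by grind
      rcases mul_eq_zero.1 h3 with h | h
      · subst h; simp at h1
      · have : t = 1 := by grind
        subst this
        simp at h1
        have : (1 : F) = 0 := by grind
        exact one_ne_zero this
  · rintro ⟨rfl, rfl⟩; simp [z]

theorem z_w (θ : F →+* F) [CharP F 2] (hθ : ∀ x, θ (θ x) = x ^ 2) (x y : F) (hz : z θ x y ≠ 0) :
    z θ (y / z θ x y) (x / z θ x y) = 1 / z θ x y := by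
  have hz' : θ (z θ x y) ≠ 0 := by simpa using hz
  have key : θ (z θ x y) * z θ x y = x * y * θ (z θ x y) + θ y * y ^ 2 + θ x * (z θ x y) ^ 2 := by
    simp only [z, map_add, map_mul, map_pow, hθ]
    grind
  have e : ∀ Z : F, Z ≠ 0 → θ Z ≠ 0 → z θ (y / Z) (x / Z) =
      (x * y * θ Z + θ y * y ^ 2 + θ x * Z ^ 2) / (θ Z * Z ^ 2) := by
    intro Z h1 h2
    unfold z
    rw [map_div₀, map_div₀]
    field_simp
  rw [e _ hz hz', ← key]
  field_simp

end Cfsg.Agent.H8.Suz
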