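import Mathlib
import Cfsg.Prelude.Def_LieExceptional
import Cfsg.Agent.H8.SuzBase

set_option autoImplicit false

/-! Action of the Suzuki group on the ovoid, point stabilisers. -/

namespace Cfsg.Agent.H8.Suz

open Matrix MulAction

variable {F : Type*} [Field F]

theorem exists_theta [Fintype F] {m : ℕ} (hF : Fintype.card F = 2 ^ (2 * m + 1)) :
    CharP F 2 ∧ ∃ θ : F →+* F, (∀ x, θ x = x ^ (2 ^ (m + 1))) ∧ ∀ x, θ (θ x) = x ^ 2 := by
  have h2 : (2 : F) = 0 := by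
    have h1 : ((Fintype.card F : ℕ) : F) = 0 := FiniteField.cast_card_eq_zero F
    rw [hF] at h1
    push_cast at h1
    exact pow_eq_zero_iff (by omega) |>.1 h1
  have : CharP F 2 := CharTwo.of_one_ne_zero_of_two_eq_zero one_ne_zero h2
  refine ⟨this, iterateFrobenius F 2 (m + 1), fun x => iterateFrobenius_def 2 (m+1) x, fun x => ?_⟩
  rw [iterateFrobenius_def, iterateFrobenius_def, ← pow_mul, ← pow_add, show m + 1 + (m + 1) = (2 * m + 1) + 1 by ring,
    pow_succ, pow_mul, ← hF, FiniteField.pow_card]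

/-- The point at infinity. -/
abbrev pinf (F : Type*) [Field F] : Projectivization F (Fin 4 → F) := Cfsg.suzukiPointInfinity F

/-- The affine point with parameters `x`, `y`. -/
def P (θ : F →+* F) (x y : F) : Projectivization F (Fin 4 → F) :=
  Projectivization.mk F ![z θ x y, y, x, 1] (fun h => by simpa using congrFun h 3)

theorem smul_mk (g : SpecialLinearGroup (Fin 4) F) (v : Fin 4 → F) (hv : v ≠ 0) (w : Fin 4 → F) (hw : w ≠ 0)
    (h : ∃ c : F, c • w = g.1 *ᵥ v) :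
    g • Projectivization.mk F v hv = Projectivization.mk F w hw := by
  rw [Projectivization.smul_mk, Projectivization.mk_eq_mk_iff']
  exact h

theorem T_pinf (θ : F →+* F) (a b : F) : T θ a b • pinf F = pinf F := by
  refine smul_mk _ _ _ _ _ ⟨1, ?_⟩
  ext i
  fin_cases i <;> simp [T, Tm, Matrix.mulVec, dotProduct, Fin.sum_univ_succ]

theorem T_P (θ : F →+* F) [CharP F 2] (hθ : ∀ x, θ (θ x) = x ^ 2) (a b x y : F) :
    T θ a b • P θ x y = P θ (x + a) (y + b + θ a * x) := by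
  refine smul_mk _ _ _ _ _ ⟨1, ?_⟩
  ext i
  fin_cases i <;> simp [T, Tm, z, Matrix.mulVec, dotProduct, Fin.sum_univ_succ, hθ] <;> grind

theorem h_pinf (θ : F →+* F) (u : Fˣ) : h θ u • pinf F = pinf F := by
  refine smul_mk _ _ _ _ _ ⟨u * θ u, ?_⟩
  ext i
  fin_cases i <;> simp [h, hm, Matrix.mulVec, dotProduct, Fin.sum_univ_succ]

theorem h_P (θ : F →+* F) (hθ : ∀ x, θ (θ x) = x ^ 2) (u : Fˣ) (x y : F) :
    h θ u • P θ x y = P θ (θ u * x) (θ u * u ^ 2 * y) := by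
  have hu : (u : F) ≠ 0 := u.ne_zero
  have hu' : θ (u : F) ≠ 0 := by simp
  refine smul_mk _ _ _ _ _ ⟨(u * θ u : F)⁻¹, ?_⟩
  ext i
  fin_cases i <;> simp [h, hm, z, Matrix.mulVec, dotProduct, Fin.sum_univ_succ, hθ] <;> field_simp

theorem w_pinf (θ : F →+* F) : w F • pinf F = P θ 0 0 := by
  refine smul_mk _ _ _ _ _ ⟨1, ?_⟩
  ext i
  fin_cases i <;> simp [w, wm, z, Matrix.mulVec, dotProduct, Fin.sum_univ_succ]

theorem w_P (θ : F →+* F) [CharP F 2] (hθ : ∀ x, θ (θ x) = x ^ 2) (x y : F) (hz : z θ x y ≠ 0) :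
    w F • P θ x y = P θ (y / z θ x y) (x / z θ x y) := by
  refine smul_mk _ _ _ _ _ ⟨z θ x y, ?_⟩
  have := z_w θ hθ x y hz
  ext i
  fin_cases i <;> simp [w, wm, this, Matrix.mulVec, dotProduct, Fin.sum_univ_succ, hz] <;> field_simp

theorem w_P_zero (θ : F →+* F) : w F • P θ 0 0 = pinf F := by
  rw [← w_pinf, smul_smul, w_mul_w, one_smul]

theorem P_inj {θ : F →+* F} {x y x' y' : F} (h : P θ x y = P θ x' y') : x = x' ∧ y = y' := by
  rw [P, P, Projectivization.mk_eq_mk_iff'] at h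
  obtain ⟨c, hc⟩ := h
  have h3 := congrFun hc 3
  have h2 := congrFun hc 2
  have h1 := congrFun hc 1
  simp at h1 h2 h3
  subst h3
  simp at h1 h2
  exact ⟨h2.symm, h1.symm⟩

theorem P_ne_pinf (θ : F →+* F) (x y : F) : P θ x y ≠ pinf F := by
  intro h
  rw [P, pinf, Cfsg.suzukiPointInfinity, Projectivization.mk_eq_mk_iff'] at h
  obtain ⟨c, hc⟩ := h
  have h3 := congrFun hc 3
  simp at h3

theorem mem_ovoid {θ : F →+* F} {m : ℕ} (hm : ∀ x, θ x = x ^ (2 ^ (m + 1))) (p : Projectivization F (Fin 4 → F)) :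
    p ∈ Cfsg.suzukiOvoid F m ↔ p = pinf F ∨ ∃ x y, p = P θ x y := by
  have e : ∀ x y : F, x * y + x ^ (2 ^ (m + 1) + 2) + y ^ (2 ^ (m + 1)) = z θ x y := by
    intro x y
    rw [z, hm, hm, pow_add]
  constructor
  · rintro ⟨v, hv, rfl, h | ⟨x, y, h⟩⟩
    · left; subst h; rfl
    · right; rw [e] at h; subst h; exact ⟨x, y, rfl⟩
  · rintro (rfl | ⟨x, y, rfl⟩)
    · exact ⟨_, _, rfl, Or.inl rfl⟩
    · exact ⟨_, _, rfl, Or.inr ⟨x, y, by rw [e]⟩⟩

theorem mem_Sz_of {m : ℕ} {g : SpecialLinearGroup (Fin 4) F}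
    (h1 : ∀ p ∈ Cfsg.suzukiOvoid F m, g • p ∈ Cfsg.suzukiOvoid F m)
    (h2 : ∀ p ∈ Cfsg.suzukiOvoid F m, g⁻¹ • p ∈ Cfsg.suzukiOvoid F m) : g ∈ Cfsg.Sz F m := by
  rw [Cfsg.Sz, MulAction.mem_stabilizer_set]
  intro b
  refine ⟨fun hb => ?_, h1 b⟩
  have := h2 _ hb
  rwa [inv_smul_smul] at this

variable (θ : F →+* F) [CharP F 2] (hθ : ∀ x, θ (θ x) = x ^ 2) {m : ℕ} (hm : ∀ x, θ x = x ^ (2 ^ (m + 1)))

include hθ in
theorem T_inv (a b : F) : (T θ a b)⁻¹ = T θ a (b + θ a * a) := by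
  rw [inv_eq_iff_mul_eq_one, T_mul θ hθ, ← T_zero θ]
  congr 1
  · exact CharTwo.add_self_eq_zero a
  · grind

theorem h_inv (u : Fˣ) : (h θ u)⁻¹ = h θ u⁻¹ := by
  rw [inv_eq_iff_mul_eq_one, h_mul, mul_inv_cancel, h_one]

theorem w_inv : (w F)⁻¹ = w F := by
  rw [inv_eq_iff_mul_eq_one, w_mul_w]

include hθ hm in
theorem T_mem (a b : F) : T θ a b ∈ Cfsg.Sz F m := by
  have key : ∀ a b : F, ∀ p ∈ Cfsg.suzukiOvoid F m, T θ a b • p ∈ Cfsg.suzukiOvoid F m := by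
    intro a b p hp
    rw [mem_ovoid hm] at hp ⊢
    rcases hp with rfl | ⟨x, y, rfl⟩
    · left; exact T_pinf θ a b
    · right; exact ⟨_, _, T_P θ hθ a b x y⟩
  exact mem_Sz_of (key a b) (by rw [T_inv θ hθ]; exact key _ _)

include hθ hm in
theorem h_mem (u : Fˣ) : h θ u ∈ Cfsg.Sz F m := by
  have key : ∀ u : Fˣ, ∀ p ∈ Cfsg.suzukiOvoid F m, h θ u • p ∈ Cfsg.suzukiOvoid F m := by
    intro u p hp
    rw [mem_ovoid hm] at hp ⊢
    rcases hp with rfl | ⟨x, y, rfl⟩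
    · left; exact h_pinf θ u
    · right; exact ⟨_, _, h_P θ hθ u x y⟩
  exact mem_Sz_of (key u) (by rw [h_inv]; exact key _)

include hθ hm in
theorem w_mem : w F ∈ Cfsg.Sz F m := by
  have key : ∀ p ∈ Cfsg.suzukiOvoid F m, w F • p ∈ Cfsg.suzukiOvoid F m := by
    intro p hp
    rw [mem_ovoid hm] at hp ⊢
    rcases hp with rfl | ⟨x, y, rfl⟩
    · right; exact ⟨0, 0, w_pinf θ⟩
    · by_cases hz : z θ x y = 0
      · obtain ⟨rfl, rfl⟩ := (z_eq_zero_iff θ hθ x y).1 hz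
        left; exact w_P_zero θ
      · right; exact ⟨_, _, w_P θ hθ x y hz⟩
  exact mem_Sz_of key (by rw [w_inv]; exact key)

theorem coeffs_zero [Fintype F] (s : ℕ) (hs : 3 ≤ s) (hq : s + 2 < Fintype.card F) (c0 c1 c2 c3 : F)
    (h : ∀ y : F, c0 * y + c1 * y ^ 2 + c2 * y ^ s + c3 * (y ^ s * y ^ 2) = 0) :
    c0 = 0 ∧ c1 = 0 ∧ c2 = 0 ∧ c3 = 0 := by
  classical
  open Polynomial in
  set p : F[X] := C c0 * X + C c1 * X ^ 2 + C c2 * X ^ s + C c3 * X ^ (s + 2) with hp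
  have h0 : p = 0 := by
    apply Polynomial.eq_zero_of_natDegree_lt_card_of_eval_eq_zero p (f := (id : F → F)) Function.injective_id
    · intro y
      have := h y
      rw [hp]
      simp only [id, Polynomial.eval_add, Polynomial.eval_mul, Polynomial.eval_C, Polynomial.eval_X, Polynomial.eval_pow]
      rw [pow_add]
      exact this
    · refine lt_of_le_of_lt ?_ hq
      rw [hp]
      compute_degree
      all_goals omega
  have c : ∀ n, p.coeff n = 0 := by intro n; rw [h0]; simp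
  have e1 := c 1
  have e2 := c 2
  have e3 := c s
  have e4 := c (s + 2)
  rw [hp] at e1 e2 e3 e4
  simp only [Polynomial.coeff_add, Polynomial.coeff_C_mul, Polynomial.coeff_X, Polynomial.coeff_X_pow] at e1 e2 e3 e4
  have a1 : ¬ (1 = s) := by omega
  have a2 : ¬ (2 = s) := by omega
  have a3 : ¬ (1 = s + 2) := by omega
  have a4 : ¬ (2 = s + 2) := by omega
  have a5 : ¬ (s = 2) := by omega
  have a6 : ¬ (s = s + 2) := by omega
  have a8 : ¬ (s = 0) := by omega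
  simp [a1, a2, a5, a8] at e1 e2 e3 e4
  exact ⟨e1, e2, e3, e4⟩

end Cfsg.Agent.H8.Suz
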