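import Mathlib
import Cfsg.Prelude.Def_LieExceptional
import Cfsg.Agent.H8.SuzOvoid

set_option autoImplicit false

/-! Point stabilisers in the Suzuki group. -/

namespace Cfsg.Agent.H8.Suz

open Matrix MulAction

variable {F : Type*} [Field F] [Fintype F] {θ : F →+* F} [CharP F 2] {m : ℕ}

theorem theta_surj (θ : F →+* F) : Function.Surjective θ :=
  Finite.surjective_of_injective θ.injective

/-- An element of the group fixing the points `∞` and `0` is in the torus. -/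
theorem exists_h (hθ : ∀ x, θ (θ x) = x ^ 2) (hm : ∀ x, θ x = x ^ (2 ^ (m + 1))) (hm1 : 1 ≤ m)
    (hF : Fintype.card F = 2 ^ (2 * m + 1)) {g : SpecialLinearGroup (Fin 4) F} (hg : g ∈ Cfsg.Sz F m)
    (h1 : g • pinf F = pinf F) (h2 : g • P θ 0 0 = P θ 0 0) : ∃ u : Fˣ, g = h θ u := by
  have hg' : ∀ p, g • p ∈ Cfsg.suzukiOvoid F m ↔ p ∈ Cfsg.suzukiOvoid F m := by
    rw [Cfsg.Sz, MulAction.mem_stabilizer_set] at hg; exact hg
  set M : Matrix (Fin 4) (Fin 4) F := g.1 with hM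
  -- first column
  obtain ⟨α, hα⟩ : ∃ c : F, c • ![1, 0, 0, 0] = M *ᵥ ![1, 0, 0, 0] := by
    rw [pinf, Cfsg.suzukiPointInfinity, Projectivization.smul_mk, Projectivization.mk_eq_mk_iff'] at h1
    exact h1
  obtain ⟨δ, hδ⟩ : ∃ c : F, c • ![0, 0, 0, 1] = M *ᵥ ![0, 0, 0, 1] := by
    rw [P, Projectivization.smul_mk, Projectivization.mk_eq_mk_iff'] at h2
    obtain ⟨c, hc⟩ := h2
    refine ⟨c, ?_⟩
    have e : (![z θ 0 0, 0, 0, 1] : Fin 4 → F) = ![0, 0, 0, 1] := by simp [z]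
    rw [e] at hc
    exact hc
  have c00 := congrFun hα 0
  have c10 := congrFun hα 1
  have c20 := congrFun hα 2
  have c30 := congrFun hα 3
  have c03 := congrFun hδ 0
  have c13 := congrFun hδ 1
  have c23 := congrFun hδ 2
  have c33 := congrFun hδ 3
  simp [Matrix.mulVec, dotProduct, Fin.sum_univ_succ] at c00 c10 c20 c30 c03 c13 c23 c33
  have key : ∀ x y : F, ∃ x' y' c : F, c • ![z θ x' y', y', x', 1] = M *ᵥ ![z θ x y, y, x, 1] := by
    intro x y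
    have h3 : g • P θ x y ∈ Cfsg.suzukiOvoid F m := (hg' _).2 ((mem_ovoid hm _).2 (Or.inr ⟨x, y, rfl⟩))
    rw [mem_ovoid hm] at h3
    rcases h3 with h3 | ⟨x', y', h3⟩
    · exfalso
      have h4 : g • P θ x y = g • pinf F := by rw [h3, h1]
      exact P_ne_pinf θ x y (smul_left_cancel g h4)
    · refine ⟨x', y', ?_⟩
      rw [P, P, Projectivization.smul_mk, Projectivization.mk_eq_mk_iff'] at h3
      exact h3
  have key' : ∀ x y : F, ∃ x' y' c : F, c * z θ x' y' = α * z θ x y + M 0 1 * y + M 0 2 * x ∧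
      c * y' = M 1 1 * y + M 1 2 * x ∧ c * x' = M 2 1 * y + M 2 2 * x ∧ c = M 3 1 * y + M 3 2 * x + δ ∧ c ≠ 0 := by
    intro x y
    obtain ⟨x', y', c, hc⟩ := key x y
    have hc0 : c ≠ 0 := by
      rintro rfl
      rw [zero_smul] at hc
      have : M⁻¹ *ᵥ (M *ᵥ ![z θ x y, y, x, 1]) = ![z θ x y, y, x, 1] := by
        rw [Matrix.mulVec_mulVec, Matrix.nonsing_inv_mul _ (by rw [hM, g.2]; exact isUnit_one), Matrix.one_mulVec]
      rw [← hc, Matrix.mulVec_zero] at this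
      simpa using congrFun this 3
    have e0 := congrFun hc 0
    have e1 := congrFun hc 1
    have e2 := congrFun hc 2
    have e3 := congrFun hc 3
    simp [Matrix.mulVec, dotProduct, Fin.sum_univ_succ, ← c00, ← c10, ← c20, ← c30, ← c03, ← c13, ← c23, ← c33] at e0 e1 e2 e3
    refine ⟨x', y', c, ?_, ?_, ?_, ?_, hc0⟩
    · rw [e0]; ring
    · rw [e1]
    · rw [e2]
    · rw [e3]; ring
  have hδ0 : δ ≠ 0 := by
    obtain ⟨_, _, c, -, -, -, h, h'⟩ := key' 0 0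
    rw [h] at h'; simpa using h'
  have c31 : M 3 1 = 0 := by
    by_contra hne
    obtain ⟨_, _, c, -, -, -, h, h'⟩ := key' 0 (δ / M 3 1)
    apply h'
    rw [h]
    field_simp
    simp [CharTwo.add_self_eq_zero]
  have c32 : M 3 2 = 0 := by
    by_contra hne
    obtain ⟨_, _, c, -, -, -, h, h'⟩ := key' (δ / M 3 2) 0
    apply h'
    rw [h]
    field_simp
    simp [CharTwo.add_self_eq_zero]
  obtain ⟨A, hA⟩ : ∃ A, A * δ = α := ⟨α / δ, by field_simp⟩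
  obtain ⟨a1, ha1⟩ : ∃ A, A * δ = M 0 1 := ⟨M 0 1 / δ, by field_simp⟩
  obtain ⟨a2, ha2⟩ : ∃ A, A * δ = M 0 2 := ⟨M 0 2 / δ, by field_simp⟩
  obtain ⟨b1, hb1⟩ : ∃ A, A * δ = M 1 1 := ⟨M 1 1 / δ, by field_simp⟩
  obtain ⟨b2, hb2⟩ : ∃ A, A * δ = M 1 2 := ⟨M 1 2 / δ, by field_simp⟩
  obtain ⟨c1, hc1⟩ : ∃ A, A * δ = M 2 1 := ⟨M 2 1 / δ, by field_simp⟩
  obtain ⟨c2, hc2⟩ : ∃ A, A * δ = M 2 2 := ⟨M 2 2 / δ, by field_simp⟩
  have main : ∀ x y : F, A * z θ x y + a1 * y + a2 * x = z θ (c1 * y + c2 * x) (b1 * y + b2 * x) := by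
    intro x y
    obtain ⟨x', y', c, e0, e1, e2, e3, -⟩ := key' x y
    rw [c31, c32] at e3
    have e3' : c = δ := by rw [e3]; ring
    subst e3'
    have hy' : y' = b1 * y + b2 * x := by
      apply mul_left_cancel₀ hδ0; rw [e1, ← hb1, ← hb2]; ring
    have hx' : x' = c1 * y + c2 * x := by
      apply mul_left_cancel₀ hδ0; rw [e2, ← hc1, ← hc2]; ring
    rw [← hy', ← hx']
    apply mul_left_cancel₀ hδ0; rw [e0, ← hA, ← ha1, ← ha2]; ring
  -- coefficients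
  have hs : 4 ≤ 2 ^ (m + 1) := by
    calc 4 = 2 ^ 2 := by norm_num
      _ ≤ 2 ^ (m + 1) := Nat.pow_le_pow_right (by norm_num) (by omega)
  have hq : 2 ^ (m + 1) + 2 < Fintype.card F := by
    rw [hF]
    have : 2 ^ (2 * m + 1) = 2 ^ (m + 1) * 2 ^ m := by rw [← pow_add]; congr 1; ring
    rw [this]
    have : 2 ≤ 2 ^ m := by
      calc 2 = 2 ^ 1 := by norm_num
        _ ≤ 2 ^ m := Nat.pow_le_pow_right (by norm_num) hm1
    nlinarith
  have hy0 : ∀ y : F, a1 * y + (c1 * b1) * y ^ 2 + (A + θ b1) * y ^ (2 ^ (m + 1)) + (θ c1 * c1 ^ 2) * (y ^ (2 ^ (m + 1)) * y ^ 2) = 0 := by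
    intro y
    have := main 0 y
    rw [← hm]
    simp only [z, mul_zero, add_zero, map_add, map_mul, zero_mul] at this
    grind
  obtain ⟨r1, -, r3, r4⟩ := coeffs_zero _ (by omega) hq _ _ _ _ hy0
  have hx0 : ∀ x : F, a2 * x + (c2 * b2) * x ^ 2 + (θ b2) * x ^ (2 ^ (m + 1)) + (A + θ c2 * c2 ^ 2) * (x ^ (2 ^ (m + 1)) * x ^ 2) = 0 := by
    intro x
    have := main x 0
    rw [← hm]
    simp only [z, mul_zero, add_zero, map_add, map_mul, zero_mul, map_zero, zero_add] at this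
    grind
  obtain ⟨s1, -, s3, s4⟩ := coeffs_zero _ (by omega) hq _ _ _ _ hx0
  have hc1' : c1 = 0 := by
    rcases mul_eq_zero.1 r4 with h | h
    · simpa using h
    · simpa using h
  have hb2' : b2 = 0 := by simpa using s3
  have hA1 : A = θ b1 := by grind
  have hA2 : A = θ c2 * c2 ^ 2 := by grind
  have hA3 : A = c2 * b1 := by
    have := main 1 1
    rw [hc1', hb2', r1, s1] at this
    simp only [z, mul_one, zero_mul, add_zero, zero_add, map_one, one_pow] at this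
    rw [← hA1, ← hA2] at this
    grind
  subst hc1' hb2' r1 s1
  -- the parameter
  obtain ⟨μ, hμ⟩ := theta_surj θ c2
  have hα0 : α ≠ 0 := by
    rintro rfl
    rw [zero_smul] at hα
    have : M⁻¹ *ᵥ (M *ᵥ ![1, 0, 0, 0]) = ![1, 0, 0, 0] := by
      rw [Matrix.mulVec_mulVec, Matrix.nonsing_inv_mul _ (by rw [hM, g.2]; exact isUnit_one), Matrix.one_mulVec]
    rw [← hα, Matrix.mulVec_zero] at this
    simpa using congrFun this 0
  have hA0 : A ≠ 0 := by rintro rfl; simp at hA; exact hα0 hA.symm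
  have hc20 : c2 ≠ 0 := by rintro rfl; simp at hA3; exact hA0 hA3
  have hμ0 : μ ≠ 0 := by rintro rfl; simp at hμ; exact hc20 hμ.symm
  have hb1' : b1 = μ ^ 2 * θ μ := by
    apply mul_left_cancel₀ hc20
    rw [← hA3, hA2, ← hμ, hθ]; ring
  have hA' : A = μ ^ 2 * θ μ ^ 2 := by rw [hA2, ← hμ, hθ]
  have hdet : α * (M 1 1) * (M 2 2) * δ = 1 := by
    have := g.2
    rw [← hM] at this
    rw [← this]
    simp [Matrix.det_succ_row_zero, Fin.sum_univ_succ, Fin.succAbove, ← c00, ← c10, ← c20, ← c30, ← c03, ← c13, ← c23, ← c33, c31, c32,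
      ← ha1, ← ha2, ← hb2, ← hc1]
    ring
  have hδμ : (μ * θ μ) * δ = 1 := by
    have h1 : ((μ * θ μ * δ) ^ 2) ^ 2 = 1 := by
      rw [← hdet, ← hA, ← hb1, ← hc2, hA', hb1', ← hμ]; ring
    have h2 : ∀ t : F, t ^ 2 = 1 → t = 1 := by
      intro t ht
      have : (t + 1) ^ 2 = 0 := by rw [CharTwo.add_sq, ht]; simp [CharTwo.add_self_eq_zero]
      have := pow_eq_zero_iff (two_ne_zero) |>.1 this
      grind
    exact h2 _ (h2 _ h1)
  have hθμ : θ μ ≠ 0 := by simpa using hμ0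
  refine ⟨Units.mk0 μ hμ0, ?_⟩
  have hδ' : δ = (μ * θ μ)⁻¹ := eq_inv_of_mul_eq_one_right hδμ
  refine Matrix.SpecialLinearGroup.ext _ _ fun i j => ?_
  show M i j = Suz.hm θ (Units.mk0 μ hμ0) i j
  fin_cases i <;> fin_cases j <;>
    simp [Suz.hm, ← c00, ← c10, ← c20, ← c30, ← c03, ← c13, ← c23, ← c33, c31, c32, ← ha1, ← ha2, ← hb1, ← hb2, ← hc1, ← hc2,
      ← hA, hA', hb1', hδ', ← hμ] <;> field_simp



/-- Elements of the group fixing `∞`. -/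
theorem exists_Th (hθ : ∀ x, θ (θ x) = x ^ 2) (hm : ∀ x, θ x = x ^ (2 ^ (m + 1))) (hm1 : 1 ≤ m)
    (hF : Fintype.card F = 2 ^ (2 * m + 1)) {g : SpecialLinearGroup (Fin 4) F} (hg : g ∈ Cfsg.Sz F m)
    (h1 : g • pinf F = pinf F) : ∃ (a b : F) (u : Fˣ), g = T θ a b * h θ u := by
  have hg' : ∀ p, g • p ∈ Cfsg.suzukiOvoid F m ↔ p ∈ Cfsg.suzukiOvoid F m := by
    rw [Cfsg.Sz, MulAction.mem_stabilizer_set] at hg; exact hg
  have h3 : g • P θ 0 0 ∈ Cfsg.suzukiOvoid F m := (hg' _).2 ((mem_ovoid hm _).2 (Or.inr ⟨0, 0, rfl⟩))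
  rw [mem_ovoid hm] at h3
  rcases h3 with h3 | ⟨a, b, h3⟩
  · exfalso
    have h4 : g • P θ 0 0 = g • pinf F := by rw [h3, h1]
    exact P_ne_pinf θ 0 0 (smul_left_cancel g h4)
  · obtain ⟨u, hu⟩ := exists_h hθ hm hm1 hF (g := (T θ a b)⁻¹ * g)
      ((Cfsg.Sz F m).mul_mem ((Cfsg.Sz F m).inv_mem (T_mem θ hθ hm a b)) hg)
      (by rw [mul_smul, h1, inv_smul_eq_iff, T_pinf])
      (by rw [mul_smul, h3, inv_smul_eq_iff, T_P θ hθ]; simp)
    exact ⟨a, b, u, by rw [← hu, mul_inv_cancel_left]⟩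

/-- Bruhat decomposition. -/
theorem bruhat (hθ : ∀ x, θ (θ x) = x ^ 2) (hm : ∀ x, θ x = x ^ (2 ^ (m + 1))) (hm1 : 1 ≤ m)
    (hF : Fintype.card F = 2 ^ (2 * m + 1)) {g : SpecialLinearGroup (Fin 4) F} (hg : g ∈ Cfsg.Sz F m) :
    (∃ (a b : F) (u : Fˣ), g = T θ a b * h θ u) ∨
    (∃ (x y a b : F) (u : Fˣ), g = T θ x y * w F * (T θ a b * h θ u)) := by
  have hg' : ∀ p, g • p ∈ Cfsg.suzukiOvoid F m ↔ p ∈ Cfsg.suzukiOvoid F m := by
    rw [Cfsg.Sz, MulAction.mem_stabilizer_set] at hg; exact hg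
  have h3 : g • pinf F ∈ Cfsg.suzukiOvoid F m := (hg' _).2 ((mem_ovoid hm _).2 (Or.inl rfl))
  rw [mem_ovoid hm] at h3
  rcases h3 with h3 | ⟨x, y, h3⟩
  · left; exact exists_Th hθ hm hm1 hF hg h3
  · right
    have hmem : (T θ x y * w F)⁻¹ * g ∈ Cfsg.Sz F m :=
      (Cfsg.Sz F m).mul_mem ((Cfsg.Sz F m).inv_mem ((Cfsg.Sz F m).mul_mem (T_mem θ hθ hm x y) (w_mem θ hθ hm))) hg
    obtain ⟨a, b, u, hu⟩ := exists_Th hθ hm hm1 hF hmem
      (by rw [mul_smul, h3, inv_smul_eq_iff, mul_smul, w_pinf θ, T_P θ hθ]; simp)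
    exact ⟨x, y, a, b, u, by rw [← hu, mul_inv_cancel_left]⟩

/-- Induction principle: the group is generated by the `T`, `h` and `w`. -/
theorem closure_induction (hθ : ∀ x, θ (θ x) = x ^ 2) (hm : ∀ x, θ x = x ^ (2 ^ (m + 1))) (hm1 : 1 ≤ m)
    (hF : Fintype.card F = 2 ^ (2 * m + 1)) (K : Subgroup (SpecialLinearGroup (Fin 4) F))
    (hT : ∀ a b, T θ a b ∈ K) (hh : ∀ u, h θ u ∈ K) (hw : w F ∈ K) : Cfsg.Sz F m ≤ K := by
  intro g hg
  rcases bruhat hθ hm hm1 hF hg with ⟨a, b, u, rfl⟩ | ⟨x, y, a, b, u, rfl⟩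
  · exact K.mul_mem (hT _ _) (hh _)
  · exact K.mul_mem (K.mul_mem (hT _ _) hw) (K.mul_mem (hT _ _) (hh _))

theorem T_h_inj {a b c d : F} {u v : Fˣ} (e : T θ a b * h θ u = T θ c d * h θ v) :
    a = c ∧ b = d ∧ u = v := by
  have key : ∀ (a b : F) (u : Fˣ) i j, (T θ a b * h θ u).1 i j = (Tm θ a b * Suz.hm θ u) i j := fun _ _ _ _ _ => rfl
  have e1 := congrArg (fun g : SpecialLinearGroup (Fin 4) F => g.1 1 1) e
  have e2 := congrArg (fun g : SpecialLinearGroup (Fin 4) F => g.1 0 1) e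
  have e3 := congrArg (fun g : SpecialLinearGroup (Fin 4) F => g.1 1 3) e
  simp only [key] at e1 e2 e3
  simp [Tm, Suz.hm, Matrix.mul_apply, Fin.sum_univ_succ] at e1 e2 e3
  have e1' : u = v := Units.ext e1
  subst e1'
  have hu : (u : F) ≠ 0 := u.ne_zero
  have hu' : θ (u : F) ≠ 0 := by simp
  exact ⟨mul_right_cancel₀ hu e2, mul_right_cancel₀ (mul_ne_zero (inv_ne_zero hu') (inv_ne_zero hu)) e3, rfl⟩

end Cfsg.Agent.H8.Suz
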