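import Mathlib
import Cfsg.Prelude.Def_LieExceptional
import Cfsg.Agent.H8.SuzStab

set_option autoImplicit false

/-! Orders, simplicity of the Suzuki group. -/

namespace Cfsg.Agent.H8.Suz

open Matrix MulAction

variable {F : Type*} [Field F] [Fintype F] {m : ℕ}

theorem pzero_eq {F : Type*} [Field F] (θ : F →+* F) : Cfsg.suzukiPointZero F = P θ 0 0 := by
  rw [P, Cfsg.suzukiPointZero, Projectivization.mk_eq_mk_iff']
  exact ⟨1, by simp [z]⟩

/-- Everything we need from the hypotheses. -/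
structure Dat (F : Type*) [Field F] [Fintype F] (m : ℕ) where
  char : CharP F 2
  θ : F →+* F
  hθ : ∀ x, θ (θ x) = x ^ 2
  hm : ∀ x, θ x = x ^ (2 ^ (m + 1))
  hm1 : 1 ≤ m
  hF : Fintype.card F = 2 ^ (2 * m + 1)

theorem exists_dat (hm1 : 1 ≤ m) (hF : Fintype.card F = 2 ^ (2 * m + 1)) : Nonempty (Dat F m) := by
  obtain ⟨h1, θ, h2, h3⟩ := exists_theta hF
  exact ⟨⟨h1, θ, h3, h2, hm1, hF⟩⟩

variable (D : Dat F m)

namespace Dat

/-- `T a b` in the group. -/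
def tt (a b : F) : Cfsg.Sz F m := ⟨T D.θ a b, by have := D.char; exact T_mem D.θ D.hθ D.hm a b⟩
def hh (u : Fˣ) : Cfsg.Sz F m := ⟨h D.θ u, by have := D.char; exact h_mem D.θ D.hθ D.hm u⟩
def ww : Cfsg.Sz F m := ⟨w F, by have := D.char; exact w_mem D.θ D.hθ D.hm⟩

include D

theorem two_eq : (2 : F) = 0 := by have := D.char; exact CharTwo.two_eq_zero

theorem tt_mul (a b c d : F) : D.tt a b * D.tt c d = D.tt (a + c) (b + d + D.θ a * c) := by
  have := D.char; exact Subtype.ext (T_mul D.θ D.hθ a b c d)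

theorem tt_zero : D.tt 0 0 = 1 := Subtype.ext (T_zero D.θ)

theorem tt_inv (a b : F) : (D.tt a b)⁻¹ = D.tt a (b + D.θ a * a) := by
  have := D.char; exact Subtype.ext (T_inv D.θ D.hθ a b)

theorem hh_mul (u v : Fˣ) : D.hh u * D.hh v = D.hh (u * v) := Subtype.ext (h_mul D.θ u v)
theorem hh_one : D.hh 1 = 1 := Subtype.ext (h_one D.θ)
theorem hh_inv (u : Fˣ) : (D.hh u)⁻¹ = D.hh u⁻¹ := by
  rw [inv_eq_iff_mul_eq_one, hh_mul, mul_inv_cancel, hh_one]

theorem ww_mul_ww : D.ww * D.ww = 1 := Subtype.ext w_mul_w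
theorem ww_inv : (D.ww)⁻¹ = D.ww := by rw [inv_eq_iff_mul_eq_one, ww_mul_ww]

theorem hh_mul_tt (u : Fˣ) (a b : F) : D.hh u * D.tt a b = D.tt (D.θ u * a) (D.θ u * u ^ 2 * b) * D.hh u := by
  have := D.char; exact Subtype.ext (h_mul_T D.θ D.hθ u a b)

theorem hh_conj_tt (u : Fˣ) (a b : F) : D.hh u * D.tt a b * (D.hh u)⁻¹ = D.tt (D.θ u * a) (D.θ u * u ^ 2 * b) := by
  rw [hh_mul_tt, mul_inv_cancel_right]

theorem ww_mul_hh (u : Fˣ) : D.ww * D.hh u = D.hh u⁻¹ * D.ww := Subtype.ext (w_mul_h D.θ u)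

theorem ww_conj_hh (u : Fˣ) : D.ww * D.hh u * D.ww = D.hh u⁻¹ := by
  rw [ww_mul_hh, mul_assoc, ww_mul_ww, mul_one]

/-- The ovoid as a type. -/
abbrev Om (F : Type*) [Field F] (m : ℕ) := (Cfsg.suzukiOvoid F m)

def inf : Om F m := ⟨pinf F, (mem_ovoid D.hm _).2 (Or.inl rfl)⟩
def pt (x y : F) : Om F m := ⟨P D.θ x y, (mem_ovoid D.hm _).2 (Or.inr ⟨x, y, rfl⟩)⟩

theorem smul_val (g : Cfsg.Sz F m) (p : Om F m) : ((g • p : Om F m) : Projectivization F (Fin 4 → F)) = g.1 • p.1 := rfl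

theorem cases_pt (p : Om F m) : p = D.inf ∨ ∃ x y, p = D.pt x y := by
  obtain ⟨p, hp⟩ := p
  rcases (mem_ovoid D.hm _).1 hp with h | ⟨x, y, h⟩
  · left; exact Subtype.ext h
  · right; exact ⟨x, y, Subtype.ext h⟩

theorem pt_ne_inf (x y : F) : D.pt x y ≠ D.inf := fun h => P_ne_pinf D.θ x y (congrArg Subtype.val h)

theorem pt_inj {x y x' y' : F} (h : D.pt x y = D.pt x' y') : x = x' ∧ y = y' :=
  P_inj (congrArg Subtype.val h)

theorem tt_inf (a b : F) : D.tt a b • D.inf = D.inf := Subtype.ext (T_pinf D.θ a b)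
theorem tt_pt (a b x y : F) : D.tt a b • D.pt x y = D.pt (x + a) (y + b + D.θ a * x) := by
  have := D.char; exact Subtype.ext (T_P D.θ D.hθ a b x y)
theorem hh_inf (u : Fˣ) : D.hh u • D.inf = D.inf := Subtype.ext (h_pinf D.θ u)
theorem hh_pt (u : Fˣ) (x y : F) : D.hh u • D.pt x y = D.pt (D.θ u * x) (D.θ u * u ^ 2 * y) :=
  Subtype.ext (h_P D.θ D.hθ u x y)
theorem ww_inf : D.ww • D.inf = D.pt 0 0 := Subtype.ext (w_pinf D.θ)
theorem ww_pt_zero : D.ww • D.pt 0 0 = D.inf := Subtype.ext (w_P_zero D.θ)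
theorem ww_pt (x y : F) (hz : z D.θ x y ≠ 0) : D.ww • D.pt x y = D.pt (y / z D.θ x y) (x / z D.θ x y) := by
  have := D.char; exact Subtype.ext (w_P D.θ D.hθ x y hz)

theorem exists_tt_hh {g : Cfsg.Sz F m} (h1 : g • D.inf = D.inf) : ∃ (a b : F) (u : Fˣ), g = D.tt a b * D.hh u := by
  have := D.char
  obtain ⟨a, b, u, h⟩ := exists_Th D.hθ D.hm D.hm1 D.hF g.2 (congrArg Subtype.val h1)
  exact ⟨a, b, u, Subtype.ext h⟩

theorem exists_hh {g : Cfsg.Sz F m} (h1 : g • D.inf = D.inf) (h2 : g • D.pt 0 0 = D.pt 0 0) :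
    ∃ u : Fˣ, g = D.hh u := by
  have := D.char
  obtain ⟨u, h⟩ := exists_h D.hθ D.hm D.hm1 D.hF g.2 (congrArg Subtype.val h1) (congrArg Subtype.val h2)
  exact ⟨u, Subtype.ext h⟩

theorem bruhat (g : Cfsg.Sz F m) : (∃ (a b : F) (u : Fˣ), g = D.tt a b * D.hh u) ∨
    (∃ (x y a b : F) (u : Fˣ), g = D.tt x y * D.ww * (D.tt a b * D.hh u)) := by
  have := D.char
  rcases Suz.bruhat D.hθ D.hm D.hm1 D.hF g.2 with ⟨a, b, u, h⟩ | ⟨x, y, a, b, u, h⟩
  · left; exact ⟨a, b, u, Subtype.ext h⟩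
  · right; exact ⟨x, y, a, b, u, Subtype.ext h⟩

theorem generate (K : Subgroup (Cfsg.Sz F m)) (hT : ∀ a b, D.tt a b ∈ K) (hh : ∀ u, D.hh u ∈ K) (hw : D.ww ∈ K) :
    K = ⊤ := by
  rw [eq_top_iff]
  intro g _
  rcases D.bruhat g with ⟨a, b, u, rfl⟩ | ⟨x, y, a, b, u, rfl⟩
  · exact K.mul_mem (hT _ _) (hh _)
  · exact K.mul_mem (K.mul_mem (hT _ _) hw) (K.mul_mem (hT _ _) (hh _))

theorem tt_hh_inj {a b c d : F} {u v : Fˣ} (e : D.tt a b * D.hh u = D.tt c d * D.hh v) :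
    a = c ∧ b = d ∧ u = v := by
  have := D.char
  exact T_h_inj (congrArg Subtype.val e)

theorem tt_inj {a b c d : F} (e : D.tt a b = D.tt c d) : a = c ∧ b = d := by
  have := D.tt_hh_inj (a := a) (b := b) (c := c) (d := d) (u := 1) (v := 1) (by rw [e])
  exact ⟨this.1, this.2.1⟩

theorem hh_inj {u v : Fˣ} (e : D.hh u = D.hh v) : u = v := by
  have := D.tt_hh_inj (a := 0) (b := 0) (c := 0) (d := 0) (u := u) (v := v) (by rw [e])
  exact this.2.2

theorem theta_surj : Function.Surjective D.θ := by have := D.char; exact Suz.theta_surj D.θ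

theorem four_lt : 4 < Fintype.card F := by
  rw [D.hF]
  calc 4 < 2 ^ (2 * 1 + 1) := by norm_num
    _ ≤ 2 ^ (2 * m + 1) := Nat.pow_le_pow_right (by norm_num) (by have := D.hm1; omega)

theorem theta_eq_self {x : F} (hx : D.θ x = x) : x = 0 ∨ x = 1 := by
  have h1 : x ^ 2 = x := by rw [← D.hθ, hx, hx]
  have : x * (x - 1) = 0 := by linear_combination h1
  rcases mul_eq_zero.1 this with h | h
  · exact Or.inl h
  · exact Or.inr (by linear_combination h)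

theorem sq_eq_one {x : F} (hx : x ^ 2 = 1) : x = 1 := by
  have := D.char
  have h1 : (x + 1) ^ 2 = 0 := by rw [CharTwo.add_sq, hx]; simp [CharTwo.add_self_eq_zero]
  have := pow_eq_zero_iff (two_ne_zero) |>.1 h1
  grind

/-- Only the identity of the torus has a fixed point among the affine points `≠ 0`. -/
theorem hh_fix {u : Fˣ} {x y : F} (h0 : ¬ (x = 0 ∧ y = 0)) (h1 : D.hh u • D.pt x y = D.pt x y) : u = 1 := by
  rw [hh_pt] at h1
  obtain ⟨h2, h3⟩ := D.pt_inj h1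
  by_cases hx : x = 0
  · have hy : y ≠ 0 := fun hy => h0 ⟨hx, hy⟩
    have h4 : D.θ u * (u : F) ^ 2 = 1 := mul_right_cancel₀ hy (by rw [h3, one_mul])
    have h5 := congrArg D.θ h4
    rw [map_mul, D.hθ, map_pow, map_one] at h5
    -- u² θ(u)² = 1, so u θ u = 1
    have h6 : ((u : F) * D.θ u) = 1 := D.sq_eq_one (by rw [← h5]; ring)
    have h7 : (u : F) = 1 := by
      have : D.θ u * (u : F) ^ 2 = (u * D.θ u) * u := by ring
      rw [this, h6, one_mul] at h4; exact h4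
    exact Units.ext h7
  · have h4 : D.θ u = 1 := mul_right_cancel₀ hx (by rw [h2, one_mul])
    have : (u : F) = 1 := D.θ.injective (by rw [h4, map_one])
    exact Units.ext this

theorem stab_equiv : Nonempty (MulAction.stabilizer (Cfsg.Sz F m) D.inf ≃ F × F × Fˣ) := by
  refine ⟨(Equiv.ofBijective (fun p : F × F × Fˣ => (⟨D.tt p.1 p.2.1 * D.hh p.2.2, ?_⟩ :
    MulAction.stabilizer (Cfsg.Sz F m) D.inf)) ?_).symm⟩
  · rw [MulAction.mem_stabilizer_iff, mul_smul, hh_inf, tt_inf]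
  · constructor
    · rintro ⟨a, b, u⟩ ⟨c, d, v⟩ h
      have := D.tt_hh_inj (congrArg Subtype.val h)
      simp only [Prod.mk.injEq]
      exact this
    · rintro ⟨g, hg⟩
      obtain ⟨a, b, u, rfl⟩ := D.exists_tt_hh hg
      exact ⟨(a, b, u), rfl⟩

theorem card_units : Nat.card Fˣ = 2 ^ (2 * m + 1) - 1 := by
  rw [Nat.card_units, Nat.card_eq_fintype_card, D.hF]

theorem card_stab : Nat.card (MulAction.stabilizer (Cfsg.Sz F m) D.inf) =
    (2 ^ (2 * m + 1)) ^ 2 * (2 ^ (2 * m + 1) - 1) := by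
  obtain ⟨e⟩ := D.stab_equiv
  rw [Nat.card_congr e, Nat.card_prod, Nat.card_prod, D.card_units, Nat.card_eq_fintype_card, D.hF]
  ring

theorem trans_pt (p : Om F m) (hp : p ≠ D.inf) : ∃ a b, p = D.tt a b • D.pt 0 0 := by
  rcases D.cases_pt p with rfl | ⟨x, y, rfl⟩
  · exact absurd rfl hp
  · exact ⟨x, y, by rw [tt_pt]; simp⟩

theorem trans_inf (p : Om F m) : ∃ g : Cfsg.Sz F m, p = g • D.inf := by
  by_cases hp : p = D.inf
  · exact ⟨1, by rw [hp, one_smul]⟩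
  · obtain ⟨a, b, h⟩ := D.trans_pt p hp
    exact ⟨D.tt a b * D.ww, by rw [h, mul_smul, ww_inf]⟩

theorem isPretransitive : MulAction.IsPretransitive (Cfsg.Sz F m) (Om F m) := by
  refine ⟨fun p q => ?_⟩
  obtain ⟨g, rfl⟩ := D.trans_inf p
  obtain ⟨k, rfl⟩ := D.trans_inf q
  exact ⟨k * g⁻¹, by rw [mul_smul, inv_smul_smul]⟩

theorem two_trans : MulAction.IsMultiplyPretransitive (Cfsg.Sz F m) (Om F m) 2 := by
  rw [MulAction.is_two_pretransitive_iff]
  have key : ∀ p q : Om F m, p ≠ q → ∃ g : Cfsg.Sz F m, g • D.inf = p ∧ g • D.pt 0 0 = q := by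
    intro p q hpq
    obtain ⟨g, rfl⟩ := D.trans_inf p
    have : g⁻¹ • q ≠ D.inf := by
      intro h; apply hpq; rw [← h, smul_inv_smul]
    obtain ⟨a, b, h⟩ := D.trans_pt _ this
    refine ⟨g * D.tt a b, by rw [mul_smul, tt_inf], by rw [mul_smul, ← h, smul_inv_smul]⟩
  intro a b c d hab hcd
  obtain ⟨g, rfl, rfl⟩ := key a b hab
  obtain ⟨k, rfl, rfl⟩ := key c d hcd
  exact ⟨k * g⁻¹, by rw [mul_smul, inv_smul_smul], by rw [mul_smul, inv_smul_smul]⟩

/-- An element fixing three points is trivial. -/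
theorem three_pts {g : Cfsg.Sz F m} {a b c : Om F m} (hab : a ≠ b) (hbc : b ≠ c) (hac : a ≠ c)
    (ha : g • a = a) (hb : g • b = b) (hc : g • c = c) : g = 1 := by
  have h2 := D.two_trans
  rw [MulAction.is_two_pretransitive_iff] at h2
  obtain ⟨k, hk1, hk2⟩ := h2 (D.pt_ne_inf 0 0).symm hab
  have e1 : (k⁻¹ * g * k) • D.inf = D.inf := by
    rw [mul_smul, mul_smul, hk1, ha, inv_smul_eq_iff, hk1]
  have e2 : (k⁻¹ * g * k) • D.pt 0 0 = D.pt 0 0 := by
    rw [mul_smul, mul_smul, hk2, hb, inv_smul_eq_iff, hk2]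
  obtain ⟨u, hu⟩ := D.exists_hh e1 e2
  have e3 : D.hh u • (k⁻¹ • c) = k⁻¹ • c := by
    rw [← hu, mul_smul, mul_smul, smul_inv_smul, hc]
  have hu1 : u = 1 := by
    rcases D.cases_pt (k⁻¹ • c) with h | ⟨x, y, h⟩
    · exfalso; apply hac; rw [inv_smul_eq_iff] at h; rw [h, hk1]
    · rw [h] at e3
      apply D.hh_fix (x := x) (y := y) _ e3
      rintro ⟨rfl, rfl⟩
      apply hbc
      rw [inv_smul_eq_iff] at h; rw [h, hk2]
  rw [hu1, hh_one] at hu
  have : g = k * (k⁻¹ * g * k) * k⁻¹ := by group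
  rw [this, hu]; group

theorem card_Om : Nat.card (Om F m) = (2 ^ (2 * m + 1)) ^ 2 + 1 := by
  classical
  have e : Nonempty (Option (F × F) ≃ Om F m) := by
    refine ⟨Equiv.ofBijective (fun o => match o with | none => D.inf | some (x, y) => D.pt x y) ⟨?_, ?_⟩⟩
    · rintro (_ | ⟨x, y⟩) (_ | ⟨x', y'⟩) h
      · rfl
      · exact absurd h.symm (D.pt_ne_inf _ _)
      · exact absurd h (D.pt_ne_inf _ _)
      · obtain ⟨rfl, rfl⟩ := D.pt_inj h; rfl
    · intro p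
      rcases D.cases_pt p with rfl | ⟨x, y, rfl⟩
      · exact ⟨none, rfl⟩
      · exact ⟨some (x, y), rfl⟩
  obtain ⟨e⟩ := e
  rw [← Nat.card_congr e, ← D.hF]
  simp [sq]

theorem card_Sz : Nat.card (Cfsg.Sz F m) =
    (2 ^ (2 * m + 1)) ^ 2 * ((2 ^ (2 * m + 1)) ^ 2 + 1) * (2 ^ (2 * m + 1) - 1) := by
  have := D.isPretransitive
  rw [← Subgroup.card_mul_index (MulAction.stabilizer (Cfsg.Sz F m) D.inf), D.card_stab,
    MulAction.index_stabilizer_of_transitive, D.card_Om]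
  ring

theorem faithful : FaithfulSMul (Cfsg.Sz F m) (Om F m) := by
  refine ⟨fun {g k} hgk => ?_⟩
  have h1 : g⁻¹ * k = 1 := by
    apply D.three_pts (a := D.inf) (b := D.pt 0 0) (c := D.pt 1 0) (D.pt_ne_inf 0 0).symm
      (fun h => by simpa using (D.pt_inj h).1) (D.pt_ne_inf 1 0).symm
    all_goals rw [mul_smul, inv_smul_eq_iff, hgk]
  rw [inv_mul_eq_one] at h1
  exact h1

/-- A nontrivial unit. -/
theorem exists_unit : ∃ u : Fˣ, u ≠ 1 := by
  have h := D.four_lt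
  have : 1 < Nat.card Fˣ := by rw [Nat.card_units, Nat.card_eq_fintype_card]; omega
  have := Finite.one_lt_card_iff_nontrivial.1 this
  exact exists_ne 1

end Dat

end Cfsg.Agent.H8.Suz
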