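import Mathlib
import Cfsg.Prelude.Def_LieExceptional
import Cfsg.Agent.H8.SuzGroup

set_option autoImplicit false

/-! Simplicity of the Suzuki group, the unipotent subgroup. -/

namespace Cfsg.Agent.H8.Suz

open Matrix MulAction

variable {F : Type*} [Field F] [Fintype F] {m : ℕ} (D : Dat F m)

namespace Dat

include D

/-- The unipotent subgroup. -/
def U : Subgroup (Cfsg.Sz F m) where
  carrier := {g | ∃ a b, g = D.tt a b}
  one_mem' := ⟨0, 0, D.tt_zero.symm⟩
  mul_mem' := by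
    rintro _ _ ⟨a, b, rfl⟩ ⟨c, d, rfl⟩
    exact ⟨_, _, D.tt_mul a b c d⟩
  inv_mem' := by
    rintro _ ⟨a, b, rfl⟩
    exact ⟨_, _, D.tt_inv a b⟩

/-- The Borel subgroup. -/
def B : Subgroup (Cfsg.Sz F m) := MulAction.stabilizer (Cfsg.Sz F m) D.inf

/-- The torus. -/
def H : Subgroup (Cfsg.Sz F m) where
  carrier := {g | ∃ u, g = D.hh u}
  one_mem' := ⟨1, D.hh_one.symm⟩
  mul_mem' := by
    rintro _ _ ⟨a, rfl⟩ ⟨c, rfl⟩
    exact ⟨_, D.hh_mul a c⟩
  inv_mem' := by
    rintro _ ⟨a, rfl⟩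
    exact ⟨_, D.hh_inv a⟩

theorem mem_U {g : Cfsg.Sz F m} : g ∈ D.U ↔ ∃ a b, g = D.tt a b := Iff.rfl
theorem mem_H {g : Cfsg.Sz F m} : g ∈ D.H ↔ ∃ u, g = D.hh u := Iff.rfl
theorem mem_B {g : Cfsg.Sz F m} : g ∈ D.B ↔ ∃ a b u, g = D.tt a b * D.hh u := by
  constructor
  · intro hg; exact D.exists_tt_hh hg
  · rintro ⟨a, b, u, rfl⟩
    show (D.tt a b * D.hh u) • D.inf = D.inf
    rw [mul_smul, hh_inf, tt_inf]

theorem tt_mem_B (a b : F) : D.tt a b ∈ D.B := D.tt_inf a b
theorem hh_mem_B (u : Fˣ) : D.hh u ∈ D.B := D.hh_inf u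

theorem U_equiv : Nonempty (D.U ≃ F × F) := by
  refine ⟨(Equiv.ofBijective (fun p : F × F => (⟨D.tt p.1 p.2, _, _, rfl⟩ : D.U)) ⟨?_, ?_⟩).symm⟩
  · rintro ⟨a, b⟩ ⟨c, d⟩ h
    obtain ⟨h1, h2⟩ := D.tt_inj (congrArg Subtype.val h)
    simp only [Prod.mk.injEq]; exact ⟨h1, h2⟩
  · rintro ⟨_, a, b, rfl⟩
    exact ⟨(a, b), rfl⟩

theorem card_U : Nat.card D.U = (2 ^ (2 * m + 1)) ^ 2 := by
  obtain ⟨e⟩ := D.U_equiv
  rw [Nat.card_congr e, Nat.card_prod, Nat.card_eq_fintype_card, D.hF, sq]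

theorem card_H : Nat.card D.H = 2 ^ (2 * m + 1) - 1 := by
  rw [← D.card_units]
  refine (Nat.card_congr (Equiv.ofBijective (fun u : Fˣ => (⟨D.hh u, _, rfl⟩ : D.H)) ⟨?_, ?_⟩)).symm
  · intro u v h; exact D.hh_inj (congrArg Subtype.val h)
  · rintro ⟨_, a, rfl⟩; exact ⟨a, rfl⟩

/-- The hom `B → Fˣ` with kernel `U`. -/
noncomputable def toH : D.B →* Fˣ where
  toFun g := Classical.choose (Classical.choose_spec (Classical.choose_spec (D.mem_B.1 g.2)))
  map_one' := by
    have h := Classical.choose_spec (Classical.choose_spec (Classical.choose_spec (D.mem_B.1 (1 : D.B).2)))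
    have e : D.tt 0 0 * D.hh 1 = (1 : Cfsg.Sz F m) := by rw [D.tt_zero, D.hh_one, one_mul]
    exact (D.tt_hh_inj (e.trans h)).2.2.symm
  map_mul' := by
    rintro ⟨x, hx⟩ ⟨y, hy⟩
    have h := Classical.choose_spec (Classical.choose_spec (Classical.choose_spec (D.mem_B.1 (⟨x, hx⟩ * ⟨y, hy⟩ : D.B).2)))
    have h1 := Classical.choose_spec (Classical.choose_spec (Classical.choose_spec (D.mem_B.1 hx)))
    have h2 := Classical.choose_spec (Classical.choose_spec (Classical.choose_spec (D.mem_B.1 hy)))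
    have e : x * y = _ := congrArg₂ (· * ·) h1 h2
    rw [mul_assoc, ← mul_assoc (D.hh _) (D.tt _ _), D.hh_mul_tt, mul_assoc (D.tt _ _) (D.hh _) (D.hh _), D.hh_mul,
      ← mul_assoc, D.tt_mul] at e
    exact (D.tt_hh_inj (h.symm.trans e)).2.2

theorem toH_eq {g : D.B} {a b : F} {u : Fˣ} (h : (g : Cfsg.Sz F m) = D.tt a b * D.hh u) : D.toH g = u :=
  (D.tt_hh_inj ((Classical.choose_spec (Classical.choose_spec (Classical.choose_spec (D.mem_B.1 g.2)))).symm.trans h)).2.2

theorem ker_toH {g : D.B} : g ∈ D.toH.ker ↔ (g : Cfsg.Sz F m) ∈ D.U := by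
  rw [MonoidHom.mem_ker]
  obtain ⟨a, b, u, h⟩ := D.mem_B.1 g.2
  rw [D.toH_eq h]
  constructor
  · rintro rfl; rw [D.hh_one, mul_one] at h; exact ⟨a, b, h⟩
  · rintro ⟨c, d, h'⟩
    have : D.tt a b * D.hh u = D.tt c d * D.hh 1 := by rw [← h, h', D.hh_one, mul_one]
    exact (D.tt_hh_inj this).2.2

theorem U_le_B : D.U ≤ D.B := by
  rintro _ ⟨a, b, rfl⟩; exact D.tt_mem_B a b

theorem B_solvable : Group.IsSolvable D.B := by
  -- the hom U → F
  have hU : Group.IsSolvable D.U := by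
    let f : D.U →* Multiplicative F := {
      toFun := fun g => Multiplicative.ofAdd (Classical.choose g.2)
      map_one' := by
        have h := Classical.choose_spec (Classical.choose_spec (1 : D.U).2)
        have h' := (D.tt_inj (D.tt_zero.trans h)).1
        rw [← h']; rfl
      map_mul' := by
        intro x y
        have h := Classical.choose_spec (Classical.choose_spec (x * y).2)
        have h1 := Classical.choose_spec (Classical.choose_spec x.2)
        have h2 := Classical.choose_spec (Classical.choose_spec y.2)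
        have e : (x : Cfsg.Sz F m) * y = _ := congrArg₂ (· * ·) h1 h2
        rw [D.tt_mul] at e
        rw [(D.tt_inj (h.symm.trans e)).1]; rfl }
    have hker : ∀ g ∈ f.ker, ∃ b, (g : Cfsg.Sz F m) = D.tt 0 b := by
      intro g hg
      have h := Classical.choose_spec (Classical.choose_spec g.2)
      have h0 : Classical.choose g.2 = 0 := hg
      exact ⟨Classical.choose (Classical.choose_spec g.2), h.trans (by rw [← h0])⟩
    have : Group.IsSolvable f.ker := by
      refine Group.isSolvable_of_comm fun x y => ?_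
      obtain ⟨b, hb⟩ := hker x x.2
      obtain ⟨c, hc⟩ := hker y y.2
      apply Subtype.ext; apply Subtype.ext
      show ((x : D.U) : Cfsg.Sz F m) * (y : D.U) = (y : D.U) * (x : D.U)
      rw [hb, hc, D.tt_mul, D.tt_mul]; simp [add_comm]
    exact Group.isSolvable_of_ker_le_range f.ker.subtype f (by rw [Subgroup.range_subtype])
  have : Group.IsSolvable D.toH.ker := by
    have e : Function.Injective (fun g : D.toH.ker => (⟨g, D.ker_toH.1 g.2⟩ : D.U)) := by
      intro x y h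
      apply Subtype.ext; apply Subtype.ext
      exact congrArg (fun t : D.U => (t : Cfsg.Sz F m)) h
    let f : D.toH.ker →* D.U := ⟨⟨fun g : D.toH.ker => (⟨g, D.ker_toH.1 g.2⟩ : D.U), rfl⟩, fun _ _ => rfl⟩
    exact Group.isSolvable_of_isSolvable_injective (f := f) e
  exact Group.isSolvable_of_ker_le_range D.toH.ker.subtype D.toH (by rw [Subgroup.range_subtype])

theorem theta_sq_ne {u : Fˣ} (hu : u ≠ 1) : D.θ u * (u : F) ^ 2 ≠ 1 := by
  intro h
  apply hu
  apply D.hh_fix (x := 0) (y := 1) (by simp)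
  rw [hh_pt, h]; simp

theorem theta_ne {u : Fˣ} (hu : u ≠ 1) : D.θ u ≠ 1 := by
  intro h
  apply hu
  exact Units.ext (D.θ.injective (by rw [h, Units.val_one, map_one]))

theorem perfect : commutator (Cfsg.Sz F m) = ⊤ := by
  have hchar := D.char
  set K := commutator (Cfsg.Sz F m) with hK
  have hcomm : ∀ x y : Cfsg.Sz F m, x * y * x⁻¹ * y⁻¹ ∈ K := by
    intro x y
    rw [hK, commutator_def]
    exact Subgroup.commutator_mem_commutator (Subgroup.mem_top x) (Subgroup.mem_top y)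
  obtain ⟨u, hu⟩ := D.exists_unit
  have h0 : ∀ b, D.tt 0 b ∈ K := by
    intro b
    have hne : D.θ u * (u : F) ^ 2 - 1 ≠ 0 := sub_ne_zero.2 (D.theta_sq_ne hu)
    have := hcomm (D.hh u) (D.tt 0 (b / (D.θ u * (u : F) ^ 2 - 1)))
    rw [D.hh_conj_tt, D.tt_inv, D.tt_mul] at this
    convert this using 2
    · simp
    · field_simp
      grind
  have h1 : ∀ a b, D.tt a b ∈ K := by
    intro a b
    have hne : D.θ u - 1 ≠ 0 := sub_ne_zero.2 (D.theta_ne hu)
    have := hcomm (D.hh u) (D.tt (a / (D.θ u - 1)) 0)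
    rw [D.hh_conj_tt, D.tt_inv, D.tt_mul] at this
    have ea : D.θ u * (a / (D.θ u - 1)) + a / (D.θ u - 1) = a := by
      field_simp; grind
    rw [ea] at this
    obtain ⟨c, hc⟩ : ∃ c, D.tt a c ∈ K := ⟨_, this⟩
    have := K.mul_mem hc (h0 (b + c))
    rw [D.tt_mul] at this
    convert this using 2
    · simp
    · grind
  have h2 : ∀ u : Fˣ, D.hh (u ^ 2) ∈ K := by
    intro u
    have := hcomm D.ww (D.hh u)⁻¹
    rw [D.ww_inv, D.hh_inv, D.ww_conj_hh, inv_inv, D.hh_inv, inv_inv, D.hh_mul, ← sq] at this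
    exact this
  have h3 : ∀ u : Fˣ, D.hh u ∈ K := by
    intro u
    have hcard := D.card_units
    have hodd : Odd (Nat.card Fˣ) := by
      rw [hcard]
      have : 1 ≤ 2 ^ (2 * m + 1) := Nat.one_le_two_pow
      obtain ⟨k, hk⟩ : ∃ k, 2 ^ (2 * m + 1) = 2 * k := ⟨2 ^ (2 * m), by rw [pow_succ]; ring⟩
      exact ⟨k - 1, by omega⟩
    obtain ⟨k, hk⟩ := hodd
    have : u = (u ^ (k + 1)) ^ 2 := by
      rw [← pow_mul, show (k + 1) * 2 = (2 * k + 1) + 1 by ring, ← hk, pow_succ, pow_card_eq_one', one_mul]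
    rw [this]; exact h2 _
  have h4 : D.ww ∈ K := by
    -- ww * tt 0 1 * ww = tt x y * ww * (tt a b * hh v)
    have e : D.ww * D.tt 0 1 * D.ww ∈ K := by
      have := Subgroup.Normal.conj_mem (inferInstance : K.Normal) _ (h1 0 1) D.ww
      rwa [D.ww_inv] at this
    rcases D.bruhat (D.ww * D.tt 0 1 * D.ww) with ⟨a, b, v, h⟩ | ⟨x, y, a, b, v, h⟩
    · exfalso
      have h5 : (D.ww * D.tt 0 1 * D.ww) • D.inf = D.inf := by
        rw [h]; exact D.mem_B.2 ⟨a, b, v, rfl⟩
      rw [mul_smul, mul_smul, D.ww_inf, D.tt_pt] at h5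
      have h6 : D.tt 0 1 • D.pt 0 0 = D.ww • D.inf := by
        rw [D.tt_pt, ← h5, ← mul_smul, D.ww_mul_ww, one_smul]
      rw [D.ww_inf, D.tt_pt] at h6
      have := (D.pt_inj h6).2
      simp at this
    · rw [h] at e
      have h7 : D.tt x y * D.ww ∈ K := (Subgroup.mul_mem_cancel_right K (K.mul_mem (h1 _ _) (h3 _))).1 e
      exact (Subgroup.mul_mem_cancel_left K (h1 _ _)).1 h7
  exact D.generate K h1 h3 h4

theorem simple : IsSimpleGroup (Cfsg.Sz F m) := by
  have h2 := D.two_trans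
  have hprim : MulAction.IsPreprimitive (Cfsg.Sz F m) (Om F m) :=
    MulAction.isPreprimitive_of_is_two_pretransitive h2
  have hfaith := D.faithful
  have hnt : Nontrivial (Cfsg.Sz F m) := by
    refine ⟨D.tt 0 1, 1, fun h => ?_⟩
    rw [← D.tt_zero] at h
    simpa using (D.tt_inj h).2
  refine ⟨fun N hN => ?_⟩
  by_cases hbot : N = ⊥
  · exact Or.inl hbot
  right
  have htr : MulAction.IsPretransitive N (Om F m) := by
    apply MulAction.IsQuasiPreprimitive.isPretransitive_of_normal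
    intro hfix
    apply hbot
    rw [eq_bot_iff]
    intro g hg
    rw [Subgroup.mem_bot]
    apply hfaith.eq_of_smul_eq_smul (α := Om F m)
    intro a
    have : a ∈ MulAction.fixedPoints N (Om F m) := by rw [hfix]; trivial
    rw [one_smul]
    exact this ⟨g, hg⟩
  -- G = N B
  have hNB : ∀ g : Cfsg.Sz F m, ∃ n ∈ N, n⁻¹ * g ∈ D.B := by
    intro g
    obtain ⟨n, hn⟩ := htr.exists_smul_eq D.inf (g • D.inf)
    refine ⟨n, n.2, ?_⟩
    show (n⁻¹ * g : Cfsg.Sz F m) • D.inf = D.inf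
    rw [mul_smul, ← hn, Subgroup.smul_def]; exact inv_smul_smul _ _
  have hsol : Group.IsSolvable (Cfsg.Sz F m ⧸ N) := by
    have := D.B_solvable
    apply Group.isSolvable_of_surjective (f := (QuotientGroup.mk' N).comp D.B.subtype)
    intro q
    obtain ⟨g, rfl⟩ := QuotientGroup.mk_surjective q
    obtain ⟨n, hn, hb⟩ := hNB g
    refine ⟨⟨_, hb⟩, ?_⟩
    show (QuotientGroup.mk (n⁻¹ * g) : Cfsg.Sz F m ⧸ N) = QuotientGroup.mk g
    rw [QuotientGroup.mk_mul, (QuotientGroup.eq_one_iff _).2 (N.inv_mem hn), one_mul]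
  have hperf : commutator (Cfsg.Sz F m ⧸ N) = ⊤ := by
    rw [commutator_def, ← Subgroup.map_top_of_surjective (QuotientGroup.mk' N) (QuotientGroup.mk'_surjective N),
      ← Subgroup.map_commutator, ← commutator_def, D.perfect]
  have hsub : Subsingleton (Cfsg.Sz F m ⧸ N) := by
    by_contra hns
    rw [not_subsingleton_iff_nontrivial] at hns
    exact absurd hperf (ne_of_lt (Group.IsSolvable.commutator_lt_top_of_nontrivial _))
  rw [eq_top_iff]
  intro g _
  rw [← QuotientGroup.eq_one_iff]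
  exact Subsingleton.elim _ _

end Dat

end Cfsg.Agent.H8.Suz
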