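import Mathlib
import Cfsg.Prelude.Def_LieExceptional
import Cfsg.Agent.H8.SuzSimple

set_option autoImplicit false

/-! Sylow 2-subgroups of the Suzuki group, the invariant form. -/

namespace Cfsg.Agent.H8.Suz

open Matrix MulAction
open scoped commutatorElement

variable {F : Type*} [Field F] [Fintype F] {m : ℕ} (D : Dat F m)

namespace Dat

include D

theorem U_isPGroup : IsPGroup 2 D.U := by
  apply IsPGroup.of_card (n := 2 * (2 * m + 1))
  rw [D.card_U, ← pow_mul, mul_comm]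

theorem odd_q1 : ¬ 2 ∣ 2 ^ (2 * m + 1) - 1 := by
  have : 1 ≤ 2 ^ (2 * m + 1) := Nat.one_le_two_pow
  obtain ⟨k, hk⟩ : ∃ k, 2 ^ (2 * m + 1) = 2 * k := ⟨2 ^ (2 * m), by rw [pow_succ]; ring⟩
  omega

theorem odd_q2 : ¬ 2 ∣ (2 ^ (2 * m + 1)) ^ 2 + 1 := by
  obtain ⟨k, hk⟩ : ∃ k, (2 ^ (2 * m + 1)) ^ 2 = 2 * k := ⟨2 ^ (4 * m + 1), by
    rw [← pow_mul, ← pow_succ']; congr 1; ring⟩
  omega

theorem U_index : D.U.index = ((2 ^ (2 * m + 1)) ^ 2 + 1) * (2 ^ (2 * m + 1) - 1) := by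
  have h := D.U.card_mul_index
  rw [D.card_U, D.card_Sz, mul_assoc] at h
  exact Nat.eq_of_mul_eq_mul_left (by positivity) h

/-- `U` as a Sylow subgroup. -/
noncomputable def US : Sylow 2 (Cfsg.Sz F m) :=
  haveI : Fact (Nat.Prime 2) := ⟨Nat.prime_two⟩
  D.U_isPGroup.toSylow (by
    rw [D.U_index, Nat.prime_two.dvd_mul, not_or]
    exact ⟨D.odd_q2, D.odd_q1⟩)

theorem coe_US : (D.US : Subgroup (Cfsg.Sz F m)) = D.U := rfl

theorem sylow_equiv (P : Sylow 2 (Cfsg.Sz F m)) : Nonempty (P ≃* D.U) := by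
  have : Fact (Nat.Prime 2) := ⟨Nat.prime_two⟩
  exact ⟨Sylow.equiv P D.US⟩

theorem sylow_conj (P : Sylow 2 (Cfsg.Sz F m)) : ∃ g : Cfsg.Sz F m, ∀ x, x ∈ P ↔ g⁻¹ * x * g ∈ D.U := by
  have : Fact (Nat.Prime 2) := ⟨Nat.prime_two⟩
  obtain ⟨g, hg⟩ := MulAction.exists_smul_eq (Cfsg.Sz F m) D.US P
  refine ⟨g, fun x => ?_⟩
  rw [← hg]
  constructor
  · rintro ⟨y, hy, rfl⟩
    show g⁻¹ * (g * y * g⁻¹) * g ∈ D.U
    have e : g⁻¹ * (g * y * g⁻¹) * g = y := by group
    rw [e]; exact hy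
  · intro h
    refine ⟨g⁻¹ * x * g, h, ?_⟩
    show g * (g⁻¹ * x * g) * g⁻¹ = x
    group

/-- An element outside the prime field. -/
theorem exists_ne01 : ∃ c : F, c ≠ 0 ∧ c ≠ 1 := by
  obtain ⟨u, hu⟩ := D.exists_unit
  exact ⟨u, u.ne_zero, fun h => hu (Units.ext h)⟩

theorem add_theta_ne {c : F} (h0 : c ≠ 0) (h1 : c ≠ 1) : c + D.θ c ≠ 0 := by
  have := D.char
  intro h
  have : D.θ c = c := by grind
  rcases D.theta_eq_self this with h | h
  · exact h0 h
  · exact h1 h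

theorem exists_mul_theta (t : F) : ∃ s, s * D.θ s = t := by
  by_cases ht : t = 0
  · exact ⟨0, by rw [zero_mul, ht]⟩
  · refine ⟨D.θ t / t, ?_⟩
    have : D.θ t ≠ 0 := by simpa using ht
    rw [map_div₀, D.hθ]; field_simp

theorem tt_comm {a b c d : F} : D.tt a b * D.tt c d * (D.tt a b)⁻¹ * (D.tt c d)⁻¹ = D.tt 0 (D.θ a * c + D.θ c * a) := by
  have := D.char
  rw [D.tt_inv, D.tt_inv, D.tt_mul, D.tt_mul, D.tt_mul]
  congr 1
  · grind
  · simp only [map_add]; grind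

theorem tt_commute {a b c d : F} : D.tt a b * D.tt c d = D.tt c d * D.tt a b ↔ D.θ a * c = D.θ c * a := by
  have := D.char
  rw [D.tt_mul, D.tt_mul]
  constructor
  · intro h
    have := (D.tt_inj h).2
    linear_combination this
  · intro h
    rw [h]; congr 1 <;> ring

theorem tt_sq {a b : F} : D.tt a b * D.tt a b = D.tt 0 (D.θ a * a) := by
  have := D.char
  rw [D.tt_mul]; congr 1 <;> grind

/-- The centre of `U`. -/
def ZU : Subgroup (Cfsg.Sz F m) where
  carrier := {g | ∃ b, g = D.tt 0 b}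
  one_mem' := ⟨0, D.tt_zero.symm⟩
  mul_mem' := by
    rintro _ _ ⟨b, rfl⟩ ⟨d, rfl⟩
    exact ⟨b + d, by rw [D.tt_mul]; simp⟩
  inv_mem' := by
    rintro _ ⟨b, rfl⟩
    exact ⟨_, D.tt_inv 0 b⟩

theorem card_ZU : Nat.card D.ZU = 2 ^ (2 * m + 1) := by
  rw [← D.hF, ← Nat.card_eq_fintype_card]
  refine (Nat.card_congr (Equiv.ofBijective (fun u : F => (⟨D.tt 0 u, _, rfl⟩ : D.ZU)) ⟨?_, ?_⟩)).symm
  · intro u v h; exact (D.tt_inj (congrArg Subtype.val h)).2
  · rintro ⟨_, a, rfl⟩; exact ⟨a, rfl⟩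

theorem ZU_le : D.ZU ≤ D.U := by rintro _ ⟨b, rfl⟩; exact ⟨0, b, rfl⟩

theorem center_U : Subgroup.center D.U = D.ZU.subgroupOf D.U := by
  have := D.char
  ext ⟨g, hg⟩
  obtain ⟨a, b, rfl⟩ := hg
  rw [Subgroup.mem_center_iff, Subgroup.mem_subgroupOf]
  constructor
  · intro h
    have h1 : ∀ c d, D.tt c d * D.tt a b = D.tt a b * D.tt c d := fun c d =>
      congrArg Subtype.val (h ⟨D.tt c d, c, d, rfl⟩)
    have h2 : ∀ c, D.θ c * a = D.θ a * c := fun c => D.tt_commute.1 (h1 c 0)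
    have ha : a = 0 := by
      have h3 := h2 1
      rw [map_one, one_mul, mul_one] at h3
      rcases D.theta_eq_self h3.symm with h | h
      · exact h
      · exfalso
        obtain ⟨c, hc0, hc1⟩ := D.exists_ne01
        have h4 := h2 c
        rw [h, map_one, mul_one, one_mul] at h4
        rcases D.theta_eq_self h4 with h | h
        · exact hc0 h
        · exact hc1 h
    rw [ha]; exact ⟨b, rfl⟩
  · rintro ⟨b', hb'⟩ ⟨k, c, d, rfl⟩
    apply Subtype.ext
    show D.tt c d * D.tt a b = D.tt a b * D.tt c d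
    have : D.tt a b = D.tt 0 b' := hb'
    rw [this, D.tt_commute]; simp

theorem commutator_U : commutator D.U = D.ZU.subgroupOf D.U := by
  have := D.char
  apply le_antisymm
  · rw [commutator_def, Subgroup.commutator_le]
    rintro ⟨_, a, b, rfl⟩ - ⟨_, c, d, rfl⟩ -
    exact ⟨_, D.tt_comm⟩
  · rintro ⟨g, hg⟩ hz
    obtain ⟨b, hb⟩ : ∃ b, g = D.tt 0 b := hz
    subst hb
    obtain ⟨c, hc0, hc1⟩ := D.exists_ne01
    have hk := D.add_theta_ne hc0 hc1
    obtain ⟨s, hs⟩ := D.exists_mul_theta (b / (c + D.θ c))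
    have : (⟨D.tt 0 b, hg⟩ : D.U) = ⁅(⟨D.tt s 0, s, 0, rfl⟩ : D.U), ⟨D.tt (s * c) 0, s * c, 0, rfl⟩⁆ := by
      apply Subtype.ext
      show D.tt 0 b = D.tt s 0 * D.tt (s * c) 0 * (D.tt s 0)⁻¹ * (D.tt (s * c) 0)⁻¹
      rw [D.tt_comm]
      congr 1
      rw [map_mul]
      have hb : b = (s * D.θ s) * (c + D.θ c) := by rw [hs]; field_simp
      rw [hb]; ring
    rw [this, commutator_def]
    exact Subgroup.commutator_mem_commutator (Subgroup.mem_top _) (Subgroup.mem_top _)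

theorem exponent_U : Monoid.exponent D.U = 4 := by
  have := D.char
  have h4 : ∀ g : D.U, g ^ 4 = 1 := by
    rintro ⟨_, a, b, rfl⟩
    apply Subtype.ext
    show D.tt a b ^ 4 = 1
    have e : D.tt a b ^ 4 = (D.tt a b * D.tt a b) * (D.tt a b * D.tt a b) := by
      rw [← pow_two, ← pow_two, ← pow_mul]
    rw [e, D.tt_sq, D.tt_sq]
    simp [D.tt_zero]
  have hd : Monoid.exponent D.U ∣ 4 := Monoid.exponent_dvd_of_forall_pow_eq_one h4
  have h2 : ¬ Monoid.exponent D.U ∣ 2 := by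
    intro h
    have := Monoid.pow_exponent_eq_one (⟨D.tt 1 0, 1, 0, rfl⟩ : D.U)
    obtain ⟨k, hk⟩ := h
    have h1 : (⟨D.tt 1 0, 1, 0, rfl⟩ : D.U) ^ 2 = 1 := by rw [hk, pow_mul, this, one_pow]
    have h3 : D.tt 1 0 * D.tt 1 0 = 1 := by rw [← sq]; exact congrArg Subtype.val h1
    rw [D.tt_sq, ← D.tt_zero] at h3
    have := (D.tt_inj h3).2
    simp at this
  have : Monoid.exponent D.U ∈ Nat.divisors 4 := by rw [Nat.mem_divisors]; exact ⟨hd, by norm_num⟩
  have h5 : Nat.divisors 4 = {1, 2, 4} := by decide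
  rw [h5] at this
  simp only [Finset.mem_insert, Finset.mem_singleton] at this
  rcases this with h | h | h
  · rw [h] at h2; exact absurd (one_dvd 2) h2
  · rw [h] at h2; exact absurd (dvd_refl 2) h2
  · exact h

theorem form_eq {g : SpecialLinearGroup (Fin 4) F} (hg : g ∈ Cfsg.Sz F m) :
    (g : Matrix (Fin 4) (Fin 4) F).transpose * Cfsg.suzukiForm F * (g : Matrix (Fin 4) (Fin 4) F) = Cfsg.suzukiForm F := by
  have := D.char
  let K : Subgroup (SpecialLinearGroup (Fin 4) F) := {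
    carrier := {g | (g : Matrix (Fin 4) (Fin 4) F).transpose * Cfsg.suzukiForm F * (g : Matrix (Fin 4) (Fin 4) F) = Cfsg.suzukiForm F}
    one_mem' := by simp
    mul_mem' := by
      intro a b ha hb
      show ((a * b : SpecialLinearGroup (Fin 4) F) : Matrix (Fin 4) (Fin 4) F).transpose * Cfsg.suzukiForm F * ((a * b : SpecialLinearGroup (Fin 4) F) : Matrix (Fin 4) (Fin 4) F) = Cfsg.suzukiForm F
      rw [Matrix.SpecialLinearGroup.coe_mul, Matrix.transpose_mul]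
      have ha' : (a : Matrix (Fin 4) (Fin 4) F).transpose * Cfsg.suzukiForm F * (a : Matrix (Fin 4) (Fin 4) F) = Cfsg.suzukiForm F := ha
      have hb' : (b : Matrix (Fin 4) (Fin 4) F).transpose * Cfsg.suzukiForm F * (b : Matrix (Fin 4) (Fin 4) F) = Cfsg.suzukiForm F := hb
      calc _ = (b : Matrix (Fin 4) (Fin 4) F).transpose * ((a : Matrix (Fin 4) (Fin 4) F).transpose * Cfsg.suzukiForm F * (a : Matrix (Fin 4) (Fin 4) F)) * (b : Matrix (Fin 4) (Fin 4) F) := by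
            simp only [Matrix.mul_assoc]
        _ = _ := by rw [ha', hb']
    inv_mem' := by
      intro a ha
      have ha' : (a : Matrix (Fin 4) (Fin 4) F).transpose * Cfsg.suzukiForm F * (a : Matrix (Fin 4) (Fin 4) F) = Cfsg.suzukiForm F := ha
      have h1 : (a : Matrix (Fin 4) (Fin 4) F) * ((a⁻¹ : SpecialLinearGroup (Fin 4) F) : Matrix (Fin 4) (Fin 4) F) = 1 := by
        rw [← Matrix.SpecialLinearGroup.coe_mul, mul_inv_cancel, Matrix.SpecialLinearGroup.coe_one]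
      show ((a⁻¹ : SpecialLinearGroup (Fin 4) F) : Matrix (Fin 4) (Fin 4) F).transpose * Cfsg.suzukiForm F * ((a⁻¹ : SpecialLinearGroup (Fin 4) F) : Matrix (Fin 4) (Fin 4) F) = Cfsg.suzukiForm F
      conv_lhs => rw [← ha']
      calc _ = ((a : Matrix (Fin 4) (Fin 4) F) * ((a⁻¹ : SpecialLinearGroup (Fin 4) F) : Matrix (Fin 4) (Fin 4) F)).transpose * Cfsg.suzukiForm F *
            ((a : Matrix (Fin 4) (Fin 4) F) * ((a⁻¹ : SpecialLinearGroup (Fin 4) F) : Matrix (Fin 4) (Fin 4) F)) := by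
            rw [Matrix.transpose_mul]; simp only [Matrix.mul_assoc]
        _ = _ := by rw [h1]; simp }
  have hK : Cfsg.Sz F m ≤ K := by
    apply closure_induction D.hθ D.hm D.hm1 D.hF
    · intro a b
      show (Tm D.θ a b).transpose * Cfsg.suzukiForm F * Tm D.θ a b = Cfsg.suzukiForm F
      ext i j
      fin_cases i <;> fin_cases j <;> simp [Tm, z, Cfsg.suzukiForm, Matrix.mul_apply, Fin.sum_univ_succ] <;> grind
    · intro u
      have hu : (u : F) ≠ 0 := u.ne_zero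
      have hu' : D.θ (u : F) ≠ 0 := by simp
      show (Suz.hm D.θ u).transpose * Cfsg.suzukiForm F * Suz.hm D.θ u = Cfsg.suzukiForm F
      ext i j
      fin_cases i <;> fin_cases j <;> simp [Suz.hm, Cfsg.suzukiForm, Matrix.mul_apply, Fin.sum_univ_succ] <;> field_simp
    · show (wm F).transpose * Cfsg.suzukiForm F * wm F = Cfsg.suzukiForm F
      ext i j
      fin_cases i <;> fin_cases j <;> simp [wm, Cfsg.suzukiForm, Matrix.mul_apply, Fin.sum_univ_succ]
  exact hK hg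

end Dat

end Cfsg.Agent.H8.Suz
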