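import Mathlib
import Cfsg.Prelude.Def_LieExceptional
import Cfsg.Agent.H8.SuzSylow

set_option autoImplicit false

/-! Borel subgroup = normaliser of the Sylow 2-subgroup; action on cosets. -/

namespace Cfsg.Agent.H8.Suz

open Matrix MulAction

variable {F : Type*} [Field F] [Fintype F] {m : ℕ} (D : Dat F m)

namespace Dat

include D

theorem conj_tt_mem {g : Cfsg.Sz F m} (hg : g ∈ D.B) (a b : F) : g * D.tt a b * g⁻¹ ∈ D.U := by
  obtain ⟨c, d, u, rfl⟩ := D.mem_B.1 hg
  have e : D.tt c d * D.hh u * D.tt a b * (D.tt c d * D.hh u)⁻¹ =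
      D.tt c d * (D.hh u * D.tt a b * (D.hh u)⁻¹) * (D.tt c d)⁻¹ := by group
  rw [e, D.hh_conj_tt]
  exact D.U.mul_mem (D.U.mul_mem ⟨_, _, rfl⟩ ⟨_, _, rfl⟩) (D.U.inv_mem ⟨_, _, rfl⟩)

theorem tt_fix {a b : F} (h : ¬ (a = 0 ∧ b = 0)) {p : Om F m} (hp : D.tt a b • p = p) : p = D.inf := by
  rcases D.cases_pt p with h1 | ⟨x, y, rfl⟩
  · exact h1
  · exfalso
    rw [D.tt_pt] at hp
    obtain ⟨h1, h2⟩ := D.pt_inj hp
    have ha : a = 0 := by simpa using h1
    subst ha
    apply h
    refine ⟨rfl, ?_⟩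
    simpa using h2

theorem normalizer_U : Subgroup.normalizer (D.U : Set (Cfsg.Sz F m)) = D.B := by
  ext g
  constructor
  · intro hg
    rw [Subgroup.mem_normalizer_iff] at hg
    have h1 : g * D.tt 0 1 * g⁻¹ ∈ D.U := (hg _).1 ⟨0, 1, rfl⟩
    obtain ⟨a, b, hab⟩ := h1
    -- g • inf is fixed by tt a b
    have h2 : D.tt a b • (g • D.inf) = g • D.inf := by
      rw [← hab, mul_smul, mul_smul, inv_smul_smul, D.tt_inf]
    apply D.tt_fix _ h2
    rintro ⟨rfl, rfl⟩
    rw [D.tt_zero, mul_inv_eq_one] at hab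
    have : D.tt 0 1 = 1 := mul_left_cancel (a := g) (by rw [hab, mul_one])
    rw [← D.tt_zero] at this
    simpa using (D.tt_inj this).2
  · intro hg
    rw [Subgroup.mem_normalizer_iff]
    intro x
    constructor
    · rintro ⟨a, b, rfl⟩; exact D.conj_tt_mem hg a b
    · rintro ⟨a, b, h⟩
      have h1 := D.conj_tt_mem (D.B.inv_mem hg) a b
      have e : g⁻¹ * D.tt a b * g⁻¹⁻¹ = x := by rw [← h]; group
      rwa [e] at h1

theorem card_B : Nat.card D.B = (2 ^ (2 * m + 1)) ^ 2 * (2 ^ (2 * m + 1) - 1) := D.card_stab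

theorem coatom_B : IsCoatom D.B := by
  have h2 := D.two_trans
  have hprim : MulAction.IsPreprimitive (Cfsg.Sz F m) (Om F m) :=
    MulAction.isPreprimitive_of_is_two_pretransitive h2
  have hntΩ : Nontrivial (Om F m) := ⟨D.inf, D.pt 0 0, (D.pt_ne_inf 0 0).symm⟩
  exact MulAction.IsPreprimitive.isCoatom_stabilizer_of_isPreprimitive (G := Cfsg.Sz F m) D.inf

/-- The map `u ↦ θ(u) u²` is onto on units. -/
theorem exists_theta_sq (t : Fˣ) : ∃ u : Fˣ, D.θ u * (u : F) ^ 2 = t := by
  let f : Fˣ →* Fˣ := {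
    toFun := fun u => Units.map D.θ.toMonoidHom u * u ^ 2
    map_one' := by simp
    map_mul' := fun u v => by rw [map_mul, mul_pow]; exact mul_mul_mul_comm _ _ _ _ }
  have hinj : Function.Injective f := by
    rw [injective_iff_map_eq_one]
    intro u hu
    by_contra hne
    apply D.theta_sq_ne hne
    have := congrArg Units.val hu
    exact this
  obtain ⟨u, hu⟩ := (Finite.surjective_of_injective hinj) t
  exact ⟨u, congrArg Units.val hu⟩

theorem U_le_of {M : Subgroup (Cfsg.Sz F m)} (hH : ∀ u, D.hh u ∈ M) {a b : F} (ha : a ≠ 0) (hab : D.tt a b ∈ M) :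
    ∀ c d, D.tt c d ∈ M := by
  have hchar := D.char
  have h1 : ∀ c, ∃ d, D.tt c d ∈ M := by
    intro c
    by_cases hc : c = 0
    · exact ⟨0, by rw [hc, D.tt_zero]; exact M.one_mem⟩
    · obtain ⟨v, hv⟩ := D.theta_surj (c / a)
      have hv0 : v ≠ 0 := by rintro rfl; rw [map_zero] at hv; exact (div_ne_zero hc ha) hv.symm
      have := M.mul_mem (M.mul_mem (hH (Units.mk0 v hv0)) hab) (M.inv_mem (hH (Units.mk0 v hv0)))
      rw [D.hh_conj_tt, Units.val_mk0, hv, div_mul_cancel₀ c ha] at this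
      exact ⟨_, this⟩
  have h2 : ∀ d, D.tt 0 d ∈ M := by
    intro d
    by_cases hd : d = 0
    · rw [hd, D.tt_zero]; exact M.one_mem
    · have h3 := M.mul_mem hab hab
      rw [D.tt_sq] at h3
      have hθa : D.θ a ≠ 0 := by simpa using ha
      obtain ⟨u, hu⟩ := D.exists_theta_sq (Units.mk0 (d / (D.θ a * a)) (div_ne_zero hd (mul_ne_zero hθa ha)))
      have := M.mul_mem (M.mul_mem (hH u) h3) (M.inv_mem (hH u))
      rw [D.hh_conj_tt, hu, Units.val_mk0, mul_zero, div_mul_cancel₀ _ (mul_ne_zero hθa ha)] at this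
      exact this
  intro c d
  obtain ⟨e, he⟩ := h1 c
  have := M.mul_mem he (h2 (d - e))
  rw [D.tt_mul] at this
  convert this using 2
  · simp
  · ring

end Dat

/-- Transfer of a 2-transitive action to cosets. -/
theorem coset_action {G Ω : Type*} [Group G] [MulAction G Ω] (ω : Ω) (N : Subgroup G) (hN : ∀ g, g ∈ N ↔ g • ω = ω)
    (h2 : MulAction.IsMultiplyPretransitive G Ω 2) (S : Subgroup G)
    (hreg : ∀ x y : Ω, x ≠ ω → y ≠ ω → ∃! s : S, (s : G) • x = y) :
    MulAction.IsMultiplyPretransitive G (G ⧸ N) 2 ∧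
    ∀ x y : G ⧸ N, x ≠ QuotientGroup.mk 1 → y ≠ QuotientGroup.mk 1 → ∃! s : S, (s : G) • x = y := by
  let f : G ⧸ N → Ω := Quotient.lift (fun g : G => g • ω) (by
    intro a b hab
    have h1 : a⁻¹ * b ∈ N := QuotientGroup.leftRel_apply.1 hab
    have h2 := (hN _).1 h1
    show a • ω = b • ω
    rw [mul_smul, inv_smul_eq_iff] at h2
    exact h2.symm)
  have hfmk : ∀ g : G, f (QuotientGroup.mk g) = g • ω := fun g => rfl
  have hf : ∀ (g : G) (q : G ⧸ N), f (g • q) = g • f q := by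
    intro g q
    induction q using QuotientGroup.induction_on with
    | H k =>
      show (g * k) • ω = g • k • ω
      rw [mul_smul]
  have hinj : Function.Injective f := by
    intro a b hab
    induction a using QuotientGroup.induction_on with
    | H a =>
      induction b using QuotientGroup.induction_on with
      | H b =>
        rw [hfmk, hfmk] at hab
        rw [QuotientGroup.eq, hN, mul_smul, inv_smul_eq_iff, hab]
  refine ⟨?_, ?_⟩
  · rw [MulAction.is_two_pretransitive_iff] at h2 ⊢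
    intro a b c d hab hcd
    obtain ⟨g, h1, h2⟩ := h2 (hinj.ne hab) (hinj.ne hcd)
    exact ⟨g, hinj (by rw [hf, h1]), hinj (by rw [hf, h2])⟩
  · intro x y hx hy
    have h1 : f (QuotientGroup.mk (1 : G)) = ω := by rw [hfmk, one_smul]
    obtain ⟨s, hs, hu⟩ := hreg (f x) (f y) (fun h => hx (hinj (h.trans h1.symm))) (fun h => hy (hinj (h.trans h1.symm)))
    refine ⟨s, hinj (by rw [hf]; exact hs), fun t ht => hu t ?_⟩
    show (t : G) • f x = f y
    rw [← hf]
    exact congrArg f ht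

end Cfsg.Agent.H8.Suz
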