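import Mathlib
import Cfsg.Prelude.Def_LieExceptional
import Cfsg.Agent.H8.SuzBorel

set_option autoImplicit false

/-! Fixed points and fixed vectors of elements of the Suzuki group. -/

namespace Cfsg.Agent.H8.Suz

open Matrix MulAction

/-- A self-map of prime-power order has a number of fixed points congruent to the number of points. -/
theorem card_modEq_fixed {α : Type*} [Finite α] (f : α → α) (p : ℕ) [Fact p.Prime] (hf : f^[p] = id) :
    Nat.card α ≡ Nat.card {x // f x = x} [MOD p] := by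
  classical
  have := Fintype.ofFinite α
  let f' : Function.End α := f
  have h1 : f' ^ p ^ 1 = 1 := by
    rw [pow_one]
    have : ∀ n : ℕ, ∀ x, (f' ^ n) x = f^[n] x := by
      intro n
      induction n with
      | zero => intro x; rfl
      | succ n ih =>
        intro x
        rw [pow_succ, Function.iterate_succ_apply]
        show (f' ^ n) (f x) = _
        rw [ih]
    funext x
    rw [this, hf]; rfl
  have h2 := Equiv.Perm.card_fixedPoints_modEq (n := 1) h1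
  rw [← Nat.card_eq_fintype_card, ← Nat.card_eq_fintype_card] at h2
  exact h2

variable {F : Type*} [Field F] [Fintype F] {m : ℕ} (D : Dat F m)

namespace Dat

include D

/-- An element of the Borel subgroup outside `U` fixes a second point. -/
theorem B_fix {g : Cfsg.Sz F m} (hg : g ∈ D.B) : g ∈ D.U ∨ ∃ p, p ≠ D.inf ∧ g • p = p := by
  have hchar := D.char
  obtain ⟨a, b, u, rfl⟩ := D.mem_B.1 hg
  by_cases hu : u = 1
  · left; rw [hu, D.hh_one, mul_one]; exact ⟨a, b, rfl⟩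
  · right
    have h1 := D.theta_ne hu
    have h2 := D.theta_sq_ne hu
    have h1' : 1 + D.θ u ≠ 0 := fun h => h1 (by grind)
    have h2' : 1 + D.θ u * (u : F) ^ 2 ≠ 0 := fun h => h2 (by grind)
    refine ⟨D.pt (a / (1 + D.θ u)) ((b + D.θ a * (D.θ u * (a / (1 + D.θ u)))) / (1 + D.θ u * (u : F) ^ 2)), D.pt_ne_inf _ _, ?_⟩
    rw [mul_smul, D.hh_pt, D.tt_pt]
    congr 1
    · field_simp; grind
    · field_simp; grind

theorem two_pts_conj {g : Cfsg.Sz F m} {p q : Om F m} (hpq : p ≠ q) (hp : g • p = p) (hq : g • q = q) :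
    ∃ k u, g = k * D.hh u * k⁻¹ := by
  have h2 := D.two_trans
  rw [MulAction.is_two_pretransitive_iff] at h2
  obtain ⟨k, hk1, hk2⟩ := h2 (D.pt_ne_inf 0 0).symm hpq
  have e1 : (k⁻¹ * g * k) • D.inf = D.inf := by
    rw [mul_smul, mul_smul, hk1, hp, inv_smul_eq_iff, hk1]
  have e2 : (k⁻¹ * g * k) • D.pt 0 0 = D.pt 0 0 := by
    rw [mul_smul, mul_smul, hk2, hq, inv_smul_eq_iff, hk2]
  obtain ⟨u, hu⟩ := D.exists_hh e1 e2
  exact ⟨k, u, by rw [← hu]; group⟩

theorem one_le_q : 1 ≤ 2 ^ (2 * m + 1) := Nat.one_le_two_pow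

theorem prime_cases {s : ℕ} (hs : s.Prime) (hs2 : s ≠ 2) (h : s ∣ Nat.card (Cfsg.Sz F m)) :
    s ∣ 2 ^ (2 * m + 1) - 1 ∨ s ∣ (2 ^ (2 * m + 1)) ^ 2 + 1 := by
  rw [D.card_Sz, hs.dvd_mul, hs.dvd_mul] at h
  rcases h with (h | h) | h
  · exfalso
    have := hs.dvd_of_dvd_pow (hs.dvd_of_dvd_pow h)
    exact hs2 ((Nat.prime_dvd_prime_iff_eq hs Nat.prime_two).1 this)
  · exact Or.inr h
  · exact Or.inl h

theorem card_fixed_modEq {g : Cfsg.Sz F m} {s : ℕ} [Fact s.Prime] (hg : g ^ s = 1) :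
    (2 ^ (2 * m + 1)) ^ 2 + 1 ≡ Nat.card {p : Om F m // g • p = p} [MOD s] := by
  rw [← D.card_Om]
  apply card_modEq_fixed (fun p : Om F m => g • p) s
  have : ∀ n : ℕ, (fun p : Om F m => g • p)^[n] = fun p => g ^ n • p := by
    intro n
    induction n with
    | zero => funext p; simp
    | succ n ih => rw [Function.iterate_succ', ih]; funext p; simp [pow_succ', mul_smul]
  rw [this, hg]; funext p; simp

theorem exists_two_fixed {g : Cfsg.Sz F m} {s : ℕ} (hs : s.Prime) (hs2 : s ≠ 2) (hg : g ^ s = 1)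
    (hq : s ∣ 2 ^ (2 * m + 1) - 1) : ∃ p q : Om F m, p ≠ q ∧ g • p = p ∧ g • q = q := by
  have : Fact s.Prime := ⟨hs⟩
  have h1 := D.card_fixed_modEq hg
  have h2 : (2 ^ (2 * m + 1)) ^ 2 + 1 ≡ 2 [MOD s] := by
    have h3 : 2 ^ (2 * m + 1) ≡ 1 [MOD s] := ((Nat.modEq_iff_dvd' D.one_le_q).2 hq).symm
    calc (2 ^ (2 * m + 1)) ^ 2 + 1 ≡ 1 ^ 2 + 1 [MOD s] := (h3.pow 2).add_right 1
      _ = 2 := by norm_num
  have h4 : 2 ≡ Nat.card {p : Om F m // g • p = p} [MOD s] := h2.symm.trans h1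
  have h5 : 2 ≤ Nat.card {p : Om F m // g • p = p} := by
    by_contra hlt
    push Not at hlt
    have hs3 : 3 ≤ s := by
      have := hs.two_le; omega
    have h6 := Nat.ModEq.eq_of_lt_of_lt h4 (by omega) (by omega)
    omega
  have h6 : 1 < Nat.card {p : Om F m // g • p = p} := by omega
  have := Finite.one_lt_card_iff_nontrivial.1 h6
  obtain ⟨p, q, hpq⟩ := exists_pair_ne {p : Om F m // g • p = p}
  exact ⟨p, q, fun h => hpq (Subtype.ext h), p.2, q.2⟩

theorem coprime_q {s : ℕ} (hs : s.Prime) (hq : s ∣ (2 ^ (2 * m + 1)) ^ 2 + 1) :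
    ¬ s ∣ (2 ^ (2 * m + 1)) ^ 2 * (2 ^ (2 * m + 1) - 1) := by
  intro h
  have hs2 : s ≠ 2 := by rintro rfl; exact D.odd_q2 hq
  rcases hs.dvd_mul.1 h with h | h
  · have h1 : s ∣ 1 := (Nat.dvd_add_right h).1 hq
    exact hs.one_lt.ne' (Nat.dvd_one.1 h1)
  · have h3 : 2 ^ (2 * m + 1) ≡ 1 [MOD s] := ((Nat.modEq_iff_dvd' D.one_le_q).2 h).symm
    have h4 : (2 ^ (2 * m + 1)) ^ 2 + 1 ≡ 2 [MOD s] := (h3.pow 2).add_right 1
    have h5 : 0 ≡ 2 [MOD s] := ((Nat.modEq_zero_iff_dvd.2 hq).symm).trans h4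
    have h6 : s ∣ 2 := (Nat.modEq_zero_iff_dvd.1 h5.symm)
    exact hs2 ((Nat.prime_dvd_prime_iff_eq hs Nat.prime_two).1 h6)

/-- Elements of prime order dividing `q² + 1` fix no point. -/
theorem no_fixed {g : Cfsg.Sz F m} {s : ℕ} (hs : s.Prime) (hg : orderOf g = s)
    (hq : s ∣ (2 ^ (2 * m + 1)) ^ 2 + 1) (p : Om F m) : g • p ≠ p := by
  intro hp
  obtain ⟨k, rfl⟩ := D.trans_inf p
  have h1 : k⁻¹ * g * k ∈ D.B := by
    show (k⁻¹ * g * k) • D.inf = D.inf
    rw [mul_smul, mul_smul, hp, inv_smul_smul]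
  have h2 : orderOf (k⁻¹ * g * k) = s := by
    rw [← hg]
    have := (MulAut.conj k⁻¹).orderOf_eq g
    rw [← this]; congr 1; show k⁻¹ * g * k = k⁻¹ * g * k⁻¹⁻¹; rw [inv_inv]
  have h3 : orderOf (⟨k⁻¹ * g * k, h1⟩ : D.B) ∣ Nat.card D.B := orderOf_dvd_natCard _
  rw [Subgroup.orderOf_mk, h2, D.card_B] at h3
  exact D.coprime_q hs hq h3

/-! ### Fixed vectors -/

/-- Powers of `q` congruent to one modulo `s ∣ q² + 1`. -/
theorem pow_modEq_one {s d : ℕ} (hs : s.Prime) (hq : s ∣ (2 ^ (2 * m + 1)) ^ 2 + 1) (hd : d ≤ 4)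
    (h : (2 ^ (2 * m + 1)) ^ d ≡ 1 [MOD s]) : d = 0 ∨ d = 4 := by
  have hs2 : s ≠ 2 := by rintro rfl; exact D.odd_q2 hq
  have hcast : ∀ a b : ℕ, a ≡ b [MOD s] ↔ ((a : ZMod s) = b) := fun a b => (ZMod.natCast_eq_natCast_iff a b s).symm
  have h0 : ((2 ^ (2 * m + 1) : ℕ) : ZMod s) ^ 2 + 1 = 0 := by
    have := (ZMod.natCast_eq_zero_iff ((2 ^ (2 * m + 1)) ^ 2 + 1) s).2 hq
    push_cast at this ⊢
    exact this
  rw [hcast] at h
  have : Fact s.Prime := ⟨hs⟩
  have h20 : (2 : ZMod s) ≠ 0 := by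
    intro h2
    have : ((2 : ℕ) : ZMod s) = 0 := by exact_mod_cast h2
    rw [ZMod.natCast_eq_zero_iff] at this
    exact hs2 ((Nat.prime_dvd_prime_iff_eq hs Nat.prime_two).1 this)
  push_cast at h h0
  set x : ZMod s := (2 : ZMod s) ^ (2 * m + 1) with hx
  interval_cases d
  · left; rfl
  · exfalso
    rw [pow_one] at h
    rw [h] at h0; apply h20; linear_combination h0
  · exfalso
    apply h20; linear_combination h0 - h
  · exfalso
    -- x^3 = 1, x^2 = -1 → x = -1 → 2 = 0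
    have h1 : x = -1 := by linear_combination x * h0 - h
    rw [h1] at h0
    apply h20; linear_combination h0
  · right; rfl

/-- The matrix of an element. -/
abbrev mat (g : Cfsg.Sz F m) : Matrix (Fin 4) (Fin 4) F := g.1.1

omit D in
theorem mat_mul (g k : Cfsg.Sz F m) : (g * k).1.1 = g.1.1 * k.1.1 := rfl

omit D in
theorem mat_one : (1 : Cfsg.Sz F m).1.1 = 1 := rfl

omit D in
theorem mat_inj {g k : Cfsg.Sz F m} (h : g.1.1 = k.1.1) : g = k := Subtype.ext (Subtype.ext h)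

omit D in
theorem card_submodule (W : Submodule F (Fin 4 → F)) :
    Nat.card W = (Fintype.card F) ^ (Module.finrank F W) := by
  rw [Module.natCard_eq_pow_finrank (K := F) (V := W), Nat.card_eq_fintype_card]

theorem card_invariant_modEq {g : Cfsg.Sz F m} {s : ℕ} [Fact s.Prime] (hg : g ^ s = 1)
    (W : Submodule F (Fin 4 → F)) (hW : ∀ v ∈ W, g.1.1 *ᵥ v ∈ W) :
    Nat.card W ≡ Nat.card {v : W // g.1.1 *ᵥ v.1 = v.1} [MOD s] := by
  have h1 := card_modEq_fixed (fun v : W => (⟨g.1.1 *ᵥ v.1, hW _ v.2⟩ : W)) s (by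
    have : ∀ n : ℕ, ∀ v : W, (((fun v : W => (⟨g.1.1 *ᵥ v.1, hW _ v.2⟩ : W))^[n] v : W) : Fin 4 → F) = (g ^ n).1.1 *ᵥ v.1 := by
      intro n
      induction n with
      | zero => intro v; show v.1 = (1 : Cfsg.Sz F m).1.1 *ᵥ v.1; rw [mat_one, Matrix.one_mulVec]
      | succ n ih =>
        intro v
        rw [Function.iterate_succ', pow_succ', mat_mul, ← Matrix.mulVec_mulVec, ← ih]; rfl
    funext v
    apply Subtype.ext
    rw [this, hg, mat_one, Matrix.one_mulVec]; rfl)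
  refine h1.trans ?_
  have e : {v : W // (⟨g.1.1 *ᵥ v.1, hW _ v.2⟩ : W) = v} ≃ {v : W // g.1.1 *ᵥ v.1 = v.1} :=
    Equiv.subtypeEquivRight fun v => ⟨fun h => congrArg Subtype.val h, fun h => Subtype.ext h⟩
  rw [Nat.card_congr e]

/-- An element of prime order dividing `q² + 1` has no nonzero fixed vector. -/
theorem fixed_vec_aux {g : Cfsg.Sz F m} {s : ℕ} (hs : s.Prime) (hg1 : g ≠ 1) (hg : g ^ s = 1)
    (hq : s ∣ (2 ^ (2 * m + 1)) ^ 2 + 1) {v : Fin 4 → F} (hv : g.1.1 *ᵥ v = v) : v = 0 := by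
  have : Fact s.Prime := ⟨hs⟩
  let W : Submodule F (Fin 4 → F) := {
    carrier := {v | g.1.1 *ᵥ v = v}
    add_mem' := by intro a b ha hb; show g.1.1 *ᵥ (a + b) = a + b; rw [Matrix.mulVec_add, ha, hb]
    zero_mem' := Matrix.mulVec_zero _
    smul_mem' := by intro c v hv; show g.1.1 *ᵥ (c • v) = c • v; rw [Matrix.mulVec_smul, hv] }
  have h1 := D.card_invariant_modEq hg ⊤ (fun _ _ => trivial)
  have e : {v : (⊤ : Submodule F (Fin 4 → F)) // g.1.1 *ᵥ v.1 = v.1} ≃ W :=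
    ⟨fun v => ⟨v.1.1, v.2⟩, fun v => ⟨⟨v.1, trivial⟩, v.2⟩, fun _ => rfl, fun _ => rfl⟩
  rw [Nat.card_congr e, card_submodule, card_submodule, finrank_top, Module.finrank_fin_fun, D.hF] at h1
  have h4 : (2 ^ (2 * m + 1)) ^ 4 ≡ 1 [MOD s] := by
    rw [← ZMod.natCast_eq_natCast_iff]
    have h0 := (ZMod.natCast_eq_zero_iff ((2 ^ (2 * m + 1)) ^ 2 + 1) s).2 hq
    push_cast at h0 ⊢
    linear_combination (((2 : ZMod s) ^ (2 * m + 1)) ^ 2 - 1) * h0
  have hd : Module.finrank F W ≤ 4 := by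
    have := Submodule.finrank_le W
    rwa [Module.finrank_fin_fun] at this
  rcases D.pow_modEq_one hs hq hd (h1.symm.trans h4) with h | h
  · have : W = ⊥ := Submodule.finrank_eq_zero.1 h
    have hvW : v ∈ W := hv
    rw [this] at hvW
    exact hvW
  · exfalso
    have : W = ⊤ := Submodule.eq_top_of_finrank_eq (by rw [h, Module.finrank_fin_fun])
    apply hg1
    apply mat_inj
    rw [mat_one]
    ext i j
    have h5 : (Pi.single j 1 : Fin 4 → F) ∈ W := by rw [this]; trivial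
    have h6 := congrFun (show g.1.1 *ᵥ (Pi.single j 1) = Pi.single j 1 from h5) i
    simp at h6
    rw [h6, Matrix.one_apply, Pi.single_apply]

theorem hh_fixed_vec {u : Fˣ} (hu : u ≠ 1) {v : Fin 4 → F} (hv : (D.hh u).1.1 *ᵥ v = v) : v = 0 := by
  have hchar := D.char
  have h1 : (u : F) * D.θ u ≠ 1 := by
    intro h
    have h2 := congrArg D.θ h
    rw [map_mul, D.hθ, map_one] at h2
    -- u θu = 1, θu u² = 1 → u = 1
    apply hu
    apply Units.ext
    have : D.θ u * (u : F) ^ 2 = (u * D.θ u) * u := by ring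
    rw [this, h, one_mul] at h2
    exact h2
  have h2 : (u : F) ≠ 1 := fun h => hu (Units.ext h)
  have hu0 : (u : F) ≠ 0 := u.ne_zero
  have hv' : (Suz.hm D.θ u) *ᵥ v = v := hv
  have e0 := congrFun hv' 0
  have e1 := congrFun hv' 1
  have e2 := congrFun hv' 2
  have e3 := congrFun hv' 3
  simp [Suz.hm, Matrix.mulVec, dotProduct, Fin.sum_univ_four] at e0 e1 e2 e3
  have key : ∀ c x : F, c ≠ 1 → c * x = x → x = 0 := by
    intro c x hc hx
    by_contra hx0
    exact hc (mul_right_cancel₀ hx0 (by rw [hx, one_mul]))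
  have hinv : ∀ c : F, c ≠ 1 → c⁻¹ ≠ 1 := fun c hc h => hc (inv_eq_one.1 h)
  funext i
  fin_cases i
  · exact key _ _ h1 (by simpa using e0)
  · exact key _ _ h2 (by simpa using e1)
  · exact key _ _ (hinv _ h2) (by simpa using e2)
  · refine key _ _ (hinv _ h1) ?_
    rw [mul_inv, mul_comm (u : F)⁻¹]; exact e3

/-- Elements of odd prime order have no nonzero fixed vector. -/
theorem fixed_vec {g : Cfsg.Sz F m} {s : ℕ} (hs : s.Prime) (hs2 : s ≠ 2) (hg : orderOf g = s)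
    {v : Fin 4 → F} (hv : g.1.1 *ᵥ v = v) : v = 0 := by
  have hg1 : g ≠ 1 := by rintro rfl; rw [orderOf_one] at hg; exact hs.one_lt.ne hg
  have hgs : g ^ s = 1 := by rw [← hg, pow_orderOf_eq_one]
  have hdvd : s ∣ Nat.card (Cfsg.Sz F m) := by rw [← hg]; exact orderOf_dvd_natCard g
  rcases D.prime_cases hs hs2 hdvd with h | h
  · obtain ⟨p, q, hpq, h1, h2⟩ := D.exists_two_fixed hs hs2 hgs h
    obtain ⟨k, u, rfl⟩ := D.two_pts_conj hpq h1 h2
    have hu : u ≠ 1 := by rintro rfl; apply hg1; rw [D.hh_one]; group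
    have h3 : (D.hh u).1.1 *ᵥ ((k⁻¹).1.1 *ᵥ v) = (k⁻¹).1.1 *ᵥ v := by
      have e : D.hh u * k⁻¹ = k⁻¹ * (k * D.hh u * k⁻¹) := by
        rw [mul_assoc k, inv_mul_cancel_left]
      rw [Matrix.mulVec_mulVec, ← mat_mul, e, mat_mul, ← Matrix.mulVec_mulVec, hv]
    have h4 := D.hh_fixed_vec hu h3
    have h5 : k.1.1 *ᵥ ((k⁻¹).1.1 *ᵥ v) = v := by
      rw [Matrix.mulVec_mulVec, ← mat_mul, mul_inv_cancel, mat_one, Matrix.one_mulVec]
    rw [← h5, h4, Matrix.mulVec_zero]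
  · exact D.fixed_vec_aux hs hg1 hgs h hv

end Dat

end Cfsg.Agent.H8.Suz
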