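import Mathlib
import Cfsg.Prelude.Def_LieExceptional
import Cfsg.Agent.H8.SuzFix

set_option autoImplicit false

/-! Tori of order dividing `q² + 1` in the Suzuki group. -/

namespace Cfsg.Agent.H8.Suz

open Matrix MulAction

variable {F : Type*} [Field F] [Fintype F] {m : ℕ}

/-- The centraliser algebra. -/
abbrev cenAlg (u : Cfsg.Sz F m) : Subalgebra F (Matrix (Fin 4) (Fin 4) F) := Subalgebra.centralizer F {u.1.1}

theorem mem_cenAlg {u : Cfsg.Sz F m} {M : Matrix (Fin 4) (Fin 4) F} :
    M ∈ cenAlg u ↔ u.1.1 * M = M * u.1.1 := by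
  rw [Subalgebra.mem_centralizer_iff]; simp

/-- The centraliser of an element embeds in the algebra. -/
noncomputable def toField (u : Cfsg.Sz F m) :
    Subgroup.centralizer ({u} : Set (Cfsg.Sz F m)) →* cenAlg u where
  toFun g := ⟨g.1.1.1, by
    rw [mem_cenAlg]
    have h := Subgroup.mem_centralizer_iff.1 g.2 u rfl
    exact congrArg (fun x : Cfsg.Sz F m => x.1.1) h⟩
  map_one' := rfl
  map_mul' _ _ := rfl

theorem toField_inj (u : Cfsg.Sz F m) : Function.Injective (toField u) := by
  intro a b hab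
  apply Subtype.ext
  apply Dat.mat_inj
  exact congrArg (fun x : cenAlg u => (x : Matrix (Fin 4) (Fin 4) F)) hab

/-- The predicate of being a "good" element: prime order dividing `q² + 1`. -/
def Good (u : Cfsg.Sz F m) : Prop := (orderOf u).Prime ∧ orderOf u ∣ (2 ^ (2 * m + 1)) ^ 2 + 1

theorem comm_of_cyclic {G : Type*} [Group G] {A : Subgroup G} [h : IsCyclic A] {x y : G} (hx : x ∈ A) (hy : y ∈ A) :
    x * y = y * x := by
  have := IsCyclic.commutative (α := A)
  exact congrArg Subtype.val (this.is_comm.comm (⟨x, hx⟩ : A) ⟨y, hy⟩)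

theorem mem_cen {G : Type*} [Group G] {x u : G} : x ∈ Subgroup.centralizer ({u} : Set G) ↔ u * x = x * u := by
  rw [Subgroup.mem_centralizer_iff]; simp

variable (D : Dat F m)

namespace Dat

include D

/-- The number of fixed points of a nontrivial element is at most two. -/
theorem fixed_le_two {g : Cfsg.Sz F m} (hg : g ≠ 1) : Nat.card {p : Om F m // g • p = p} ≤ 2 := by
  by_contra hlt
  push Not at hlt
  have hfin : Finite {p : Om F m // g • p = p} := inferInstance
  have := Fintype.ofFinite {p : Om F m // g • p = p}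
  rw [Nat.card_eq_fintype_card] at hlt
  obtain ⟨a, b, c, hab, hac, hbc⟩ := Fintype.two_lt_card_iff.1 hlt
  exact hg (D.three_pts (fun h => hab (Subtype.ext h)) (fun h => hbc (Subtype.ext h)) (fun h => hac (Subtype.ext h))
    a.2 b.2 c.2)

/-- invariant subspaces -/
theorem invariant_trivial {u : Cfsg.Sz F m} {s : ℕ} (hs : s.Prime) (hu : orderOf u = s)
    (hq : s ∣ (2 ^ (2 * m + 1)) ^ 2 + 1) (W : Submodule F (Fin 4 → F)) (hW : ∀ v ∈ W, u.1.1 *ᵥ v ∈ W) :
    W = ⊥ ∨ W = ⊤ := by
  have : Fact s.Prime := ⟨hs⟩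
  have hu1 : u ≠ 1 := by rintro rfl; rw [orderOf_one] at hu; exact hs.one_lt.ne hu
  have hus : u ^ s = 1 := by rw [← hu, pow_orderOf_eq_one]
  have h1 := D.card_invariant_modEq hus W hW
  have h2 : Nat.card {v : W // u.1.1 *ᵥ v.1 = v.1} = 1 := by
    rw [Nat.card_eq_one_iff_unique]
    refine ⟨⟨fun a b => ?_⟩, ⟨⟨0, Matrix.mulVec_zero _⟩⟩⟩
    have ha := D.fixed_vec_aux hs hu1 hus hq a.2
    have hb := D.fixed_vec_aux hs hu1 hus hq b.2
    exact Subtype.ext (Subtype.ext (ha.trans hb.symm))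
  rw [h2, card_submodule, D.hF] at h1
  have hd : Module.finrank F W ≤ 4 := by
    have := Submodule.finrank_le W
    rwa [Module.finrank_fin_fun] at this
  rcases D.pow_modEq_one hs hq hd h1 with h | h
  · left; exact Submodule.finrank_eq_zero.1 h
  · right; exact Submodule.eq_top_of_finrank_eq (by rw [h, Module.finrank_fin_fun])

theorem cenAlg_inj {u : Cfsg.Sz F m} {s : ℕ} (hs : s.Prime) (hu : orderOf u = s)
    (hq : s ∣ (2 ^ (2 * m + 1)) ^ 2 + 1) {M : Matrix (Fin 4) (Fin 4) F} (hM : M ∈ cenAlg u) (hM0 : M ≠ 0)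
    {v : Fin 4 → F} (hv : M *ᵥ v = 0) : v = 0 := by
  let W : Submodule F (Fin 4 → F) := {
    carrier := {v | M *ᵥ v = 0}
    add_mem' := by intro a b ha hb; show M *ᵥ (a + b) = 0; rw [Matrix.mulVec_add, ha, hb, add_zero]
    zero_mem' := Matrix.mulVec_zero _
    smul_mem' := by intro c v hv; show M *ᵥ (c • v) = 0; rw [Matrix.mulVec_smul, hv, smul_zero] }
  rcases D.invariant_trivial hs hu hq W (by
    intro v hv
    show M *ᵥ (u.1.1 *ᵥ v) = 0
    rw [Matrix.mulVec_mulVec, ← mem_cenAlg.1 hM, ← Matrix.mulVec_mulVec, show M *ᵥ v = 0 from hv, Matrix.mulVec_zero]) with h | h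
  · have : v ∈ W := hv
    rw [h] at this; exact this
  · exfalso
    apply hM0
    ext i j
    have h5 : (Pi.single j 1 : Fin 4 → F) ∈ W := by rw [h]; trivial
    have h6 := congrFun (show M *ᵥ (Pi.single j 1) = 0 from h5) i
    simpa using h6

theorem cenAlg_isField {u : Cfsg.Sz F m} {s : ℕ} (hs : s.Prime) (hu : orderOf u = s)
    (hq : s ∣ (2 ^ (2 * m + 1)) ^ 2 + 1) : IsField (cenAlg u) := by
  have hnt : Nontrivial (cenAlg u) := inferInstance
  have hnzd : NoZeroDivisors (cenAlg u) := by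
    refine ⟨fun {a b} hab => ?_⟩
    by_contra hcon
    push Not at hcon
    obtain ⟨ha, hb⟩ := hcon
    apply hb
    apply Subtype.ext
    have ha' : (a : Matrix (Fin 4) (Fin 4) F) ≠ 0 := fun h => ha (Subtype.ext h)
    have hab' : (a : Matrix (Fin 4) (Fin 4) F) * b = 0 := congrArg Subtype.val hab
    ext i j
    have h1 := D.cenAlg_inj hs hu hq a.2 ha' (v := (b : Matrix (Fin 4) (Fin 4) F) *ᵥ (Pi.single j 1)) (by
      rw [Matrix.mulVec_mulVec, hab', Matrix.zero_mulVec])
    have h2 := congrFun h1 i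
    simpa using h2
  have hdom : IsDomain (cenAlg u) := NoZeroDivisors.to_isDomain _
  exact Finite.isDomain_to_isField _

theorem centralizer_cyclic {u : Cfsg.Sz F m} {s : ℕ} (hs : s.Prime) (hu : orderOf u = s)
    (hq : s ∣ (2 ^ (2 * m + 1)) ^ 2 + 1) : IsCyclic (Subgroup.centralizer ({u} : Set (Cfsg.Sz F m))) := by
  let _ := (D.cenAlg_isField hs hu hq).toField
  exact isCyclic_of_subgroup_isDomain (R := cenAlg u) (toField u) (toField_inj u)

theorem good_cyclic {u : Cfsg.Sz F m} (h : Good u) : IsCyclic (Subgroup.centralizer ({u} : Set (Cfsg.Sz F m))) :=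
  D.centralizer_cyclic h.1 rfl h.2

theorem good_no_fixed {u : Cfsg.Sz F m} (h : Good u) (p : Om F m) : u • p ≠ p := D.no_fixed h.1 rfl h.2 p

/-- A nontrivial element commuting with a good element has no fixed point. -/
theorem good_no_fixed_of_comm {u a : Cfsg.Sz F m} (h : Good u) (hua : u * a = a * u) (ha : a ≠ 1) (p : Om F m) :
    a • p ≠ p := by
  intro hp
  -- u acts on the fixed points of `a`
  have hfix := D.fixed_le_two ha
  set s := orderOf u with hs
  have hs2 : s ≠ 2 := by
    intro h2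
    have h3 := h.2
    rw [← hs, h2] at h3
    exact D.odd_q2 h3
  have hs3 : 3 ≤ s := by have := h.1.two_le; omega
  have hfact : Fact s.Prime := ⟨h.1⟩
  -- the points u^i p are fixed points of a
  have h1 : ∀ i : ℕ, a • (u ^ i • p) = u ^ i • p := by
    intro i
    have hc : a * u ^ i = u ^ i * a := (Commute.pow_right (show Commute a u from hua.symm) i).eq
    rw [← mul_smul, hc, mul_smul, hp]
  -- counting fixed points of `u` on Fix(a)
  have h2 := card_modEq_fixed (fun x : {x : Om F m // a • x = x} => (⟨u • x.1, by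
    rw [← mul_smul, ← hua, mul_smul, x.2]⟩ : {x : Om F m // a • x = x})) s (by
    have : ∀ n : ℕ, ∀ x : {x : Om F m // a • x = x}, ((fun x : {x : Om F m // a • x = x} => (⟨u • x.1, by
      rw [← mul_smul, ← hua, mul_smul, x.2]⟩ : {x : Om F m // a • x = x}))^[n] x).1 = u ^ n • x.1 := by
      intro n
      induction n with
      | zero => intro x; simp
      | succ n ih => intro x; rw [Function.iterate_succ', pow_succ', mul_smul, ← ih]; rfl
    funext x
    apply Subtype.ext
    rw [this, hs, pow_orderOf_eq_one, one_smul]; rfl)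
  have h3 : Nat.card {x : {x : Om F m // a • x = x} // (⟨u • x.1, by
    rw [← mul_smul, ← hua, mul_smul, x.2]⟩ : {x : Om F m // a • x = x}) = x} = 0 := by
    rw [Nat.card_eq_zero]
    left
    refine ⟨fun x => ?_⟩
    exact D.good_no_fixed h x.1.1 (congrArg Subtype.val x.2)
  rw [h3] at h2
  have h4 : 0 < Nat.card {x : Om F m // a • x = x} := by
    have : Nonempty {x : Om F m // a • x = x} := ⟨⟨p, hp⟩⟩
    exact Nat.card_pos
  have h5 := Nat.ModEq.eq_of_lt_of_lt h2 (by omega) (by omega)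
  omega

/-- An element of prime order with no fixed points is good. -/
theorem good_of_no_fixed {b : Cfsg.Sz F m} (hb : (orderOf b).Prime) (h : ∀ p : Om F m, b • p ≠ p) : Good b := by
  refine ⟨hb, ?_⟩
  have hb1 : b ^ orderOf b = 1 := pow_orderOf_eq_one b
  have hfact : Fact (orderOf b).Prime := ⟨hb⟩
  have h0 : Nat.card {p : Om F m // b • p = p} = 0 := by
    rw [Nat.card_eq_zero]; left; exact ⟨fun x => h x.1 x.2⟩
  have h1 := D.card_fixed_modEq hb1
  rw [h0] at h1
  exact (Nat.modEq_zero_iff_dvd.1 h1)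

/-- Every nontrivial element without fixed points, all of whose nontrivial powers have no fixed points, has a good
power. -/
theorem exists_good_power {a : Cfsg.Sz F m} (ha : a ≠ 1) (h : ∀ i : ℕ, a ^ i ≠ 1 → ∀ p : Om F m, a ^ i • p ≠ p) :
    ∃ i : ℕ, Good (a ^ i) := by
  obtain ⟨l, hl, hla⟩ := Nat.exists_prime_and_dvd (show orderOf a ≠ 1 from fun h => ha (orderOf_eq_one_iff.1 h))
  obtain ⟨k, hk⟩ := hla
  have hk0 : k ≠ 0 := by rintro rfl; rw [mul_zero] at hk; exact (orderOf_pos a).ne' hk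
  have hord : orderOf (a ^ k) = l := by
    rw [orderOf_pow_of_dvd hk0 ⟨l, by rw [hk]; ring⟩, hk, Nat.mul_div_cancel _ (Nat.pos_of_ne_zero hk0)]
  refine ⟨k, D.good_of_no_fixed (by rw [hord]; exact hl) (h k ?_)⟩
  intro h1
  rw [h1, orderOf_one] at hord
  exact hl.one_lt.ne hord

/-- The centraliser of a nontrivial element of `C(u)` is `C(u)`. -/
theorem good_centralizer_eq {u a : Cfsg.Sz F m} (h : Good u) (hua : u * a = a * u) (ha : a ≠ 1) :
    Subgroup.centralizer ({a} : Set (Cfsg.Sz F m)) = Subgroup.centralizer ({u} : Set (Cfsg.Sz F m)) := by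
  have hcomm : ∀ i : ℕ, u * a ^ i = a ^ i * u := fun i => ((show Commute u a from hua).pow_right i).eq
  obtain ⟨k, hk⟩ := D.exists_good_power ha (fun i hi p => D.good_no_fixed_of_comm h (hcomm i) hi p)
  set b := a ^ k with hb
  have hcyc1 := D.good_cyclic h
  have hcyc2 := D.good_cyclic hk
  have hub : u ∈ Subgroup.centralizer ({b} : Set (Cfsg.Sz F m)) := mem_cen.2 (hcomm k).symm
  have hab : a ∈ Subgroup.centralizer ({b} : Set (Cfsg.Sz F m)) := mem_cen.2 (by
    rw [hb]; exact ((Commute.refl a).pow_left k).eq)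
  apply le_antisymm
  · intro x hx
    rw [mem_cen] at hx ⊢
    have hxb : x ∈ Subgroup.centralizer ({b} : Set (Cfsg.Sz F m)) := mem_cen.2 (by
      rw [hb]; exact ((show Commute a x from hx).pow_left k).eq)
    exact comm_of_cyclic (A := Subgroup.centralizer ({b} : Set (Cfsg.Sz F m))) hub hxb
  · intro x hx
    rw [mem_cen]
    exact comm_of_cyclic (A := Subgroup.centralizer ({u} : Set (Cfsg.Sz F m))) (mem_cen.2 hua) hx

end Dat

end Cfsg.Agent.H8.Suz
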