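import Mathlib
import Cfsg.Prelude.Def_LieExceptional
import Cfsg.Agent.H8.SuzTori

set_option autoImplicit false

/-! Centralisers in the Suzuki group. -/

namespace Cfsg.Agent.H8.Suz

open Matrix MulAction

theorem nilpotent_of_injective {G H : Type*} [Group G] [Group H] [Group.IsNilpotent H] (f : G →* H)
    (hf : Function.Injective f) : Group.IsNilpotent G :=
  Group.nilpotent_of_mulEquiv (MonoidHom.ofInjective hf).symm

/-- Nilpotency of a centraliser, up to conjugation. -/
theorem nilpotent_of_conj {G : Type*} [Group G] (a k : G) (N : Subgroup G) [Group.IsNilpotent N]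
    (h : ∀ x, (k⁻¹ * a * k) * x = x * (k⁻¹ * a * k) → x ∈ N) :
    Group.IsNilpotent (Subgroup.centralizer ({a} : Set G)) := by
  have hmem : ∀ x : Subgroup.centralizer ({a} : Set G), k⁻¹ * x * k ∈ N := by
    intro x
    have hx := mem_cen.1 x.2
    apply h
    calc k⁻¹ * a * k * (k⁻¹ * x * k) = k⁻¹ * (a * x) * k := by group
      _ = k⁻¹ * (x * a) * k := by rw [hx]
      _ = _ := by group
  refine nilpotent_of_injective (H := N) ⟨⟨fun x => ⟨k⁻¹ * x * k, hmem x⟩, ?_⟩, ?_⟩ ?_
  · apply Subtype.ext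
    show k⁻¹ * 1 * k = 1
    group
  · intro x y
    apply Subtype.ext
    show k⁻¹ * (x * y : G) * k = (k⁻¹ * x * k) * (k⁻¹ * y * k)
    group
  · intro x y hxy
    have : k⁻¹ * (x : G) * k = k⁻¹ * y * k := congrArg Subtype.val hxy
    exact Subtype.ext (mul_left_cancel (mul_right_cancel this))

variable {F : Type*} [Field F] [Fintype F] {m : ℕ} (D : Dat F m)

namespace Dat

include D

theorem tt_ne_one {a b : F} (h : D.tt a b ≠ 1) : ¬ (a = 0 ∧ b = 0) := by
  rintro ⟨rfl, rfl⟩; exact h D.tt_zero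

/-- The centraliser of a nontrivial element of `U` is in `U`. -/
theorem centralizer_U {a x : Cfsg.Sz F m} (ha : a ∈ D.U) (ha1 : a ≠ 1) (hax : a * x = x * a) : x ∈ D.U := by
  obtain ⟨c, d, rfl⟩ := ha
  have hxB : x ∈ D.B := by
    apply D.tt_fix (D.tt_ne_one ha1)
    rw [← mul_smul, hax, mul_smul, D.tt_inf]
  rcases D.B_fix hxB with h | ⟨p, hp, hxp⟩
  · exact h
  · have h1 : D.tt c d • p ≠ p := fun h => hp (D.tt_fix (D.tt_ne_one ha1) h)
    have h2 : x • (D.tt c d • p) = D.tt c d • p := by rw [← mul_smul, ← hax, mul_smul, hxp]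
    have h3 : D.tt c d • p ≠ D.inf := by
      intro h
      apply hp
      have := congrArg (fun t => (D.tt c d)⁻¹ • t) h
      simp only [inv_smul_smul] at this
      rw [this, inv_smul_eq_iff, D.tt_inf]
    have hx1 : x = 1 := D.three_pts (a := D.inf) (b := p) (c := D.tt c d • p) hp.symm h1.symm h3.symm hxB hxp h2
    rw [hx1]; exact D.U.one_mem

/-- The centraliser of a nontrivial element of `H` is in `H`. -/
theorem centralizer_H {u : Fˣ} (hu : u ≠ 1) {x : Cfsg.Sz F m} (hax : D.hh u * x = x * D.hh u) : x ∈ D.H := by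
  have hfix : ∀ p, D.hh u • p = p → p = D.inf ∨ p = D.pt 0 0 := by
    intro p hp
    rcases D.cases_pt p with h | ⟨a, b, rfl⟩
    · exact Or.inl h
    · right
      by_contra hne
      exact hu (D.hh_fix (x := a) (y := b) (fun h => hne (by rw [h.1, h.2])) hp)
  have h0 : D.hh u • D.pt 0 0 = D.pt 0 0 := by rw [D.hh_pt]; simp
  have h1 := hfix (x • D.inf) (by rw [← mul_smul, hax, mul_smul, D.hh_inf])
  have h2 := hfix (x • D.pt 0 0) (by rw [← mul_smul, hax, mul_smul, h0])
  rcases h1 with h1 | h1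
  · rcases h2 with h2 | h2
    · exfalso
      rw [← h1] at h2
      exact D.pt_ne_inf 0 0 (smul_left_cancel x h2)
    · obtain ⟨v, hv⟩ := D.exists_hh h1 h2
      exact ⟨v, hv⟩
  · rcases h2 with h2 | h2
    · exfalso
      have e1 : (D.ww * x) • D.inf = D.inf := by rw [mul_smul, h1, D.ww_pt_zero]
      have e2 : (D.ww * x) • D.pt 0 0 = D.pt 0 0 := by rw [mul_smul, h2, D.ww_inf]
      obtain ⟨v, hv⟩ := D.exists_hh e1 e2
      have hx : x = D.ww * D.hh v := by
        rw [← hv, ← mul_assoc, D.ww_mul_ww, one_mul]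
      rw [hx] at hax
      have e3 : D.hh u * (D.ww * D.hh v) = D.ww * D.hh (u⁻¹ * v) := by
        have : D.hh u * D.ww = D.ww * D.hh u⁻¹ := by rw [D.ww_mul_hh, inv_inv]
        rw [← mul_assoc, this, mul_assoc, D.hh_mul]
      rw [e3, mul_assoc, D.hh_mul] at hax
      have h4 := D.hh_inj (mul_left_cancel hax)
      have h5 : u⁻¹ = u := by rw [mul_comm v] at h4; exact mul_right_cancel h4
      have h6 : u * u = 1 := by nth_rewrite 1 [← h5]; exact inv_mul_cancel u
      apply hu
      apply Units.ext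
      apply D.sq_eq_one
      have := congrArg Units.val h6
      rw [sq]; exact this
    · exfalso
      rw [← h2] at h1
      exact D.pt_ne_inf 0 0 (smul_left_cancel x h1).symm

theorem U_nilpotent : Group.IsNilpotent D.U := by
  have : Fact (Nat.Prime 2) := ⟨Nat.prime_two⟩
  exact D.U_isPGroup.isNilpotent

theorem H_comm : Std.Commutative (fun x y : D.H => x * y) := by
  refine ⟨?_⟩
  rintro ⟨_, u, rfl⟩ ⟨_, v, rfl⟩
  apply Subtype.ext
  show D.hh u * D.hh v = D.hh v * D.hh u
  rw [D.hh_mul, D.hh_mul, mul_comm]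

theorem H_nilpotent : Group.IsNilpotent D.H := by
  let _ : CommGroup D.H := { (inferInstance : Group D.H) with mul_comm := D.H_comm.comm }
  exact CommGroup.isNilpotent

theorem H_cyclic : IsCyclic D.H := by
  let f : Fˣ →* D.H := ⟨⟨fun u => ⟨D.hh u, u, rfl⟩, Subtype.ext D.hh_one⟩, fun u v => Subtype.ext (D.hh_mul u v).symm⟩
  exact isCyclic_of_surjective f (by rintro ⟨_, u, rfl⟩; exact ⟨u, rfl⟩)

/-- An element fixing `inf` is in `U` or conjugate to an element of `H`. -/
theorem conj_of_fix {a : Cfsg.Sz F m} {p : Om F m} (hp : a • p = p) :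
    ∃ k : Cfsg.Sz F m, k⁻¹ * a * k ∈ D.U ∨ ∃ u, k⁻¹ * a * k = D.hh u := by
  obtain ⟨g, rfl⟩ := D.trans_inf p
  have h1 : g⁻¹ * a * g ∈ D.B := by
    show (g⁻¹ * a * g) • D.inf = D.inf
    rw [mul_smul, mul_smul, hp, inv_smul_smul]
  rcases D.B_fix h1 with h | ⟨q, hq, h⟩
  · exact ⟨g, Or.inl h⟩
  · obtain ⟨k, u, hk⟩ := D.two_pts_conj hq.symm h1 h
    refine ⟨g * k, Or.inr ⟨u, ?_⟩⟩
    calc (g * k)⁻¹ * a * (g * k) = k⁻¹ * (g⁻¹ * a * g) * k := by group
      _ = D.hh u := by rw [hk]; group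

theorem CN {a : Cfsg.Sz F m} (ha : a ≠ 1) : Group.IsNilpotent (Subgroup.centralizer ({a} : Set (Cfsg.Sz F m))) := by
  have hU := D.U_nilpotent
  have hH := D.H_nilpotent
  -- elements with a fixed point
  have key : ∀ b : Cfsg.Sz F m, b ≠ 1 → (∃ p : Om F m, b • p = p) →
      Group.IsNilpotent (Subgroup.centralizer ({b} : Set (Cfsg.Sz F m))) := by
    rintro b hb ⟨p, hp⟩
    obtain ⟨k, hk | ⟨u, hk⟩⟩ := D.conj_of_fix hp
    · refine nilpotent_of_conj b k D.U fun x hx => D.centralizer_U hk ?_ hx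
      intro h
      apply hb
      have : b = k * (k⁻¹ * b * k) * k⁻¹ := by group
      rw [this, h]; group
    · refine nilpotent_of_conj b k D.H fun x hx => ?_
      rw [hk] at hx
      refine D.centralizer_H ?_ hx
      rintro rfl
      apply hb
      have : b = k * (k⁻¹ * b * k) * k⁻¹ := by group
      rw [this, hk, D.hh_one]; group
  by_cases h : ∀ i : ℕ, a ^ i ≠ 1 → ∀ p : Om F m, a ^ i • p ≠ p
  · obtain ⟨i, hi⟩ := D.exists_good_power ha h
    have hcyc := D.good_cyclic hi
    let _ : CommGroup (Subgroup.centralizer ({a ^ i} : Set (Cfsg.Sz F m))) := IsCyclic.commGroup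
    have h1 : Subgroup.centralizer ({a} : Set (Cfsg.Sz F m)) ≤ Subgroup.centralizer ({a ^ i} : Set (Cfsg.Sz F m)) := by
      intro x hx
      rw [mem_cen] at hx ⊢
      exact ((show Commute a x from hx).pow_left i).eq
    have hn : Group.IsNilpotent (Subgroup.centralizer ({a ^ i} : Set (Cfsg.Sz F m))) := CommGroup.isNilpotent
    exact nilpotent_of_injective (Subgroup.inclusion h1) (Subgroup.inclusion_injective h1)
  · push Not at h
    obtain ⟨i, hi, p, hp⟩ := h
    have h1 : Subgroup.centralizer ({a} : Set (Cfsg.Sz F m)) ≤ Subgroup.centralizer ({a ^ i} : Set (Cfsg.Sz F m)) := by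
      intro x hx
      rw [mem_cen] at hx ⊢
      exact ((show Commute a x from hx).pow_left i).eq
    have hn := key (a ^ i) hi ⟨p, hp⟩
    exact nilpotent_of_injective (Subgroup.inclusion h1) (Subgroup.inclusion_injective h1)

/-- Sylow subgroups for odd primes are cyclic. -/
theorem sylow_cyclic {p : ℕ} [hpf : Fact p.Prime] (hp : p ≠ 2) (P : Sylow p (Cfsg.Sz F m)) : IsCyclic P := by
  by_cases hbot : (P : Subgroup (Cfsg.Sz F m)) = ⊥
  · have : Subsingleton (P : Subgroup (Cfsg.Sz F m)) := by rw [hbot]; infer_instance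
    exact isCyclic_of_subsingleton
  have hnt : Nontrivial (P : Subgroup (Cfsg.Sz F m)) := (Subgroup.nontrivial_iff_ne_bot _).2 hbot
  -- an element of order p in the centre
  have hcen := P.isPGroup'.center_nontrivial
  obtain ⟨z, hz⟩ : ∃ z : Subgroup.center (P : Subgroup (Cfsg.Sz F m)), orderOf z = p := by
    obtain ⟨n, hn⟩ := (IsPGroup.iff_card.1 (P.isPGroup'.to_subgroup (Subgroup.center P)))
    have h1 : 1 < Nat.card (Subgroup.center (P : Subgroup (Cfsg.Sz F m))) := Finite.one_lt_card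
    have hn0 : n ≠ 0 := by rintro rfl; rw [hn] at h1; simp at h1
    exact exists_prime_orderOf_dvd_card' p (by rw [hn]; exact dvd_pow_self p hn0)
  set z' : Cfsg.Sz F m := ((z : (P : Subgroup (Cfsg.Sz F m))) : Cfsg.Sz F m) with hz'
  have hordz : orderOf z' = p := by
    rw [hz', Subgroup.orderOf_coe, Subgroup.orderOf_coe, hz]
  have hPz : ∀ x ∈ P, z' * x = x * z' := by
    intro x hx
    have := Subgroup.mem_center_iff.1 z.2 ⟨x, hx⟩
    exact (congrArg Subtype.val this).symm
  have hdvd : p ∣ Nat.card (Cfsg.Sz F m) := by rw [← hordz]; exact orderOf_dvd_natCard _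
  rcases D.prime_cases hpf.out hp hdvd with h | h
  · -- two fixed points
    have hmod := P.isPGroup'.card_modEq_card_fixedPoints (Om F m)
    rw [D.card_Om] at hmod
    have h2 : (2 ^ (2 * m + 1)) ^ 2 + 1 ≡ 2 [MOD p] := by
      have h3 : 2 ^ (2 * m + 1) ≡ 1 [MOD p] := ((Nat.modEq_iff_dvd' D.one_le_q).2 h).symm
      calc (2 ^ (2 * m + 1)) ^ 2 + 1 ≡ 1 ^ 2 + 1 [MOD p] := (h3.pow 2).add_right 1
        _ = 2 := by norm_num
    have h4 := h2.symm.trans hmod
    have h5 : 2 ≤ Nat.card (MulAction.fixedPoints P (Om F m)) := by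
      by_contra hlt
      push Not at hlt
      have hs3 : 3 ≤ p := by
        have := hpf.out.two_le; omega
      have h6 := Nat.ModEq.eq_of_lt_of_lt h4 (by omega) (by omega)
      omega
    have h6 : 1 < Nat.card (MulAction.fixedPoints P (Om F m)) := by omega
    have := Finite.one_lt_card_iff_nontrivial.1 h6
    obtain ⟨a, b, hab⟩ := exists_pair_ne (MulAction.fixedPoints P (Om F m))
    have hab' : (a : Om F m) ≠ b := fun h => hab (Subtype.ext h)
    have h2t := D.two_trans
    rw [MulAction.is_two_pretransitive_iff] at h2t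
    obtain ⟨k, hk1, hk2⟩ := h2t (D.pt_ne_inf 0 0).symm hab'
    have hmem : ∀ x : (P : Subgroup (Cfsg.Sz F m)), k⁻¹ * (x : Cfsg.Sz F m) * k ∈ D.H := by
      intro x
      have e1 : (k⁻¹ * (x : Cfsg.Sz F m) * k) • D.inf = D.inf := by
        rw [mul_smul, mul_smul, hk1, show (x : Cfsg.Sz F m) • (a : Om F m) = a from a.2 x, inv_smul_eq_iff, hk1]
      have e2 : (k⁻¹ * (x : Cfsg.Sz F m) * k) • D.pt 0 0 = D.pt 0 0 := by
        rw [mul_smul, mul_smul, hk2, show (x : Cfsg.Sz F m) • (b : Om F m) = b from b.2 x, inv_smul_eq_iff, hk2]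
      obtain ⟨u, hu⟩ := D.exists_hh e1 e2
      exact ⟨u, hu⟩
    let f : (P : Subgroup (Cfsg.Sz F m)) →* D.H := ⟨⟨fun x => ⟨k⁻¹ * x * k, hmem x⟩, by
      apply Subtype.ext; show k⁻¹ * 1 * k = 1; group⟩, fun x y => by
      apply Subtype.ext
      show k⁻¹ * (x * y : Cfsg.Sz F m) * k = (k⁻¹ * x * k) * (k⁻¹ * y * k)
      group⟩
    have hcyc := D.H_cyclic
    exact isCyclic_of_injective f (fun x y hxy => by
      have : k⁻¹ * (x : Cfsg.Sz F m) * k = k⁻¹ * y * k := congrArg Subtype.val hxy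
      exact Subtype.ext (mul_left_cancel (mul_right_cancel this)))
  · have hgood : Good z' := ⟨by rw [hordz]; exact hpf.out, by rw [hordz]; exact h⟩
    have hcyc := D.good_cyclic hgood
    have hle : (P : Subgroup (Cfsg.Sz F m)) ≤ Subgroup.centralizer ({z'} : Set (Cfsg.Sz F m)) :=
      fun x hx => mem_cen.2 (hPz x hx)
    exact isCyclic_of_injective (Subgroup.inclusion hle) (Subgroup.inclusion_injective hle)

end Dat

end Cfsg.Agent.H8.Suz
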