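import Mathlib
import Cfsg.Prelude.Def_LieExceptional
import Cfsg.Agent.H8.SuzCN

set_option autoImplicit false

/-! Counting: the two classes of tori of order dividing `q² + 1`. -/

namespace Cfsg.Agent.H8.Suz

open Matrix MulAction

/-- Number of nontrivial elements conjugate into a TI-subgroup `A`. -/
theorem card_conj {G : Type*} [Group G] [Finite G] (A : Subgroup G)
    (hTI : ∀ g a, a ∈ A → a ≠ 1 → g * a * g⁻¹ ∈ A → g ∈ Subgroup.normalizer (A : Set G)) :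
    Nat.card {x : G // x ≠ 1 ∧ ∃ g, g⁻¹ * x * g ∈ A} =
      (Subgroup.normalizer (A : Set G)).index * (Nat.card A - 1) := by
  classical
  set N := Subgroup.normalizer (A : Set G) with hN
  have e : (G ⧸ N) × {a : A // a ≠ 1} ≃ {x : G // x ≠ 1 ∧ ∃ g, g⁻¹ * x * g ∈ A} := by
    refine Equiv.ofBijective (fun p => ⟨p.1.out * (p.2.1 : G) * p.1.out⁻¹, ?_, p.1.out, ?_⟩) ⟨?_, ?_⟩
    · intro h
      apply p.2.2
      apply Subtype.ext
      have : (p.2.1 : G) = p.1.out⁻¹ * (p.1.out * (p.2.1 : G) * p.1.out⁻¹) * p.1.out := by group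
      rw [this, h]; simp
    · have : (p.1.out)⁻¹ * (p.1.out * (p.2.1 : G) * p.1.out⁻¹) * p.1.out = p.2.1 := by group
      rw [this]; exact p.2.1.2
    · rintro ⟨q, a⟩ ⟨q', a'⟩ h
      have h1 : q.out * (a.1 : G) * q.out⁻¹ = q'.out * (a'.1 : G) * q'.out⁻¹ := congrArg Subtype.val h
      have h2 : (q'.out⁻¹ * q.out) * (a.1 : G) * (q'.out⁻¹ * q.out)⁻¹ = a'.1 := by
        calc (q'.out⁻¹ * q.out) * (a.1 : G) * (q'.out⁻¹ * q.out)⁻¹
            = q'.out⁻¹ * (q.out * (a.1 : G) * q.out⁻¹) * q'.out := by group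
          _ = a'.1 := by rw [h1]; group
      have h3 := hTI (q'.out⁻¹ * q.out) a.1 a.1.2 (fun h => a.2 (Subtype.ext h)) (by rw [h2]; exact a'.1.2)
      have h4 : q' = q := by
        rw [← q'.out_eq', ← q.out_eq']
        exact QuotientGroup.eq.2 h3
      subst h4
      have h5 : (a.1 : G) = a'.1 := mul_left_cancel (mul_right_cancel h1)
      rw [show a = a' from Subtype.ext (Subtype.ext h5)]
    · rintro ⟨x, hx1, g, hg⟩
      obtain ⟨n, hn⟩ := QuotientGroup.mk_out_eq_mul N g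
      have hn' : (QuotientGroup.mk g : G ⧸ N).out⁻¹ * x * (QuotientGroup.mk g : G ⧸ N).out ∈ A := by
        rw [hn]
        have h1 := (Subgroup.mem_normalizer_iff.1 (N.inv_mem n.2) _).1 hg
        have e : (g * (n : G))⁻¹ * x * (g * n) = (n : G)⁻¹ * (g⁻¹ * x * g) * (n : G)⁻¹⁻¹ := by group
        rw [e]; exact h1
      refine ⟨⟨QuotientGroup.mk g, ⟨⟨_, hn'⟩, ?_⟩⟩, ?_⟩
      · intro h
        apply hx1
        have h1 : (QuotientGroup.mk g : G ⧸ N).out⁻¹ * x * (QuotientGroup.mk g : G ⧸ N).out = 1 := congrArg Subtype.val h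
        have : x = (QuotientGroup.mk g : G ⧸ N).out * ((QuotientGroup.mk g : G ⧸ N).out⁻¹ * x * (QuotientGroup.mk g : G ⧸ N).out) *
          (QuotientGroup.mk g : G ⧸ N).out⁻¹ := by group
        rw [this, h1]; group
      · apply Subtype.ext
        show (QuotientGroup.mk g : G ⧸ N).out * ((QuotientGroup.mk g : G ⧸ N).out⁻¹ * x * (QuotientGroup.mk g : G ⧸ N).out) *
          (QuotientGroup.mk g : G ⧸ N).out⁻¹ = x
        group
  have hcard : Nat.card {a : A // a ≠ 1} = Nat.card A - 1 := by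
    have h1 : Nat.card {a : A // a ≠ 1} + 1 = Nat.card A := by
      rw [← Finite.card_option]
      refine Nat.card_congr (Equiv.ofBijective (fun o => match o with | none => (1 : A) | some a => a.1) ⟨?_, ?_⟩)
      · rintro (_ | a) (_ | b) h
        · rfl
        · exact absurd h.symm b.2
        · exact absurd h a.2
        · congr 1; exact Subtype.ext h
      · intro a
        by_cases ha : a = 1
        · exact ⟨none, ha.symm⟩
        · exact ⟨some ⟨a, ha⟩, rfl⟩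
    omega
  rw [← Nat.card_congr e, Nat.card_prod, hcard]
  rfl

variable {F : Type*} [Field F] [Fintype F] {m : ℕ} (D : Dat F m)

namespace Dat

include D

theorem hh_fix_pts {u : Fˣ} (hu : u ≠ 1) {p : Om F m} (hp : D.hh u • p = p) : p = D.inf ∨ p = D.pt 0 0 := by
  rcases D.cases_pt p with h | ⟨a, b, rfl⟩
  · exact Or.inl h
  · right
    by_contra hne
    exact hu (D.hh_fix (x := a) (y := b) (fun h => hne (by rw [h.1, h.2])) hp)

theorem hh_zero (u : Fˣ) : D.hh u • D.pt 0 0 = D.pt 0 0 := by rw [D.hh_pt]; simp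

/-- Elements permuting the two points. -/
theorem H_TI {g : Cfsg.Sz F m} {u : Fˣ} (hu : u ≠ 1) (h : g * D.hh u * g⁻¹ ∈ D.H) :
    g ∈ D.H ∨ D.ww * g ∈ D.H := by
  obtain ⟨v, hv⟩ := h
  have hv1 : v ≠ 1 := by
    rintro rfl
    rw [D.hh_one, mul_inv_eq_one] at hv
    apply hu
    apply D.hh_inj
    rw [D.hh_one]
    exact mul_left_cancel (a := g) (by rw [hv, mul_one])
  have h1 := D.hh_fix_pts hv1 (p := g • D.inf) (by rw [← hv, mul_smul, mul_smul, inv_smul_smul, D.hh_inf])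
  have h2 := D.hh_fix_pts hv1 (p := g • D.pt 0 0) (by rw [← hv, mul_smul, mul_smul, inv_smul_smul, D.hh_zero])
  rcases h1 with h1 | h1
  · rcases h2 with h2 | h2
    · exfalso
      rw [← h1] at h2
      exact D.pt_ne_inf 0 0 (smul_left_cancel g h2)
    · left
      obtain ⟨t, ht⟩ := D.exists_hh h1 h2
      exact ⟨t, ht⟩
  · rcases h2 with h2 | h2
    · right
      obtain ⟨t, ht⟩ := D.exists_hh (g := D.ww * g) (by rw [mul_smul, h1, D.ww_pt_zero]) (by rw [mul_smul, h2, D.ww_inf])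
      exact ⟨t, ht⟩
    · exfalso
      rw [← h2] at h1
      exact D.pt_ne_inf 0 0 (smul_left_cancel g h1).symm

theorem mem_normalizer_H {g : Cfsg.Sz F m} :
    g ∈ Subgroup.normalizer (D.H : Set (Cfsg.Sz F m)) ↔ g ∈ D.H ∨ D.ww * g ∈ D.H := by
  constructor
  · intro hg
    obtain ⟨u, hu⟩ := D.exists_unit
    exact D.H_TI hu ((Subgroup.mem_normalizer_iff.1 hg _).1 ⟨u, rfl⟩)
  · have hww : D.ww ∈ Subgroup.normalizer (D.H : Set (Cfsg.Sz F m)) := by
      rw [Subgroup.mem_normalizer_iff]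
      intro x
      constructor
      · rintro ⟨u, rfl⟩
        rw [D.ww_inv, D.ww_conj_hh]; exact ⟨_, rfl⟩
      · rintro ⟨u, hu⟩
        refine ⟨u⁻¹, ?_⟩
        rw [← D.ww_conj_hh, ← hu, D.ww_inv]
        calc x = (D.ww * D.ww) * x * (D.ww * D.ww) := by rw [D.ww_mul_ww]; group
          _ = _ := by group
    rintro (h | h)
    · exact Subgroup.le_normalizer h
    · have : g = D.ww⁻¹ * (D.ww * g) := by group
      rw [this]
      exact Subgroup.mul_mem _ (Subgroup.inv_mem _ hww) (Subgroup.le_normalizer h)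

theorem ww_notMem_H : D.ww ∉ D.H := by
  rintro ⟨u, hu⟩
  have : D.ww • D.inf = D.inf := by rw [hu, D.hh_inf]
  rw [D.ww_inf] at this
  exact D.pt_ne_inf 0 0 this

theorem card_normalizer_H : Nat.card (Subgroup.normalizer (D.H : Set (Cfsg.Sz F m))) = 2 * (2 ^ (2 * m + 1) - 1) := by
  rw [← D.card_H]
  have h1 : D.H.relIndex (Subgroup.normalizer (D.H : Set (Cfsg.Sz F m))) = 2 := by
    rw [Subgroup.relIndex, Subgroup.index_eq_two_iff]
    refine ⟨⟨D.ww, D.mem_normalizer_H.2 (Or.inr (by rw [D.ww_mul_ww]; exact D.H.one_mem))⟩, fun b => ?_⟩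
    rcases D.mem_normalizer_H.1 b.2 with h | h
    · right
      refine ⟨h, fun h' => ?_⟩
      have h2 : (b : Cfsg.Sz F m) * D.ww ∈ D.H := h'
      exact D.ww_notMem_H ((D.H.mul_mem_cancel_left h).1 h2)
    · left
      refine ⟨?_, fun h' => ?_⟩
      · show (b : Cfsg.Sz F m) * D.ww ∈ D.H
        obtain ⟨u, hu⟩ := h
        refine ⟨u⁻¹, ?_⟩
        have : (b : Cfsg.Sz F m) = D.ww * D.hh u := by rw [← hu, ← mul_assoc, D.ww_mul_ww, one_mul]
        rw [this, D.ww_conj_hh]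
      · exact D.ww_notMem_H ((D.H.mul_mem_cancel_right h').1 h)
  have h2 := Subgroup.card_mul_index (D.H.subgroupOf (Subgroup.normalizer (D.H : Set (Cfsg.Sz F m))))
  rw [← Subgroup.relIndex, h1, Nat.card_congr (Subgroup.subgroupOfEquivOfLe Subgroup.le_normalizer).toEquiv] at h2
  omega

/-- Number of elements conjugate into `H \ {1}`. -/
theorem card_S2 : 2 * Nat.card {x : Cfsg.Sz F m // x ≠ 1 ∧ ∃ g, g⁻¹ * x * g ∈ D.H} =
    (2 ^ (2 * m + 1)) ^ 2 * ((2 ^ (2 * m + 1)) ^ 2 + 1) * (2 ^ (2 * m + 1) - 2) := by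
  rw [card_conj D.H (by
    rintro g _ ⟨u, rfl⟩ h1 h2
    exact D.mem_normalizer_H.2 (D.H_TI (by rintro rfl; exact h1 D.hh_one) h2)), D.card_H]
  have h := (Subgroup.normalizer (D.H : Set (Cfsg.Sz F m))).card_mul_index
  rw [D.card_normalizer_H, D.card_Sz] at h
  have hpos : 0 < 2 ^ (2 * m + 1) - 1 := by rw [← D.card_H]; exact Nat.card_pos
  have h3 : 2 * (Subgroup.normalizer (D.H : Set (Cfsg.Sz F m))).index = (2 ^ (2 * m + 1)) ^ 2 * ((2 ^ (2 * m + 1)) ^ 2 + 1) := by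
    apply Nat.eq_of_mul_eq_mul_left hpos
    rw [mul_comm _ ((2 ^ (2 * m + 1)) ^ 2 * ((2 ^ (2 * m + 1)) ^ 2 + 1)), ← h]; ring
  rw [← mul_assoc, h3]
  congr 1

/-- Number of elements conjugate into `U \ {1}`. -/
theorem card_S1 : Nat.card {x : Cfsg.Sz F m // x ≠ 1 ∧ ∃ g, g⁻¹ * x * g ∈ D.U} =
    ((2 ^ (2 * m + 1)) ^ 2 + 1) * ((2 ^ (2 * m + 1)) ^ 2 - 1) := by
  rw [card_conj D.U (by
    rintro g _ ⟨a, b, rfl⟩ h1 ⟨c, d, h2⟩
    rw [D.normalizer_U]
    show g • D.inf = D.inf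
    have hne : ¬ (c = 0 ∧ d = 0) := by
      rintro ⟨rfl, rfl⟩
      rw [D.tt_zero, mul_inv_eq_one] at h2
      exact h1 (mul_left_cancel (a := g) (by rw [h2, mul_one]))
    apply D.tt_fix hne
    rw [← h2, mul_smul, mul_smul, inv_smul_smul, D.tt_inf]), D.card_U, D.normalizer_U]
  congr 1
  have h := D.B.card_mul_index
  rw [D.card_B, D.card_Sz] at h
  have hpos : 0 < (2 ^ (2 * m + 1)) ^ 2 * (2 ^ (2 * m + 1) - 1) := by rw [← D.card_B]; exact Nat.card_pos
  apply Nat.eq_of_mul_eq_mul_left hpos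
  rw [h]; ring

/-- Elements with a fixed point. -/
theorem fixed_iff {x : Cfsg.Sz F m} (hx : x ≠ 1) : (∃ p : Om F m, x • p = p) ↔
    (∃ g, g⁻¹ * x * g ∈ D.U) ∨ (∃ g, g⁻¹ * x * g ∈ D.H) := by
  constructor
  · rintro ⟨p, hp⟩
    obtain ⟨k, hk | ⟨u, hk⟩⟩ := D.conj_of_fix hp
    · exact Or.inl ⟨k, hk⟩
    · exact Or.inr ⟨k, u, hk⟩
  · have key : ∀ g : Cfsg.Sz F m, (g⁻¹ * x * g) • D.inf = D.inf → x • (g • D.inf) = g • D.inf := by
      intro g hg
      have := congrArg (fun t => g • t) hg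
      simpa [mul_smul] using this
    rintro (⟨g, a, b, h⟩ | ⟨g, u, h⟩)
    · exact ⟨g • D.inf, key g (by rw [h, D.tt_inf])⟩
    · exact ⟨g • D.inf, key g (by rw [h, D.hh_inf])⟩

theorem not_both {x : Cfsg.Sz F m} (hx : x ≠ 1) (h1 : ∃ g, g⁻¹ * x * g ∈ D.U) (h2 : ∃ g, g⁻¹ * x * g ∈ D.H) : False := by
  obtain ⟨g, a, b, h1⟩ := h1
  obtain ⟨k, u, h2⟩ := h2
  -- x has only one fixed point
  have hfix : ∀ p : Om F m, x • p = p → p = g • D.inf := by
    intro p hp
    have : D.tt a b • (g⁻¹ • p) = g⁻¹ • p := by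
      rw [← h1, mul_smul, mul_smul, smul_inv_smul, hp]
    have hne : ¬ (a = 0 ∧ b = 0) := by
      rintro ⟨rfl, rfl⟩
      rw [D.tt_zero] at h1
      apply hx
      have : x = g * (g⁻¹ * x * g) * g⁻¹ := by group
      rw [this, h1]; group
    have := D.tt_fix hne this
    rw [inv_smul_eq_iff] at this; exact this
  have e1 : x • (k • D.inf) = k • D.inf := by
    have := congrArg (fun t => k • t) (show (k⁻¹ * x * k) • D.inf = D.inf by rw [h2, D.hh_inf])
    simpa [mul_smul] using this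
  have e2 : x • (k • D.pt 0 0) = k • D.pt 0 0 := by
    have := congrArg (fun t => k • t) (show (k⁻¹ * x * k) • D.pt 0 0 = D.pt 0 0 by rw [h2, D.hh_zero])
    simpa [mul_smul] using this
  have := (hfix _ e1).trans (hfix _ e2).symm
  exact D.pt_ne_inf 0 0 (smul_left_cancel k this).symm

/-- Number of elements without fixed points. -/
theorem card_S0 : 2 * Nat.card {x : Cfsg.Sz F m // ∀ p : Om F m, x • p ≠ p} =
    (2 ^ (2 * m + 1)) ^ 3 * (2 ^ (2 * m + 1) - 1) ^ 2 := by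
  classical
  have hfin : Finite (Cfsg.Sz F m) := inferInstance
  have e : Cfsg.Sz F m ≃ (Unit ⊕ {x : Cfsg.Sz F m // x ≠ 1 ∧ ∃ g, g⁻¹ * x * g ∈ D.U}) ⊕
      ({x : Cfsg.Sz F m // x ≠ 1 ∧ ∃ g, g⁻¹ * x * g ∈ D.H} ⊕ {x : Cfsg.Sz F m // ∀ p : Om F m, x • p ≠ p}) := by
    refine (Equiv.ofBijective (fun s => match s with
      | Sum.inl (Sum.inl _) => (1 : Cfsg.Sz F m)
      | Sum.inl (Sum.inr x) => x.1
      | Sum.inr (Sum.inl x) => x.1
      | Sum.inr (Sum.inr x) => x.1) ⟨?_, ?_⟩).symm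
    · have hA : ∀ x : {x : Cfsg.Sz F m // ∀ p : Om F m, x • p ≠ p}, x.1 ≠ 1 := by
        intro x h; exact x.2 D.inf (by rw [h, one_smul])
      have hB : ∀ (x : {x : Cfsg.Sz F m // x ≠ 1 ∧ ∃ g, g⁻¹ * x * g ∈ D.U}) (y : {x : Cfsg.Sz F m // ∀ p : Om F m, x • p ≠ p}),
          x.1 ≠ y.1 := by
        intro x y h
        obtain ⟨p, hp⟩ := (D.fixed_iff x.2.1).2 (Or.inl x.2.2)
        exact y.2 p (by rw [← h]; exact hp)
      have hC : ∀ (x : {x : Cfsg.Sz F m // x ≠ 1 ∧ ∃ g, g⁻¹ * x * g ∈ D.H}) (y : {x : Cfsg.Sz F m // ∀ p : Om F m, x • p ≠ p}),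
          x.1 ≠ y.1 := by
        intro x y h
        obtain ⟨p, hp⟩ := (D.fixed_iff x.2.1).2 (Or.inr x.2.2)
        exact y.2 p (by rw [← h]; exact hp)
      have hD : ∀ (x : {x : Cfsg.Sz F m // x ≠ 1 ∧ ∃ g, g⁻¹ * x * g ∈ D.U}) (y : {x : Cfsg.Sz F m // x ≠ 1 ∧ ∃ g, g⁻¹ * x * g ∈ D.H}),
          x.1 ≠ y.1 := by
        intro x y h
        exact D.not_both x.2.1 x.2.2 (by rw [h]; exact y.2.2)
      rintro ((a | a) | (a | a)) ((b | b) | (b | b)) h
      · rfl
      · exact absurd h.symm b.2.1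
      · exact absurd h.symm b.2.1
      · exact absurd h.symm (hA b)
      · exact absurd h a.2.1
      · congr 2; exact Subtype.ext h
      · exact absurd h (hD a b)
      · exact absurd h (hB a b)
      · exact absurd h a.2.1
      · exact absurd h.symm (hD b a)
      · congr 2; exact Subtype.ext h
      · exact absurd h (hC a b)
      · exact absurd h (hA a)
      · exact absurd h.symm (hB b a)
      · exact absurd h.symm (hC b a)
      · congr 2; exact Subtype.ext h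
    · intro x
      by_cases hx : x = 1
      · exact ⟨Sum.inl (Sum.inl ()), hx.symm⟩
      · by_cases hp : ∃ p : Om F m, x • p = p
        · rcases (D.fixed_iff hx).1 hp with h | h
          · exact ⟨Sum.inl (Sum.inr ⟨x, hx, h⟩), rfl⟩
          · exact ⟨Sum.inr (Sum.inl ⟨x, hx, h⟩), rfl⟩
        · push Not at hp
          exact ⟨Sum.inr (Sum.inr ⟨x, hp⟩), rfl⟩
  have h1 := Nat.card_congr e
  have hunit : Nat.card Unit = 1 := Nat.card_unique
  rw [Nat.card_sum, Nat.card_sum, Nat.card_sum, hunit, D.card_S1, D.card_Sz] at h1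
  have h2 := D.card_S2
  set n2 := Nat.card {x : Cfsg.Sz F m // x ≠ 1 ∧ ∃ g, g⁻¹ * x * g ∈ D.H}
  set n0 := Nat.card {x : Cfsg.Sz F m // ∀ p : Om F m, x • p ≠ p}
  have hq := D.four_lt
  rw [D.hF] at hq
  obtain ⟨q, hqq⟩ : ∃ q, 2 ^ (2 * m + 1) = q + 2 := ⟨2 ^ (2 * m + 1) - 2, by omega⟩
  rw [hqq] at h1 h2 ⊢
  have e1 : q + 2 - 1 = q + 1 := rfl
  have e2 : q + 2 - 2 = q := rfl
  have e3 : (q + 2) ^ 2 - 1 = (q + 1) * (q + 3) := by
    have : (q + 2) ^ 2 = (q + 1) * (q + 3) + 1 := by ring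
    rw [this]; rfl
  rw [e1, e3] at h1
  rw [e2] at h2
  rw [e1]
  nlinarith [h1, h2]

end Dat

end Cfsg.Agent.H8.Suz
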