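import Mathlib
import Cfsg.Prelude.Def_LieExceptional
import Cfsg.Agent.H8.SuzCount

set_option autoImplicit false

/-! Normalisers of the tori of order dividing `q² + 1`. -/

namespace Cfsg.Agent.H8.Suz

open Matrix MulAction

variable {F : Type*} [Field F] [Fintype F] {m : ℕ} (D : Dat F m)

/-- The torus attached to a good element. -/
abbrev Cen {F : Type*} [Field F] {m : ℕ} (u : Cfsg.Sz F m) : Subgroup (Cfsg.Sz F m) := Subgroup.centralizer ({u} : Set (Cfsg.Sz F m))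

namespace Dat

include D

theorem finrank_cenAlg {u : Cfsg.Sz F m} (hu : Good u) : Module.finrank F (cenAlg u) = 4 := by
  have hfield := D.cenAlg_isField hu.1 rfl hu.2
  have hnt : Nontrivial (cenAlg u) := inferInstance
  -- injection into F⁴
  have hle : Module.finrank F (cenAlg u) ≤ 4 := by
    let f : (cenAlg u) →ₗ[F] (Fin 4 → F) := {
      toFun := fun M => (M : Matrix (Fin 4) (Fin 4) F) *ᵥ (Pi.single 0 1)
      map_add' := fun M N => by
        show ((M : Matrix (Fin 4) (Fin 4) F) + (N : Matrix (Fin 4) (Fin 4) F)) *ᵥ _ = _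
        rw [Matrix.add_mulVec]
      map_smul' := fun c M => by
        show (c • (M : Matrix (Fin 4) (Fin 4) F)) *ᵥ _ = _; rw [Matrix.smul_mulVec]; rfl }
    have hf : Function.Injective f := by
      rw [injective_iff_map_eq_zero]
      intro M hM
      by_contra hne
      have h1 := D.cenAlg_inj hu.1 rfl hu.2 M.2 (fun h => hne (Subtype.ext h)) (v := Pi.single 0 1) hM
      have := congrFun h1 0
      simp at this
    have := LinearMap.finrank_le_finrank_of_injective hf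
    rwa [Module.finrank_fin_fun] at this
  -- order of the unit
  have hcard : Nat.card (cenAlg u) = (2 ^ (2 * m + 1)) ^ (Module.finrank F (cenAlg u)) := by
    rw [Module.natCard_eq_pow_finrank (K := F) (V := cenAlg u), Nat.card_eq_fintype_card, D.hF]
  have hmod : (2 ^ (2 * m + 1)) ^ (Module.finrank F (cenAlg u)) ≡ 1 [MOD orderOf u] := by
    let _ := hfield.toField
    have h1 : orderOf (toField u ⟨u, mem_cen.2 rfl⟩) = orderOf u := by
      rw [orderOf_injective _ (toField_inj u), Subgroup.orderOf_mk]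
    have h2 : (toField u ⟨u, mem_cen.2 rfl⟩) ≠ 0 := by
      intro h
      have h3 := orderOf_pos u
      rw [← h1, h] at h3
      have h4 : orderOf (0 : cenAlg u) = 0 := by
        rw [orderOf_eq_zero_iff']
        intro n hn
        rw [zero_pow (by omega)]
        exact zero_ne_one
      omega
    have h5 : orderOf (Units.mk0 _ h2) ∣ Nat.card (cenAlg u)ˣ := orderOf_dvd_natCard _
    rw [← orderOf_units, Units.val_mk0, h1, Nat.card_units, hcard] at h5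
    exact ((Nat.modEq_iff_dvd' (Nat.one_le_iff_ne_zero.2 (by positivity))).2 h5).symm
  rcases D.pow_modEq_one hu.1 hu.2 hle hmod with h | h
  · exfalso
    rw [h, pow_zero] at hcard
    have h1 : 1 < Nat.card (cenAlg u) := Finite.one_lt_card
    omega
  · exact h

theorem cen_comm {u : Cfsg.Sz F m} (hu : Good u) {M N : Matrix (Fin 4) (Fin 4) F} (hM : M ∈ cenAlg u) (hN : N ∈ cenAlg u) :
    M * N = N * M := by
  have := (D.cenAlg_isField hu.1 rfl hu.2).mul_comm ⟨M, hM⟩ ⟨N, hN⟩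
  exact congrArg Subtype.val this

omit D in
theorem mem_cenAlg_of_cen {u a : Cfsg.Sz F m} (ha : a ∈ Cen u) : a.1.1 ∈ cenAlg u := by
  rw [mem_cenAlg]
  exact congrArg (fun x : Cfsg.Sz F m => x.1.1) (mem_cen.1 ha)

theorem conj_mem_cenAlg {u n : Cfsg.Sz F m} (hu : Good u) (hn : n ∈ Subgroup.normalizer (Cen u : Set (Cfsg.Sz F m)))
    {M : Matrix (Fin 4) (Fin 4) F} (hM : M ∈ cenAlg u) : n.1.1 * M * (n⁻¹).1.1 ∈ cenAlg u := by
  have h1 : n⁻¹ * u * n ∈ Cen u := by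
    have := (Subgroup.mem_normalizer_iff.1 (Subgroup.inv_mem _ hn) u).1 (mem_cen.2 rfl)
    rwa [inv_inv] at this
  have h2 := D.cen_comm hu (mem_cenAlg_of_cen h1) hM
  rw [mem_cenAlg]
  have h3 : (n⁻¹ * u * n).1.1 = (n⁻¹).1.1 * u.1.1 * n.1.1 := rfl
  have h4 : n.1.1 * (n⁻¹).1.1 = 1 := congrArg (fun x : Cfsg.Sz F m => x.1.1) (mul_inv_cancel n)
  have h5 : (n⁻¹).1.1 * n.1.1 = 1 := congrArg (fun x : Cfsg.Sz F m => x.1.1) (inv_mul_cancel n)
  rw [h3] at h2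
  calc u.1.1 * (n.1.1 * M * (n⁻¹).1.1) = (n.1.1 * (n⁻¹).1.1) * u.1.1 * (n.1.1 * M * (n⁻¹).1.1) := by rw [h4, Matrix.one_mul]
    _ = n.1.1 * (((n⁻¹).1.1 * u.1.1 * n.1.1) * M) * (n⁻¹).1.1 := by simp only [Matrix.mul_assoc]
    _ = n.1.1 * (M * ((n⁻¹).1.1 * u.1.1 * n.1.1)) * (n⁻¹).1.1 := by rw [h2]
    _ = (n.1.1 * M * (n⁻¹).1.1) * u.1.1 * (n.1.1 * (n⁻¹).1.1) := by simp only [Matrix.mul_assoc]
    _ = _ := by rw [h4, Matrix.mul_one]

/-- The action of the normaliser on the field. -/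
noncomputable def conjAlg {u : Cfsg.Sz F m} (hu : Good u) :
    Subgroup.normalizer (Cen u : Set (Cfsg.Sz F m)) →* (cenAlg u ≃ₐ[F] cenAlg u) where
  toFun n := {
    toFun := fun M => ⟨n.1.1.1 * M.1 * (n.1⁻¹).1.1, D.conj_mem_cenAlg hu n.2 M.2⟩
    invFun := fun M => ⟨(n.1⁻¹).1.1 * M.1 * n.1.1.1, by
      have := D.conj_mem_cenAlg hu (Subgroup.inv_mem _ n.2) M.2
      rwa [inv_inv] at this⟩
    left_inv := fun M => by
      apply Subtype.ext
      have h5 : (n.1⁻¹).1.1 * n.1.1.1 = 1 := congrArg (fun x : Cfsg.Sz F m => x.1.1) (inv_mul_cancel n.1)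
      show (n.1⁻¹).1.1 * (n.1.1.1 * M.1 * (n.1⁻¹).1.1) * n.1.1.1 = M.1
      calc _ = ((n.1⁻¹).1.1 * n.1.1.1) * M.1 * ((n.1⁻¹).1.1 * n.1.1.1) := by simp only [Matrix.mul_assoc]
        _ = _ := by rw [h5, Matrix.one_mul, Matrix.mul_one]
    right_inv := fun M => by
      apply Subtype.ext
      have h4 : n.1.1.1 * (n.1⁻¹).1.1 = 1 := congrArg (fun x : Cfsg.Sz F m => x.1.1) (mul_inv_cancel n.1)
      show n.1.1.1 * ((n.1⁻¹).1.1 * M.1 * n.1.1.1) * (n.1⁻¹).1.1 = M.1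
      calc _ = (n.1.1.1 * (n.1⁻¹).1.1) * M.1 * (n.1.1.1 * (n.1⁻¹).1.1) := by simp only [Matrix.mul_assoc]
        _ = _ := by rw [h4, Matrix.one_mul, Matrix.mul_one]
    map_mul' := fun M N => by
      apply Subtype.ext
      have h5 : (n.1⁻¹).1.1 * n.1.1.1 = 1 := congrArg (fun x : Cfsg.Sz F m => x.1.1) (inv_mul_cancel n.1)
      show n.1.1.1 * (M.1 * N.1) * (n.1⁻¹).1.1 = (n.1.1.1 * M.1 * (n.1⁻¹).1.1) * (n.1.1.1 * N.1 * (n.1⁻¹).1.1)
      calc _ = n.1.1.1 * M.1 * 1 * N.1 * (n.1⁻¹).1.1 := by rw [Matrix.mul_one]; simp only [Matrix.mul_assoc]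
        _ = n.1.1.1 * M.1 * ((n.1⁻¹).1.1 * n.1.1.1) * N.1 * (n.1⁻¹).1.1 := by rw [h5]
        _ = _ := by simp only [Matrix.mul_assoc]
    map_add' := fun M N => by
      apply Subtype.ext
      show n.1.1.1 * (M.1 + N.1) * (n.1⁻¹).1.1 = (n.1.1.1 * M.1 * (n.1⁻¹).1.1) + (n.1.1.1 * N.1 * (n.1⁻¹).1.1)
      rw [Matrix.mul_add, Matrix.add_mul]
    commutes' := fun c => by
      apply Subtype.ext
      have h4 : n.1.1.1 * (n.1⁻¹).1.1 = 1 := congrArg (fun x : Cfsg.Sz F m => x.1.1) (mul_inv_cancel n.1)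
      show n.1.1.1 * (algebraMap F (Matrix (Fin 4) (Fin 4) F) c) * (n.1⁻¹).1.1 = algebraMap F (Matrix (Fin 4) (Fin 4) F) c
      rw [← Algebra.commutes c n.1.1.1, Matrix.mul_assoc, h4, Matrix.mul_one] }
  map_one' := by
    refine AlgEquiv.ext fun M => Subtype.ext ?_
    show (1 : Matrix (Fin 4) (Fin 4) F) * M.1 * ((1 : Cfsg.Sz F m)⁻¹).1.1 = M.1
    have : ((1 : Cfsg.Sz F m)⁻¹).1.1 = 1 := by rw [inv_one]; rfl
    rw [this, Matrix.one_mul, Matrix.mul_one]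
  map_mul' n k := by
    refine AlgEquiv.ext fun M => Subtype.ext ?_
    show (n.1 * k.1).1.1 * M.1 * ((n.1 * k.1)⁻¹).1.1 = n.1.1.1 * (k.1.1.1 * M.1 * (k.1⁻¹).1.1) * (n.1⁻¹).1.1
    have h1 : ((n.1 * k.1)⁻¹).1.1 = (k.1⁻¹).1.1 * (n.1⁻¹).1.1 := by rw [_root_.mul_inv_rev]; rfl
    rw [h1, mat_mul]
    simp only [Matrix.mul_assoc]

theorem ker_conjAlg {u : Cfsg.Sz F m} (hu : Good u) :
    (D.conjAlg hu).ker = (Cen u).subgroupOf (Subgroup.normalizer (Cen u : Set (Cfsg.Sz F m))) := by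
  ext n
  rw [MonoidHom.mem_ker, Subgroup.mem_subgroupOf]
  have h4 : n.1.1.1 * (n.1⁻¹).1.1 = 1 := congrArg (fun x : Cfsg.Sz F m => x.1.1) (mul_inv_cancel n.1)
  have h5 : (n.1⁻¹).1.1 * n.1.1.1 = 1 := congrArg (fun x : Cfsg.Sz F m => x.1.1) (inv_mul_cancel n.1)
  constructor
  · intro h
    have h1 := congrArg (fun f : cenAlg u ≃ₐ[F] cenAlg u => (f ⟨u.1.1, mem_cenAlg.2 rfl⟩).1) h
    have h2 : n.1.1.1 * u.1.1 * (n.1⁻¹).1.1 = u.1.1 := h1
    rw [mem_cen]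
    apply mat_inj
    show u.1.1 * n.1.1.1 = n.1.1.1 * u.1.1
    calc u.1.1 * n.1.1.1 = n.1.1.1 * u.1.1 * ((n.1⁻¹).1.1 * n.1.1.1) := by rw [← Matrix.mul_assoc, h2]
      _ = _ := by rw [h5, Matrix.mul_one]
  · intro h
    refine AlgEquiv.ext fun M => Subtype.ext ?_
    show n.1.1.1 * M.1 * (n.1⁻¹).1.1 = M.1
    rw [D.cen_comm hu (mem_cenAlg_of_cen h) M.2, Matrix.mul_assoc, h4, Matrix.mul_one]

/-- `|N(C(u))| = w |C(u)|` with `w ∣ 4`. -/
theorem card_norm {u : Cfsg.Sz F m} (hu : Good u) :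
    ∃ w, w ∣ 4 ∧ Nat.card (Subgroup.normalizer (Cen u : Set (Cfsg.Sz F m))) = w * Nat.card (Cen u) := by
  refine ⟨Nat.card (D.conjAlg hu).range, ?_, ?_⟩
  · have h1 := Subgroup.card_subgroup_dvd_card (D.conjAlg hu).range
    have h2 : Nat.card (cenAlg u ≃ₐ[F] cenAlg u) = 4 := by
      let _ := (D.cenAlg_isField hu.1 rfl hu.2).toField
      exact (IsGalois.card_aut_eq_finrank F (cenAlg u)).trans (D.finrank_cenAlg hu)
    rwa [h2] at h1
  · have h1 := (D.conjAlg hu).ker.card_mul_index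
    rw [Subgroup.index_ker, D.ker_conjAlg hu, Nat.card_congr (Subgroup.subgroupOfEquivOfLe Subgroup.le_normalizer).toEquiv] at h1
    rw [← h1, mul_comm]

/-- `C(u)` is a TI-subgroup. -/
theorem cen_TI {u : Cfsg.Sz F m} (hu : Good u) (g a : Cfsg.Sz F m) (ha : a ∈ Cen u) (ha1 : a ≠ 1)
    (h : g * a * g⁻¹ ∈ Cen u) : g ∈ Subgroup.normalizer (Cen u : Set (Cfsg.Sz F m)) := by
  have h1 := D.good_centralizer_eq hu (mem_cen.1 ha) ha1
  have h2 := D.good_centralizer_eq hu (mem_cen.1 h) (by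
    intro h'
    rw [mul_inv_eq_one] at h'
    exact ha1 (mul_left_cancel (a := g) (by rw [h', mul_one])))
  rw [Subgroup.mem_normalizer_iff]
  intro x
  show x ∈ Cen u ↔ g * x * g⁻¹ ∈ Cen u
  rw [show (Cen u) = Subgroup.centralizer ({a} : Set (Cfsg.Sz F m)) from h1.symm]
  nth_rewrite 2 [show Subgroup.centralizer ({a} : Set (Cfsg.Sz F m)) = Subgroup.centralizer ({g * a * g⁻¹} : Set (Cfsg.Sz F m)) from h1.trans h2.symm]
  rw [mem_cen, mem_cen]
  constructor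
  · intro hx
    calc g * a * g⁻¹ * (g * x * g⁻¹) = g * (a * x) * g⁻¹ := by group
      _ = g * (x * a) * g⁻¹ := by rw [hx]
      _ = _ := by group
  · intro hx
    have : g * (a * x) * g⁻¹ = g * (x * a) * g⁻¹ := by
      calc g * (a * x) * g⁻¹ = g * a * g⁻¹ * (g * x * g⁻¹) := by group
        _ = g * x * g⁻¹ * (g * a * g⁻¹) := hx
        _ = _ := by group
    exact mul_left_cancel (mul_right_cancel this)

/-- A nontrivial element of `C(u)` of prime order is good. -/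
theorem good_of_mem {u b : Cfsg.Sz F m} (hu : Good u) (hb : b ∈ Cen u) (hbp : (orderOf b).Prime) : Good b := by
  apply D.good_of_no_fixed hbp
  apply D.good_no_fixed_of_comm hu (mem_cen.1 hb)
  rintro rfl
  rw [orderOf_one] at hbp
  exact Nat.not_prime_one hbp

/-- For a prime divisor `l` of `|C(u)|`, `C(u)` contains a Sylow `l`-subgroup of the group. -/
theorem exists_sylow_le {u : Cfsg.Sz F m} (hu : Good u) {l : ℕ} [hl : Fact l.Prime] (hlu : l ∣ Nat.card (Cen u)) :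
    l ∣ (2 ^ (2 * m + 1)) ^ 2 + 1 ∧ ∃ P : Sylow l (Cfsg.Sz F m), (P : Subgroup (Cfsg.Sz F m)) ≤ Cen u := by
  obtain ⟨b, hb⟩ := exists_prime_orderOf_dvd_card' l hlu
  have hord : orderOf (b : Cfsg.Sz F m) = l := by rw [Subgroup.orderOf_coe]; exact hb
  have hgood := D.good_of_mem hu b.2 (by rw [hord]; exact hl.out)
  refine ⟨by rw [← hord]; exact hgood.2, ?_⟩
  have hp : IsPGroup l (Subgroup.zpowers (b : Cfsg.Sz F m)) := by
    apply IsPGroup.of_card (n := 1)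
    rw [Nat.card_zpowers, hord, pow_one]
  obtain ⟨P, hP⟩ := hp.exists_le_sylow
  refine ⟨P, ?_⟩
  have hbP : (b : Cfsg.Sz F m) ∈ P := hP (Subgroup.mem_zpowers _)
  have hb1 : (b : Cfsg.Sz F m) ≠ 1 := by
    intro h; rw [h, orderOf_one] at hord; exact hl.out.one_lt.ne hord
  have hnt : Nontrivial (P : Subgroup (Cfsg.Sz F m)) := ⟨⟨b, hbP⟩, 1, fun h => hb1 (congrArg Subtype.val h)⟩
  have hcen := P.isPGroup'.center_nontrivial
  obtain ⟨z, hz⟩ : ∃ z : Subgroup.center (P : Subgroup (Cfsg.Sz F m)), orderOf z = l := by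
    obtain ⟨n, hn⟩ := (IsPGroup.iff_card.1 (P.isPGroup'.to_subgroup (Subgroup.center P)))
    have h1 : 1 < Nat.card (Subgroup.center (P : Subgroup (Cfsg.Sz F m))) := Finite.one_lt_card
    have hn0 : n ≠ 0 := by rintro rfl; rw [hn] at h1; simp at h1
    exact exists_prime_orderOf_dvd_card' l (by rw [hn]; exact dvd_pow_self l hn0)
  set z' : Cfsg.Sz F m := ((z : (P : Subgroup (Cfsg.Sz F m))) : Cfsg.Sz F m) with hz'
  have hordz : orderOf z' = l := by
    rw [hz', Subgroup.orderOf_coe, Subgroup.orderOf_coe, hz]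
  have hPz : ∀ x ∈ P, z' * x = x * z' := by
    intro x hx
    have := Subgroup.mem_center_iff.1 z.2 ⟨x, hx⟩
    exact (congrArg Subtype.val this).symm
  have hz1 : z' ≠ 1 := by
    intro h; rw [h, orderOf_one] at hordz; exact hl.out.one_lt.ne hordz
  have hgz : Good z' := ⟨by rw [hordz]; exact hl.out, by rw [hordz, ← hord]; exact hgood.2⟩
  -- C(z') = C(b) = C(u)
  have e1 : Cen (b : Cfsg.Sz F m) = Cen z' := D.good_centralizer_eq hgz (hPz b hbP) hb1
  have e2 : Cen (b : Cfsg.Sz F m) = Cen u := D.good_centralizer_eq hu (mem_cen.1 b.2) hb1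
  rw [← e2, e1]
  intro x hx
  exact mem_cen.2 (hPz x hx)

/-- Good elements whose tori have a common prime divisor have conjugate tori. -/
theorem conj_of_common {u v : Cfsg.Sz F m} (hu : Good u) (hv : Good v) {l : ℕ} (hl : l.Prime)
    (hlu : l ∣ Nat.card (Cen u)) (hlv : l ∣ Nat.card (Cen v)) : ∃ g : Cfsg.Sz F m, ∀ x, x ∈ Cen v ↔ g⁻¹ * x * g ∈ Cen u := by
  have : Fact l.Prime := ⟨hl⟩
  obtain ⟨-, P, hP⟩ := D.exists_sylow_le hu hlu
  obtain ⟨-, Q, hQ⟩ := D.exists_sylow_le hv hlv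
  obtain ⟨g, hg⟩ := MulAction.exists_smul_eq (Cfsg.Sz F m) P Q
  have hnt : Nontrivial (P : Subgroup (Cfsg.Sz F m)) := by
    rw [Subgroup.nontrivial_iff_ne_bot]
    intro h
    have h1 := P.dvd_card_of_dvd_card (hlu.trans (Subgroup.card_subgroup_dvd_card _))
    rw [h, Subgroup.card_bot] at h1
    exact hl.one_lt.ne' (Nat.dvd_one.1 h1)
  obtain ⟨b, hb⟩ := exists_ne (1 : (P : Subgroup (Cfsg.Sz F m)))
  have hb1 : (b : Cfsg.Sz F m) ≠ 1 := fun h => hb (Subtype.ext h)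
  have hgb : g * (b : Cfsg.Sz F m) * g⁻¹ ∈ Cen v := by
    apply hQ
    rw [← hg]
    exact ⟨b, b.2, rfl⟩
  have hgb1 : g * (b : Cfsg.Sz F m) * g⁻¹ ≠ 1 := by
    intro h'
    rw [mul_inv_eq_one] at h'
    exact hb1 (mul_left_cancel (a := g) (by rw [h', mul_one]))
  have e1 : Cen (b : Cfsg.Sz F m) = Cen u := D.good_centralizer_eq hu (mem_cen.1 (hP b.2)) hb1
  have e2 : Cen (g * (b : Cfsg.Sz F m) * g⁻¹) = Cen v := D.good_centralizer_eq hv (mem_cen.1 hgb) hgb1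
  refine ⟨g, fun x => ?_⟩
  rw [← e1, ← e2, mem_cen, mem_cen]
  constructor
  · intro hx
    calc (b : Cfsg.Sz F m) * (g⁻¹ * x * g) = g⁻¹ * (g * (b : Cfsg.Sz F m) * g⁻¹ * x) * g := by group
      _ = g⁻¹ * (x * (g * (b : Cfsg.Sz F m) * g⁻¹)) * g := by rw [hx]
      _ = _ := by group
  · intro hx
    calc g * (b : Cfsg.Sz F m) * g⁻¹ * x = g * ((b : Cfsg.Sz F m) * (g⁻¹ * x * g)) * g⁻¹ := by group
      _ = g * ((g⁻¹ * x * g) * (b : Cfsg.Sz F m)) * g⁻¹ := by rw [hx]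
      _ = _ := by group

/-- `|C(u)|` is coprime to its index. -/
theorem coprime_index {u : Cfsg.Sz F m} (hu : Good u) : Nat.Coprime (Nat.card (Cen u)) (Cen u).index := by
  apply Nat.Coprime.symm
  rw [Nat.coprime_comm]
  apply Nat.coprime_of_dvd
  intro l hl h1 h2
  have : Fact l.Prime := ⟨hl⟩
  obtain ⟨-, P, hP⟩ := D.exists_sylow_le hu h1
  have h3 := Subgroup.index_dvd_of_le hP
  exact P.not_dvd_index (h2.trans h3)

/-- `|C(u)|` divides `q² + 1`, with coprime cofactor. -/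
theorem card_cen_dvd {u : Cfsg.Sz F m} (hu : Good u) : Nat.card (Cen u) ∣ (2 ^ (2 * m + 1)) ^ 2 + 1 := by
  have h1 : Nat.card (Cen u) ∣ Nat.card (Cfsg.Sz F m) := Subgroup.card_subgroup_dvd_card _
  rw [D.card_Sz] at h1
  have hcop : Nat.Coprime (Nat.card (Cen u)) ((2 ^ (2 * m + 1)) ^ 2 * (2 ^ (2 * m + 1) - 1)) := by
    apply Nat.coprime_of_dvd
    intro l hl h2 h3
    have : Fact l.Prime := ⟨hl⟩
    exact D.coprime_q hl (D.exists_sylow_le hu h2).1 h3
  apply hcop.dvd_of_dvd_mul_left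
  rw [mul_right_comm]
  exact h1

end Dat

end Cfsg.Agent.H8.Suz
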