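import Mathlib
import Cfsg.Prelude.Def_LieExceptional
import Cfsg.Agent.H8.SuzNorm

set_option autoImplicit false

/-! The two classes of tori of order dividing `q² + 1`. -/

namespace Cfsg.Agent.H8.Suz

open Matrix MulAction

/-- Nontrivial elements conjugate into `Cen u`. -/
def Cl {F : Type*} [Field F] {m : ℕ} (u : Cfsg.Sz F m) : Set (Cfsg.Sz F m) :=
  {x | x ≠ 1 ∧ ∃ g, g⁻¹ * x * g ∈ Cen u}

theorem prime_ge_five {q l : ℕ} (hq : Even q) (hl : l.Prime) (h : l ∣ q ^ 2 + 1) : 5 ≤ l := by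
  have h2 : l ≠ 2 := by
    rintro rfl
    obtain ⟨k, rfl⟩ := hq
    have : (k + k) ^ 2 + 1 = 2 * (2 * k ^ 2) + 1 := by ring
    omega
  have h3 : l ≠ 3 := by
    rintro rfl
    have h1 : (q ^ 2 + 1) % 3 = 0 := Nat.mod_eq_zero_of_dvd h
    have h2 : q % 3 = 0 ∨ q % 3 = 1 ∨ q % 3 = 2 := by omega
    rcases h2 with h2 | h2 | h2 <;> simp [Nat.add_mod, Nat.pow_mod, h2] at h1
  have h4 : l ≠ 4 := by rintro rfl; exact absurd hl (by decide)
  have := hl.two_le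
  omega

theorem tori_num : ∀ a1 a2 c1 c2 q w1 w2 : ℕ, 8 ≤ q → 5 ≤ a1 → 5 ≤ a2 → q ^ 2 + 1 = a1 * a2 → 0 < w1 → 0 < w2 → w1 ∣ 4 → w2 ∣ 4 →
    2 * (c1 + c2) = q ^ 3 * (q - 1) ^ 2 →
    c1 * (w1 * a1) = q ^ 2 * (q ^ 2 + 1) * (q - 1) * (a1 - 1) →
    c2 * (w2 * a2) = q ^ 2 * (q ^ 2 + 1) * (q - 1) * (a2 - 1) → w1 = 4 ∧ w2 = 4 ∧ a1 + a2 = 2 * q + 2 := by
  intro a1 a2 c1 c2 q w1 w2 hq h1 h2 hqa hw1 hw2 hd1 hd2 hc h3 h4
  obtain ⟨r, rfl⟩ : ∃ r, q = r + 1 := ⟨q - 1, by omega⟩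
  rw [show r + 1 - 1 = r from rfl] at hc h3 h4
  -- simplify the two counts
  rw [hqa] at h3 h4
  have e1 : c1 * w1 = (r + 1) ^ 2 * r * (a2 * (a1 - 1)) := by
    apply Nat.eq_of_mul_eq_mul_left (show 0 < a1 by omega)
    calc a1 * (c1 * w1) = c1 * (w1 * a1) := by ring
      _ = _ := h3
      _ = _ := by ring
  have e2 : c2 * w2 = (r + 1) ^ 2 * r * (a1 * (a2 - 1)) := by
    apply Nat.eq_of_mul_eq_mul_left (show 0 < a2 by omega)
    calc a2 * (c2 * w2) = c2 * (w2 * a2) := by ring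
      _ = _ := h4
      _ = _ := by ring
  have e3 : (r + 1) ^ 2 * r * (2 * w2 * (a2 * (a1 - 1)) + 2 * w1 * (a1 * (a2 - 1))) =
      (r + 1) ^ 2 * r * ((r + 1) * r * (w1 * w2)) := by
    calc _ = 2 * w2 * ((r + 1) ^ 2 * r * (a2 * (a1 - 1))) + 2 * w1 * ((r + 1) ^ 2 * r * (a1 * (a2 - 1))) := by ring
      _ = 2 * w2 * (c1 * w1) + 2 * w1 * (c2 * w2) := by rw [e1, e2]
      _ = (2 * (c1 + c2)) * (w1 * w2) := by ring
      _ = _ := by rw [hc]; ring
  have hpos : 0 < (r + 1) ^ 2 * r := by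
    have : 0 < r := by omega
    positivity
  have e4 := Nat.eq_of_mul_eq_mul_left hpos e3
  obtain ⟨b1, rfl⟩ : ∃ b, a1 = b + 5 := ⟨a1 - 5, by omega⟩
  obtain ⟨b2, rfl⟩ : ∃ b, a2 = b + 5 := ⟨a2 - 5, by omega⟩
  rw [show b1 + 5 - 1 = b1 + 4 from rfl, show b2 + 5 - 1 = b2 + 4 from rfl] at e4
  have c4 : ∀ w, 0 < w → w ∣ 4 → w = 1 ∨ w = 2 ∨ w = 4 := by
    intro w h0 hd
    have : w ≤ 4 := Nat.le_of_dvd (by norm_num) hd
    interval_cases w
    · left; rfl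
    · right; left; rfl
    · omega
    · right; right; rfl
  have hr : 7 ≤ r := by omega
  have hrr : 7 * r ≤ r * r := Nat.mul_le_mul_right _ hr
  have hbb := Nat.zero_le (b1 * b2)
  rcases c4 w1 hw1 hd1 with rfl | rfl | rfl <;> rcases c4 w2 hw2 hd2 with rfl | rfl | rfl
  · exfalso; linarith
  · exfalso; linarith
  · exfalso; linarith
  · exfalso; linarith
  · exfalso; linarith
  · exfalso; linarith
  · exfalso; linarith
  · exfalso; linarith
  · exact ⟨rfl, rfl, by linarith⟩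

variable {F : Type*} [Field F] [Fintype F] {m : ℕ} (D : Dat F m)

namespace Dat

include D

theorem q_even : Even (2 ^ (2 * m + 1)) := ⟨2 ^ (2 * m), by rw [pow_succ]; ring⟩

theorem q_ge : 8 ≤ 2 ^ (2 * m + 1) := by
  have hq := D.four_lt
  rw [D.hF] at hq
  obtain ⟨k, hk⟩ : ∃ k, 2 ^ (2 * m + 1) = 2 * k := ⟨2 ^ (2 * m), by rw [pow_succ]; ring⟩
  have hm : 1 ≤ m := by
    by_contra h
    have : m = 0 := by omega
    subst this
    norm_num at hq
  calc 8 = 2 ^ 3 := by norm_num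
    _ ≤ _ := Nat.pow_le_pow_right (by norm_num) (by omega)

theorem cen_prime {u : Cfsg.Sz F m} (hu : Good u) {l : ℕ} (hl : l.Prime) (h : l ∣ Nat.card (Cen u)) : 5 ≤ l := by
  have : Fact l.Prime := ⟨hl⟩
  exact prime_ge_five (D.q_even) hl (D.exists_sylow_le hu h).1

theorem dvd_cen {u : Cfsg.Sz F m} : orderOf u ∣ Nat.card (Cen u) := by
  have : orderOf (⟨u, mem_cen.2 rfl⟩ : Cen u) = orderOf u := by rw [← Subgroup.orderOf_coe]
  rw [← this]
  exact orderOf_dvd_natCard _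

theorem cen_ge {u : Cfsg.Sz F m} (hu : Good u) : 5 ≤ Nat.card (Cen u) := by
  have h1 := D.cen_prime hu hu.1 D.dvd_cen
  exact h1.trans (Nat.le_of_dvd Nat.card_pos D.dvd_cen)

theorem Cl_sub {u : Cfsg.Sz F m} (hu : Good u) : Cl u ⊆ {x : Cfsg.Sz F m | ∀ p : Om F m, x • p ≠ p} := by
  rintro x ⟨hx, g, hg⟩ p hp
  have hne : g⁻¹ * x * g ≠ 1 := by
    intro h
    apply hx
    have : x = g * (g⁻¹ * x * g) * g⁻¹ := by group
    rw [this, h]; group
  apply D.good_no_fixed_of_comm hu (mem_cen.1 hg) hne (g⁻¹ • p)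
  rw [mul_smul, mul_smul, smul_inv_smul, hp]

theorem orderOf_dvd_of_Cl {u x : Cfsg.Sz F m} (h : x ∈ Cl u) : orderOf x ∣ Nat.card (Cen u) := by
  obtain ⟨-, g, hg⟩ := h
  have h1 : orderOf (⟨g⁻¹ * x * g, hg⟩ : Cen u) = orderOf x := by
    rw [← Subgroup.orderOf_coe]
    show orderOf (g⁻¹ * x * g) = orderOf x
    have := orderOf_injective (MulAut.conj g⁻¹).toMonoidHom (MulAut.conj g⁻¹).injective x
    simpa using this
  rw [← h1]
  exact orderOf_dvd_natCard _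

theorem Cl_disjoint {u v : Cfsg.Sz F m} (h : Nat.Coprime (Nat.card (Cen u)) (Nat.card (Cen v))) :
    Disjoint (Cl u) (Cl v) := by
  rw [Set.disjoint_left]
  intro x hx hy
  have h1 := Nat.dvd_gcd (D.orderOf_dvd_of_Cl hx) (D.orderOf_dvd_of_Cl hy)
  rw [h, Nat.dvd_one, orderOf_eq_one_iff] at h1
  exact hx.1 h1

theorem card_Cl {u : Cfsg.Sz F m} (hu : Good u) :
    ∃ w, w ∣ 4 ∧ 0 < w ∧ Nat.card (Subgroup.normalizer (Cen u : Set (Cfsg.Sz F m))) = w * Nat.card (Cen u) ∧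
      (Cl u).ncard * (w * Nat.card (Cen u)) = Nat.card (Cfsg.Sz F m) * (Nat.card (Cen u) - 1) := by
  obtain ⟨w, hw, hN⟩ := D.card_norm hu
  refine ⟨w, hw, Nat.pos_of_dvd_of_pos hw (by norm_num), hN, ?_⟩
  have h1 := card_conj (Cen u) (fun g a ha ha1 h => D.cen_TI hu g a ha ha1 h)
  have h2 : (Cl u).ncard = (Subgroup.normalizer (Cen u : Set (Cfsg.Sz F m))).index * (Nat.card (Cen u) - 1) := by
    rw [← h1]; rfl
  rw [h2, ← hN, ← (Subgroup.normalizer (Cen u : Set (Cfsg.Sz F m))).card_mul_index]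
  ring

theorem five_Cl {u : Cfsg.Sz F m} (hu : Good u) : Nat.card (Cfsg.Sz F m) ≤ 5 * (Cl u).ncard := by
  obtain ⟨w, hw, hw0, -, h⟩ := D.card_Cl hu
  have hw4 : w ≤ 4 := Nat.le_of_dvd (by norm_num) hw
  have ha := D.cen_ge hu
  generalize Nat.card (Cen u) = a at h ha
  generalize (Cl u).ncard = c at h ⊢
  generalize Nat.card (Cfsg.Sz F m) = G at h ⊢
  obtain ⟨b, rfl⟩ : ∃ b, a = b + 5 := ⟨a - 5, by omega⟩
  have h' : c * (w * (b + 5)) = G * (b + 4) := h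
  have h1 : c * (w * (b + 5)) ≤ c * (4 * (b + 5)) := Nat.mul_le_mul_left _ (Nat.mul_le_mul_right _ hw4)
  have h2 : G * (4 * (b + 5)) ≤ (5 * c) * (4 * (b + 5)) := by
    calc G * (4 * (b + 5)) ≤ 5 * (G * (b + 4)) := by nlinarith [Nat.zero_le (G * b)]
      _ ≤ 5 * (c * (4 * (b + 5))) := by rw [← h']; omega
      _ = _ := by ring
  exact Nat.le_of_mul_le_mul_right h2 (by omega)

/-- No three pairwise coprime good tori. -/
theorem not_three {u v w : Cfsg.Sz F m} (hu : Good u) (hv : Good v) (hw : Good w)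
    (huv : Nat.Coprime (Nat.card (Cen u)) (Nat.card (Cen v)))
    (huw : Nat.Coprime (Nat.card (Cen u)) (Nat.card (Cen w)))
    (hvw : Nat.Coprime (Nat.card (Cen v)) (Nat.card (Cen w))) : False := by
  have d1 := D.Cl_disjoint huv
  have d2 := D.Cl_disjoint huw
  have d3 := D.Cl_disjoint hvw
  have hcard : (Cl u).ncard + (Cl v).ncard + (Cl w).ncard ≤ Set.ncard {x : Cfsg.Sz F m | ∀ p : Om F m, x • p ≠ p} := by
    rw [← Set.ncard_union_eq d1, ← Set.ncard_union_eq (Set.disjoint_union_left.2 ⟨d2, d3⟩)]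
    exact Set.ncard_le_ncard (Set.union_subset (Set.union_subset (D.Cl_sub hu) (D.Cl_sub hv)) (D.Cl_sub hw))
  have h0 := D.card_S0
  have h0' : 2 * Set.ncard {x : Cfsg.Sz F m | ∀ p : Om F m, x • p ≠ p} =
    (2 ^ (2 * m + 1)) ^ 3 * (2 ^ (2 * m + 1) - 1) ^ 2 := h0
  have h1 := D.five_Cl hu
  have h2 := D.five_Cl hv
  have h3 := D.five_Cl hw
  rw [D.card_Sz] at h1 h2 h3
  have hq := D.q_ge
  obtain ⟨q, hqq⟩ : ∃ q, 2 ^ (2 * m + 1) = q + 1 := ⟨2 ^ (2 * m + 1) - 1, by omega⟩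
  rw [hqq] at h0' h1 h2 h3 hq
  have e1 : q + 1 - 1 = q := rfl
  rw [e1] at h0' h1 h2 h3
  have hk : 6 * ((q + 1) ^ 2 * ((q + 1) ^ 2 + 1) * q) ≤ 5 * ((q + 1) ^ 3 * q ^ 2) := by
    rw [← h0']; omega
  have hpos : 0 < (q + 1) ^ 2 * q := by
    have : 0 < q := by omega
    positivity
  have hk' : ((q + 1) ^ 2 * q) * (6 * ((q + 1) ^ 2 + 1)) ≤ ((q + 1) ^ 2 * q) * (5 * ((q + 1) * q)) := by
    calc _ = 6 * ((q + 1) ^ 2 * ((q + 1) ^ 2 + 1) * q) := by ring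
      _ ≤ _ := hk
      _ = _ := by ring
  have := Nat.le_of_mul_le_mul_left hk' hpos
  nlinarith

/-- Coprime or conjugate. -/
theorem coprime_or {u v : Cfsg.Sz F m} (hu : Good u) (hv : Good v) :
    Nat.Coprime (Nat.card (Cen u)) (Nat.card (Cen v)) ∨ ∃ g : Cfsg.Sz F m, ∀ x, x ∈ Cen v ↔ g⁻¹ * x * g ∈ Cen u := by
  by_cases h : Nat.Coprime (Nat.card (Cen u)) (Nat.card (Cen v))
  · exact Or.inl h
  · right
    obtain ⟨l, hl, h1, h2⟩ := Nat.Prime.not_coprime_iff_dvd.1 h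
    exact D.conj_of_common hu hv hl h1 h2

/-- A good element of given order. -/
theorem exists_good {l : ℕ} (hl : l.Prime) (h : l ∣ (2 ^ (2 * m + 1)) ^ 2 + 1) : ∃ u : Cfsg.Sz F m, Good u ∧ orderOf u = l := by
  have : Fact l.Prime := ⟨hl⟩
  have h1 : l ∣ Nat.card (Cfsg.Sz F m) := by
    rw [D.card_Sz]
    exact (h.mul_left _).mul_right _
  obtain ⟨u, hu⟩ := exists_prime_orderOf_dvd_card' l h1
  exact ⟨u, ⟨by rw [hu]; exact hl, by rw [hu]; exact h⟩, hu⟩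

/-- Elements without fixed point are in a good torus. -/
theorem mem_good {x : Cfsg.Sz F m} (h : ∀ p : Om F m, x • p ≠ p) : ∃ u, Good u ∧ x ∈ Cen u := by
  have hx : x ≠ 1 := by rintro rfl; exact h D.inf (one_smul _ _)
  obtain ⟨i, hi⟩ := D.exists_good_power hx (by
    intro i hi p hp
    have hcomm : ∀ g : Cfsg.Sz F m, (g⁻¹ * x ^ i * g) * (g⁻¹ * x * g) = (g⁻¹ * x * g) * (g⁻¹ * x ^ i * g) := by
      intro g
      calc (g⁻¹ * x ^ i * g) * (g⁻¹ * x * g) = g⁻¹ * (x ^ i * x) * g := by group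
        _ = g⁻¹ * (x * x ^ i) * g := by rw [← pow_succ, ← pow_succ']
        _ = _ := by group
    have hne : ∀ g : Cfsg.Sz F m, g⁻¹ * x ^ i * g ≠ 1 := by
      intro g h'
      apply hi
      have : x ^ i = g * (g⁻¹ * x ^ i * g) * g⁻¹ := by group
      rw [this, h']; group
    rcases (D.fixed_iff hi).1 ⟨p, hp⟩ with ⟨g, hg⟩ | ⟨g, ⟨u, hg⟩⟩
    · have h1 := D.centralizer_U hg (hne g) (hcomm g)
      obtain ⟨p', hp'⟩ := (D.fixed_iff hx).2 (Or.inl ⟨g, h1⟩)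
      exact h p' hp'
    · have hu1 : u ≠ 1 := by
        rintro rfl
        exact hne g (by rw [hg, D.hh_one])
      have h1 := D.centralizer_H hu1 (x := g⁻¹ * x * g) (by rw [← hg]; exact hcomm g)
      obtain ⟨p', hp'⟩ := (D.fixed_iff hx).2 (Or.inr ⟨g, h1⟩)
      exact h p' hp')
  refine ⟨x ^ i, hi, mem_cen.2 ?_⟩
  rw [← pow_succ, ← pow_succ']

theorem cen_coprime_cofactor {u : Cfsg.Sz F m} (hu : Good u) {k : ℕ}
    (hk : (2 ^ (2 * m + 1)) ^ 2 + 1 = Nat.card (Cen u) * k) : Nat.Coprime (Nat.card (Cen u)) k := by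
  have h1 := D.coprime_index hu
  have h2 : k ∣ (Cen u).index := by
    have h3 := (Cen u).card_mul_index
    rw [D.card_Sz, hk] at h3
    have h4 : (Cen u).index = (2 ^ (2 * m + 1)) ^ 2 * k * (2 ^ (2 * m + 1) - 1) := by
      apply Nat.eq_of_mul_eq_mul_left (show 0 < Nat.card (Cen u) from Nat.card_pos)
      rw [h3]; ring
    rw [h4]
    exact (Dvd.intro_left _ rfl).mul_right _
  exact Nat.Coprime.coprime_dvd_right h2 h1

/-- The two classes of tori of order dividing `q² + 1`. -/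
theorem tori : ∃ u v : Cfsg.Sz F m, Good u ∧ Good v ∧
    Nat.card (Cen u) = 2 ^ (2 * m + 1) + 1 + 2 ^ (m + 1) ∧ Nat.card (Cen v) + 2 ^ (m + 1) = 2 ^ (2 * m + 1) + 1 ∧
    Nat.card (Subgroup.normalizer (Cen u : Set (Cfsg.Sz F m))) = 4 * Nat.card (Cen u) ∧
    Nat.card (Subgroup.normalizer (Cen v : Set (Cfsg.Sz F m))) = 4 * Nat.card (Cen v) ∧
    ∀ x : Cfsg.Sz F m, (∀ p : Om F m, x • p ≠ p) → (∃ g, g⁻¹ * x * g ∈ Cen u) ∨ (∃ g, g⁻¹ * x * g ∈ Cen v) := by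
  have hq8 := D.q_ge
  -- numerical facts
  have h0 : 2 * Set.ncard {x : Cfsg.Sz F m | ∀ p : Om F m, x • p ≠ p} =
    (2 ^ (2 * m + 1)) ^ 3 * (2 ^ (2 * m + 1) - 1) ^ 2 := D.card_S0
  -- first torus
  have hne1 : (2 ^ (2 * m + 1)) ^ 2 + 1 ≠ 1 := by
    have : 0 < (2 ^ (2 * m + 1)) ^ 2 := by positivity
    omega
  obtain ⟨l1, hl1, hl1d⟩ := Nat.exists_prime_and_dvd hne1
  obtain ⟨u, hu, hul⟩ := D.exists_good hl1 hl1d
  obtain ⟨k, hk⟩ := D.card_cen_dvd hu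
  have hcop := D.cen_coprime_cofactor hu hk
  obtain ⟨w1, hw1, hw10, hN1, hc1⟩ := D.card_Cl hu
  have ha1 := D.cen_ge hu
  -- k ≠ 1
  have hk1 : k ≠ 1 := by
    rintro rfl
    have hall : {x : Cfsg.Sz F m | ∀ p : Om F m, x • p ≠ p} = Cl u := by
      apply Set.Subset.antisymm _ (D.Cl_sub hu)
      intro x hx
      refine ⟨by rintro rfl; exact hx D.inf (one_smul _ _), ?_⟩
      obtain ⟨v, hv, hxv⟩ := D.mem_good hx
      rcases D.coprime_or hu hv with h | ⟨g, hg⟩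
      · exfalso
        have h1 := D.card_cen_dvd hv
        rw [hk, mul_one] at h1
        have h2 := Nat.dvd_gcd h1 (dvd_refl (Nat.card (Cen v)))
        rw [h, Nat.dvd_one] at h2
        have := D.cen_ge hv
        omega
      · exact ⟨g, (hg x).1 hxv⟩
    rw [hall] at h0
    rw [mul_one] at hk
    rw [← hk, D.card_Sz] at hc1
    rw [show (2 ^ (2 * m + 1)) ^ 2 + 1 - 1 = (2 ^ (2 * m + 1)) ^ 2 from rfl] at hc1
    have hw4 : w1 ≤ 4 := Nat.le_of_dvd (by norm_num) hw1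
    generalize (Cl u).ncard = c at h0 hc1
    clear hk hall hcop ha1
    have hqe := q_even D
    generalize 2 ^ (2 * m + 1) = q at *
    obtain ⟨r, rfl⟩ : ∃ r, q = r + 1 := ⟨q - 1, by omega⟩
    rw [show r + 1 - 1 = r from rfl] at h0 hc1
    have e1 : c * w1 * ((r + 1) ^ 2 + 1) = ((r + 1) ^ 4 * r) * ((r + 1) ^ 2 + 1) := by
      calc _ = c * (w1 * ((r + 1) ^ 2 + 1)) := by ring
        _ = _ := hc1
        _ = _ := by ring
    have e2 := Nat.eq_of_mul_eq_mul_right (by positivity) e1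
    have e3 : ((r + 1) ^ 3 * r) * (r * w1) = ((r + 1) ^ 3 * r) * (2 * (r + 1)) := by
      calc _ = ((r + 1) ^ 3 * r ^ 2) * w1 := by ring
        _ = 2 * c * w1 := by rw [h0]
        _ = 2 * (c * w1) := by ring
        _ = 2 * ((r + 1) ^ 4 * r) := by rw [e2]
        _ = _ := by ring
    have hr : 7 ≤ r := by omega
    have e4 := Nat.eq_of_mul_eq_mul_left (by positivity) e3
    have : w1 = 1 ∨ w1 = 2 ∨ w1 = 3 ∨ w1 = 4 := by omega
    rcases this with rfl | rfl | rfl | rfl <;> omega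
  obtain ⟨l2, hl2, hl2d⟩ := Nat.exists_prime_and_dvd hk1
  obtain ⟨v, hv, hvl⟩ := D.exists_good hl2 (by rw [hk]; exact hl2d.mul_left _)
  have huv : Nat.Coprime (Nat.card (Cen u)) (Nat.card (Cen v)) := by
    rcases D.coprime_or hu hv with h | ⟨g, hg⟩
    · exact h
    · exfalso
      have h1 : orderOf v ∣ Nat.card (Cen u) := by
        apply D.orderOf_dvd_of_Cl (u := u) (x := v)
        exact ⟨by rintro rfl; exact absurd hv.1 (by rw [orderOf_one]; exact Nat.not_prime_one), g, (hg v).1 (mem_cen.2 rfl)⟩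
      rw [hvl] at h1
      have := Nat.dvd_gcd h1 hl2d
      rw [hcop, Nat.dvd_one] at this
      exact hl2.one_lt.ne' this
  obtain ⟨k2, hk2⟩ : Nat.card (Cen u) * Nat.card (Cen v) ∣ (2 ^ (2 * m + 1)) ^ 2 + 1 :=
    huv.mul_dvd_of_dvd_of_dvd (D.card_cen_dvd hu) (D.card_cen_dvd hv)
  have hk21 : k2 = 1 := by
    by_contra hne
    obtain ⟨l3, hl3, hl3d⟩ := Nat.exists_prime_and_dvd hne
    obtain ⟨w, hw, hwl⟩ := D.exists_good hl3 (by rw [hk2]; exact hl3d.mul_left _)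
    have key : ∀ t : Cfsg.Sz F m, Good t → ∀ j : ℕ, (2 ^ (2 * m + 1)) ^ 2 + 1 = Nat.card (Cen t) * j → l3 ∣ j →
        Nat.Coprime (Nat.card (Cen t)) (Nat.card (Cen w)) := by
      intro t ht j hj hlj
      have hcop' := D.cen_coprime_cofactor ht hj
      rcases D.coprime_or ht hw with h | ⟨g, hg⟩
      · exact h
      · exfalso
        have h1 : orderOf w ∣ Nat.card (Cen t) := by
          apply D.orderOf_dvd_of_Cl (u := t) (x := w)
          exact ⟨by rintro rfl; exact absurd hw.1 (by rw [orderOf_one]; exact Nat.not_prime_one), g, (hg w).1 (mem_cen.2 rfl)⟩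
        rw [hwl] at h1
        have := Nat.dvd_gcd h1 hlj
        rw [hcop', Nat.dvd_one] at this
        exact hl3.one_lt.ne' this
    exact D.not_three hu hv hw huv (key u hu (Nat.card (Cen v) * k2) (by rw [hk2]; ring) (hl3d.mul_left _))
      (key v hv (Nat.card (Cen u) * k2) (by rw [hk2]; ring) (hl3d.mul_left _))
  subst hk21
  rw [mul_one] at hk2
  obtain ⟨w2, hw2, hw20, hN2, hc2⟩ := D.card_Cl hv
  have ha2 := D.cen_ge hv
  -- coverage
  have hcov : ∀ x : Cfsg.Sz F m, (∀ p : Om F m, x • p ≠ p) →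
      (∃ g, g⁻¹ * x * g ∈ Cen u) ∨ (∃ g, g⁻¹ * x * g ∈ Cen v) := by
    intro x hx
    obtain ⟨t, ht, hxt⟩ := D.mem_good hx
    rcases D.coprime_or hu ht with h | ⟨g, hg⟩
    · rcases D.coprime_or hv ht with h' | ⟨g, hg⟩
      · exfalso
        have h1 := D.card_cen_dvd ht
        rw [hk2] at h1
        have h2 : Nat.Coprime (Nat.card (Cen u) * Nat.card (Cen v)) (Nat.card (Cen t)) := h.mul_left h'
        have h3 := Nat.dvd_gcd h1 (dvd_refl (Nat.card (Cen t)))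
        rw [h2, Nat.dvd_one] at h3
        have := D.cen_ge ht
        omega
      · exact Or.inr ⟨g, (hg x).1 hxt⟩
    · exact Or.inl ⟨g, (hg x).1 hxt⟩
  have hall : {x : Cfsg.Sz F m | ∀ p : Om F m, x • p ≠ p} = Cl u ∪ Cl v := by
    apply Set.Subset.antisymm _ (Set.union_subset (D.Cl_sub hu) (D.Cl_sub hv))
    intro x hx
    have hx1 : x ≠ 1 := by rintro rfl; exact hx D.inf (one_smul _ _)
    rcases hcov x hx with h | h
    · exact Or.inl ⟨hx1, h⟩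
    · exact Or.inr ⟨hx1, h⟩
  rw [hall, Set.ncard_union_eq (D.Cl_disjoint huv)] at h0
  rw [D.card_Sz] at hc1 hc2
  obtain ⟨rfl, rfl, hsum⟩ := tori_num _ _ _ _ _ _ _ hq8 ha1 ha2 hk2 hw10 hw20 hw1 hw2 h0 hc1 hc2
  -- solve the quadratic
  have hquad : ∀ a b q s : ℕ, a * b = q ^ 2 + 1 → a + b = 2 * q + 2 → s ^ 2 = 2 * q → b ≤ a →
      a = q + 1 + s ∧ b + s = q + 1 := by
    intro a b q s h1 h2 h3 h4
    obtain ⟨d, rfl⟩ := Nat.exists_eq_add_of_le h4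
    have e : (2 * s) ^ 2 = d ^ 2 := by nlinarith
    have e' : 2 * s = d := Nat.pow_left_injective (n := 2) (by norm_num) e
    subst e'
    constructor <;> omega
  have hs : (2 ^ (m + 1)) ^ 2 = 2 * 2 ^ (2 * m + 1) := by
    rw [← pow_mul, ← pow_succ']; congr 1; ring
  rcases le_total (Nat.card (Cen v)) (Nat.card (Cen u)) with hle | hle
  · obtain ⟨h1, h2⟩ := hquad _ _ _ _ hk2.symm hsum hs hle
    exact ⟨u, v, hu, hv, h1, h2, hN1, hN2, hcov⟩
  · obtain ⟨h1, h2⟩ := hquad _ _ _ _ ((mul_comm _ _).trans hk2.symm) ((add_comm _ _).trans hsum) hs hle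
    exact ⟨v, u, hv, hu, h1, h2, hN2, hN1, fun x hx => (hcov x hx).symm⟩

end Dat

end Cfsg.Agent.H8.Suz
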