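import Mathlib
import Cfsg.Prelude.Def_LieExceptional
import Cfsg.Agent.H8.SuzTorus

set_option autoImplicit false

/-! The partition of the Suzuki group. -/

namespace Cfsg.Agent.H8.Suz

open Matrix MulAction

variable {F : Type*} [Field F] [Fintype F] {m : ℕ} (D : Dat F m)

/-- the possible orders of the cyclic pieces -/
def TorOrd (m k : ℕ) : Prop :=
  k = 2 ^ (2 * m + 1) - 1 ∨ k = 2 ^ (2 * m + 1) + 2 ^ (m + 1) + 1 ∨ k = 2 ^ (2 * m + 1) - 2 ^ (m + 1) + 1

namespace Dat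

include D

theorem pow_lt : 2 * 2 ^ (m + 1) ≤ 2 ^ (2 * m + 1) := by
  have hq := D.q_ge
  have hm : 1 ≤ m := by
    by_contra h
    have : m = 0 := by omega
    subst this
    norm_num at hq
  rw [← pow_succ']
  exact Nat.pow_le_pow_right (by norm_num) (by omega)

theorem torOrd_odd {k : ℕ} (hk : TorOrd m k) : ¬ 2 ∣ k := by
  have h1 := D.q_ge
  have h2 := D.pow_lt
  have h3 : 2 ^ (m + 1) = 2 * 2 ^ m := pow_succ' 2 m
  have h4 : 2 ^ (2 * m + 1) = 2 * 2 ^ (2 * m) := pow_succ' 2 (2 * m)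
  rcases hk with h | h | h <;> omega

theorem torOrd_gt {k : ℕ} (hk : TorOrd m k) : 1 < k := by
  have h1 := D.q_ge
  have h2 := D.pow_lt
  rcases hk with h | h | h <;> omega

theorem tor_mul : (2 ^ (2 * m + 1) + 2 ^ (m + 1) + 1) * (2 ^ (2 * m + 1) - 2 ^ (m + 1) + 1) = (2 ^ (2 * m + 1)) ^ 2 + 1 := by
  have h2 := D.pow_lt
  have hs : (2 ^ (m + 1)) ^ 2 = 2 * 2 ^ (2 * m + 1) := by
    rw [← pow_mul, ← pow_succ']; congr 1; ring
  generalize 2 ^ (2 * m + 1) = q at *
  generalize 2 ^ (m + 1) = s at *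
  obtain ⟨d, rfl⟩ := Nat.exists_eq_add_of_le (show s ≤ q by omega)
  rw [show s + d - s = d by omega]
  nlinarith

theorem torOrd_coprime {k l : ℕ} (hk : TorOrd m k) (hl : TorOrd m l) (hkl : k ≠ l) : Nat.Coprime k l := by
  have hmul := D.tor_mul
  have hlt := D.pow_lt
  have hge := D.q_ge
  have key1 : ∀ j, j ∣ (2 ^ (2 * m + 1)) ^ 2 + 1 → Nat.Coprime (2 ^ (2 * m + 1) - 1) j := by
    intro j hj
    apply Nat.coprime_of_dvd
    intro p hp h1 h2
    exact D.coprime_q hp (h2.trans hj) (h1.mul_left _)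
  have d1 : (2 ^ (2 * m + 1) + 2 ^ (m + 1) + 1) ∣ (2 ^ (2 * m + 1)) ^ 2 + 1 := ⟨_, hmul.symm⟩
  have d2 : (2 ^ (2 * m + 1) - 2 ^ (m + 1) + 1) ∣ (2 ^ (2 * m + 1)) ^ 2 + 1 := Dvd.intro_left _ hmul
  have key2 : Nat.Coprime (2 ^ (2 * m + 1) + 2 ^ (m + 1) + 1) (2 ^ (2 * m + 1) - 2 ^ (m + 1) + 1) := by
    apply Nat.coprime_of_dvd
    intro p hp h1 h2
    have h3 := Nat.dvd_sub h1 h2
    have h4 : (2 ^ (2 * m + 1) + 2 ^ (m + 1) + 1) - (2 ^ (2 * m + 1) - 2 ^ (m + 1) + 1) = 2 ^ (m + 2) := by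
      rw [pow_succ 2 (m + 1)]; omega
    rw [h4] at h3
    have h5 := (Nat.prime_dvd_prime_iff_eq hp Nat.prime_two).1 (hp.dvd_of_dvd_pow h3)
    subst h5
    exact D.torOrd_odd (Or.inr (Or.inl rfl)) h1
  rcases hk with rfl | rfl | rfl <;> rcases hl with rfl | rfl | rfl
  · exact absurd rfl hkl
  · exact key1 _ d1
  · exact key1 _ d2
  · exact (key1 _ d1).symm
  · exact absurd rfl hkl
  · exact key2
  · exact (key1 _ d2).symm
  · exact key2.symm
  · exact absurd rfl hkl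

/-- Conjugate centralisers. -/
theorem card_cen_conj {G : Type*} [Group G] (x g : G) :
    Nonempty (Subgroup.centralizer ({x} : Set G) ≃* Subgroup.centralizer ({g⁻¹ * x * g} : Set G)) := by
  refine ⟨{ toFun := fun y => ⟨g⁻¹ * y * g, ?_⟩, invFun := fun y => ⟨g * y * g⁻¹, ?_⟩, left_inv := ?_, right_inv := ?_, map_mul' := ?_ }⟩
  · have h := mem_cen.1 y.2
    rw [mem_cen]
    calc g⁻¹ * x * g * (g⁻¹ * y * g) = g⁻¹ * (x * y) * g := by group
      _ = g⁻¹ * (y * x) * g := by rw [h]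
      _ = _ := by group
  · have h := mem_cen.1 y.2
    rw [mem_cen]
    calc x * (g * y * g⁻¹) = g * (g⁻¹ * x * g * y) * g⁻¹ := by group
      _ = g * (y * (g⁻¹ * x * g)) * g⁻¹ := by rw [h]
      _ = _ := by group
  · intro y; apply Subtype.ext; show g * (g⁻¹ * y * g) * g⁻¹ = y; group
  · intro y; apply Subtype.ext; show g⁻¹ * (g * y * g⁻¹) * g = y; group
  · intro y z; apply Subtype.ext; show g⁻¹ * (y * z) * g = (g⁻¹ * y * g) * (g⁻¹ * z * g); group

theorem cen_H {u : Fˣ} (hu : u ≠ 1) : Subgroup.centralizer ({D.hh u} : Set (Cfsg.Sz F m)) = D.H := by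
  ext x
  rw [mem_cen]
  constructor
  · exact D.centralizer_H hu
  · rintro ⟨v, rfl⟩
    rw [D.hh_mul, D.hh_mul, mul_comm]

/-- Trichotomy of nontrivial elements. -/
theorem elt_cases {x : Cfsg.Sz F m} (hx : x ≠ 1) : (∃ g, g⁻¹ * x * g ∈ D.U) ∨
    (IsCyclic (Cen x) ∧ TorOrd m (Nat.card (Cen x))) := by
  by_cases hfix : ∃ p : Om F m, x • p = p
  · rcases (D.fixed_iff hx).1 hfix with h | ⟨g, u, hu⟩
    · exact Or.inl h
    · right
      have hu1 : u ≠ 1 := by
        rintro rfl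
        apply hx
        have : x = g * (g⁻¹ * x * g) * g⁻¹ := by group
        rw [this, hu, D.hh_one]; group
      obtain ⟨e⟩ := D.card_cen_conj x g
      rw [hu] at e
      have hH := D.cen_H hu1
      have hc := D.H_cyclic
      rw [← hH] at hc
      refine ⟨isCyclic_of_surjective e.symm.toMonoidHom e.symm.surjective, ?_⟩
      rw [Nat.card_congr e.toEquiv]
      left
      rw [← D.card_H, ← hH]
  · push Not at hfix
    right
    obtain ⟨u, v, hu, hv, hcu, hcv, -, -, hcov⟩ := D.tori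
    have hlt := D.pow_lt
    have key : ∀ t : Cfsg.Sz F m, Good t → TorOrd m (Nat.card (Cen t)) → (∃ g, g⁻¹ * x * g ∈ Cen t) →
        (IsCyclic (Cen x) ∧ TorOrd m (Nat.card (Cen x))) := by
      rintro t ht hto ⟨g, hg⟩
      have hne : g⁻¹ * x * g ≠ 1 := by
        intro h
        apply hx
        have : x = g * (g⁻¹ * x * g) * g⁻¹ := by group
        rw [this, h]; group
      obtain ⟨e⟩ := D.card_cen_conj x g
      have h1 := D.good_centralizer_eq ht (mem_cen.1 hg) hne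
      rw [h1] at e
      have hc := D.good_cyclic ht
      refine ⟨isCyclic_of_surjective e.symm.toMonoidHom e.symm.surjective, ?_⟩
      rw [Nat.card_congr e.toEquiv]
      exact hto
    rcases hcov x hfix with h | h
    · exact key u hu (by rw [hcu]; right; left; omega) h
    · exact key v hv (by right; right; omega) h

/-- Two-power order versus odd. -/
theorem orderOf_U {x : Cfsg.Sz F m} (hx : x ≠ 1) (h : ∃ g, g⁻¹ * x * g ∈ D.U) : 2 ∣ orderOf x := by
  obtain ⟨g, hg⟩ := h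
  obtain ⟨n, hn⟩ := D.U_isPGroup ⟨_, hg⟩
  have h1 : (g⁻¹ * x * g) ^ 2 ^ n = 1 := congrArg Subtype.val hn
  have h2 : orderOf (g⁻¹ * x * g) = orderOf x := by
    have := orderOf_injective (MulAut.conj g⁻¹).toMonoidHom (MulAut.conj g⁻¹).injective x
    simpa using this
  have h3 := orderOf_dvd_of_pow_eq_one h1
  rw [h2, Nat.dvd_prime_pow Nat.prime_two] at h3
  obtain ⟨k, -, hk⟩ := h3
  rw [hk]
  apply dvd_pow_self
  rintro rfl
  rw [pow_zero, orderOf_eq_one_iff] at hk
  exact hx hk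

/-- A cyclic subgroup of torus order containing `x ≠ 1` is the centraliser of `x`. -/
theorem eq_cen {x : Cfsg.Sz F m} (hx : x ≠ 1) {A : Subgroup (Cfsg.Sz F m)} (hA : IsCyclic A) (hAo : TorOrd m (Nat.card A))
    (hxA : x ∈ A) : A = Cen x := by
  have hle : A ≤ Cen x := fun y hy => mem_cen.2 (comm_of_cyclic hxA hy)
  rcases D.elt_cases hx with h | ⟨-, h⟩
  · exfalso
    have h1 := D.orderOf_U hx h
    have h2 : orderOf x ∣ Nat.card A := by
      have : orderOf (⟨x, hxA⟩ : A) = orderOf x := by rw [← Subgroup.orderOf_coe]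
      rw [← this]; exact orderOf_dvd_natCard _
    exact D.torOrd_odd hAo (h1.trans h2)
  · have hdvd := Subgroup.card_dvd_of_le hle
    have heq : Nat.card A = Nat.card (Cen x) := by
      by_contra hne
      have h1 := D.torOrd_coprime hAo h hne
      have h2 := Nat.dvd_gcd (dvd_refl _) hdvd
      rw [h1, Nat.dvd_one] at h2
      have := D.torOrd_gt hAo
      omega
    exact Subgroup.eq_of_le_of_card_ge hle heq.ge

end Dat

end Cfsg.Agent.H8.Suz
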