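import Mathlib
import Cfsg.Prelude.Def_LieExceptional
import Cfsg.Agent.H8.SuzPart

set_option autoImplicit false

/-! Commuting nontrivial elements have the same fixed points and the same torus. -/

namespace Cfsg.Agent.H8.Suz

open Matrix MulAction

variable {F : Type*} [Field F] [Fintype F] {m : ℕ} (D : Dat F m)

/-- Fixed points. -/
abbrev Fx (x : Cfsg.Sz F m) : Set (Dat.Om F m) := {p | x • p = p}

namespace Dat

include D

theorem ne_one_of_conj {x g : Cfsg.Sz F m} (hx : x ≠ 1) : g⁻¹ * x * g ≠ 1 := by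
  intro h
  apply hx
  have : x = g * (g⁻¹ * x * g) * g⁻¹ := by group
  rw [this, h]; group

/-- fixed points of an element conjugate into `U` -/
theorem Fx_U {x g : Cfsg.Sz F m} (hx : x ≠ 1) (h : g⁻¹ * x * g ∈ D.U) : Fx x = {g • D.inf} := by
  obtain ⟨a, b, hab⟩ := h
  have hne : ¬ (a = 0 ∧ b = 0) := by
    rintro ⟨rfl, rfl⟩
    rw [D.tt_zero] at hab
    exact D.ne_one_of_conj hx hab
  ext p
  constructor
  · intro hp
    have : D.tt a b • (g⁻¹ • p) = g⁻¹ • p := by
      rw [← hab, mul_smul, mul_smul, smul_inv_smul, show x • p = p from hp]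
    have := D.tt_fix hne this
    rw [inv_smul_eq_iff] at this; exact this
  · intro hp
    rw [Set.mem_singleton_iff] at hp
    subst hp
    have := congrArg (fun t => g • t) (show (g⁻¹ * x * g) • D.inf = D.inf by rw [hab, D.tt_inf])
    show x • (g • D.inf) = g • D.inf
    simpa [mul_smul] using this

theorem Fx_H {x g : Cfsg.Sz F m} (hx : x ≠ 1) (h : g⁻¹ * x * g ∈ D.H) : Fx x = {g • D.inf, g • D.pt 0 0} := by
  obtain ⟨u, hu⟩ := h
  have hne : u ≠ 1 := by
    rintro rfl
    rw [D.hh_one] at hu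
    exact D.ne_one_of_conj hx hu
  ext p
  constructor
  · intro hp
    have : D.hh u • (g⁻¹ • p) = g⁻¹ • p := by
      rw [← hu, mul_smul, mul_smul, smul_inv_smul, show x • p = p from hp]
    rcases D.hh_fix_pts hne this with h | h
    · left; rw [inv_smul_eq_iff] at h; exact h
    · right; rw [inv_smul_eq_iff] at h; exact h
  · have key : ∀ r : Om F m, D.hh u • r = r → x • (g • r) = g • r := by
      intro r hr
      have := congrArg (fun t => g • t) (show (g⁻¹ * x * g) • r = r by rw [hu, hr])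
      simpa [mul_smul] using this
    rintro (hp | hp)
    · subst hp; exact key _ (D.hh_inf u)
    · rw [Set.mem_singleton_iff] at hp; subst hp; exact key _ (D.hh_zero u)

/-- Elements commuting with `x`: same type. -/
theorem comm_same {x z : Cfsg.Sz F m} (hx : x ≠ 1) (hz : z ≠ 1) (h : x * z = z * x) :
    Fx x = Fx z ∧ (Fx x = ∅ → Cen x = Cen z) := by
  have hconj : ∀ g : Cfsg.Sz F m, (g⁻¹ * x * g) * (g⁻¹ * z * g) = (g⁻¹ * z * g) * (g⁻¹ * x * g) := by
    intro g
    calc (g⁻¹ * x * g) * (g⁻¹ * z * g) = g⁻¹ * (x * z) * g := by group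
      _ = g⁻¹ * (z * x) * g := by rw [h]
      _ = _ := by group
  by_cases hfix : ∃ p : Om F m, x • p = p
  · have hne : Fx x ≠ ∅ := by
      obtain ⟨p, hp⟩ := hfix
      intro h'
      have : p ∈ Fx x := hp
      rw [h'] at this; exact this
    refine ⟨?_, fun h => absurd h hne⟩
    rcases (D.fixed_iff hx).1 hfix with ⟨g, hg⟩ | ⟨g, hg⟩
    · rw [D.Fx_U hx hg, D.Fx_U hz (D.centralizer_U hg (D.ne_one_of_conj hx) (hconj g))]
    · obtain ⟨u, hu⟩ := id hg
      have hu1 : u ≠ 1 := by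
        rintro rfl
        rw [D.hh_one] at hu
        exact D.ne_one_of_conj hx hu
      rw [D.Fx_H hx hg, D.Fx_H hz (D.centralizer_H hu1 (by rw [← hu]; exact hconj g))]
  · push Not at hfix
    obtain ⟨t, ht, hxt⟩ := D.mem_good hfix
    have e1 : Cen x = Cen t := D.good_centralizer_eq ht (mem_cen.1 hxt) hx
    have hzt : z ∈ Cen t := by rw [← e1]; exact mem_cen.2 h
    have e2 : Cen z = Cen t := D.good_centralizer_eq ht (mem_cen.1 hzt) hz
    refine ⟨?_, fun _ => e1.trans e2.symm⟩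
    have h1 : Fx x = ∅ := Set.eq_empty_of_forall_notMem (fun p hp => hfix p hp)
    have h2 : Fx z = ∅ := Set.eq_empty_of_forall_notMem
      (fun p hp => D.good_no_fixed_of_comm ht (mem_cen.1 hzt) hz p hp)
    rw [h1, h2]

theorem exists_Fx_singleton (p : Om F m) : ∃ x : Cfsg.Sz F m, x ≠ 1 ∧ Fx x = {p} := by
  obtain ⟨g, rfl⟩ := D.trans_inf p
  have hne : D.tt 0 1 ≠ 1 := by
    intro h
    rw [← D.tt_zero] at h
    exact one_ne_zero (D.tt_inj h).2
  have hne' : g * D.tt 0 1 * g⁻¹ ≠ 1 := by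
    intro h
    rw [mul_inv_eq_one] at h
    exact hne (mul_left_cancel (a := g) (by rw [h, mul_one]))
  refine ⟨g * D.tt 0 1 * g⁻¹, hne', D.Fx_U hne' ?_⟩
  have : g⁻¹ * (g * D.tt 0 1 * g⁻¹) * g = D.tt 0 1 := by group
  rw [this]
  exact ⟨0, 1, rfl⟩

theorem exists_Fx_pair : ∃ x : Cfsg.Sz F m, x ≠ 1 ∧ Fx x = {D.inf, D.pt 0 0} := by
  obtain ⟨u, hu⟩ := D.exists_unit
  have hne : D.hh u ≠ 1 := by
    intro h
    rw [← D.hh_one] at h
    exact hu (D.hh_inj h)
  refine ⟨D.hh u, hne, ?_⟩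
  have := D.Fx_H (g := 1) hne ⟨u, by group⟩
  rwa [one_smul, one_smul] at this

end Dat

end Cfsg.Agent.H8.Suz
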