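import Mathlib
import Cfsg.Prelude.Def_LieExceptional
import Cfsg.Agent.H8.SuzLabel
import Cfsg.Agent.H8.OddTor

set_option autoImplicit false

/-! Solvable subgroups of the Suzuki group. -/

namespace Cfsg.Agent.H8.Suz

open Matrix MulAction Cfsg.Agent.H8.OddTor

/-- Solvable if commutators lie in a solvable subgroup. -/
theorem solvable_of_commutators {G : Type*} [Group G] (K : Subgroup G) (hK : Group.IsSolvable K)
    (h : ∀ a b : G, a * b * a⁻¹ * b⁻¹ ∈ K) : Group.IsSolvable G := by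
  have h1 : commutator G ≤ K := by
    rw [commutator_def, Subgroup.commutator_le]
    intro a _ b _
    rw [commutatorElement_def]
    exact h a b
  refine solvable_of_ker_le_range (K.subtype) (Abelianization.of (G := G)) ?_
  rw [Abelianization.ker_of]
  simpa using h1

theorem cen_map {G : Type*} [Group G] (x g : G) : Subgroup.centralizer ({x} : Set G) =
    (Subgroup.centralizer ({g⁻¹ * x * g} : Set G)).map (MulAut.conj g).toMonoidHom := by
  ext y
  rw [Subgroup.mem_map]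
  constructor
  · intro hy
    refine ⟨g⁻¹ * y * g, ?_, ?_⟩
    · have h := mem_cen.1 hy
      apply mem_cen.2
      calc g⁻¹ * x * g * (g⁻¹ * y * g) = g⁻¹ * (x * y) * g := by group
        _ = g⁻¹ * (y * x) * g := by rw [h]
        _ = _ := by group
    · show g * (g⁻¹ * y * g) * g⁻¹ = y
      group
  · rintro ⟨z, hz, rfl⟩
    have h := mem_cen.1 hz
    apply mem_cen.2
    show x * (g * z * g⁻¹) = g * z * g⁻¹ * x
    calc x * (g * z * g⁻¹) = g * (g⁻¹ * x * g * z) * g⁻¹ := by group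
      _ = g * (z * (g⁻¹ * x * g)) * g⁻¹ := by rw [h]
      _ = _ := by group

theorem card_norm_map {G : Type*} [Group G] (C : Subgroup G) (g : G) :
    Nat.card (Subgroup.normalizer ((C.map (MulAut.conj g).toMonoidHom : Subgroup G) : Set G)) =
      Nat.card (Subgroup.normalizer (C : Set G)) := by
  rw [← Subgroup.map_equiv_normalizer_eq]
  exact Nat.card_congr ((Subgroup.equivMapOfInjective _ _ (MulAut.conj g).injective).symm).toEquiv

theorem card_map_conj {G : Type*} [Group G] (C : Subgroup G) (g : G) :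
    Nat.card (C.map (MulAut.conj g).toMonoidHom : Subgroup G) = Nat.card C :=
  Nat.card_congr ((Subgroup.equivMapOfInjective _ _ (MulAut.conj g).injective).symm).toEquiv

variable {F : Type*} [Field F] [Fintype F] {m : ℕ} (D : Dat F m)

namespace Dat

include D

theorem isOT_of {x : Cfsg.Sz F m} (hx : x ≠ 1) (hc : IsCyclic (Cen x)) (ho : TorOrd m (Nat.card (Cen x))) {w : ℕ}
    (hw : w = 2 ∨ w = 4) (hn : Nat.card (Subgroup.normalizer (Cen x : Set (Cfsg.Sz F m))) = w * Nat.card (Cen x)) :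
    IsOT (Cen x) w where
  comm a ha b hb := comm_of_cyclic ha hb
  odd := D.torOrd_odd ho
  cen c hc' hc1 y hy := by
    rw [D.eq_cen hc1 hc ho hc']
    exact mem_cen.2 hy
  w24 := hw
  norm := hn

/-- The three kinds of nontrivial elements. -/
theorem tor_cases {x : Cfsg.Sz F m} (hx : x ≠ 1) : (∃ g, g⁻¹ * x * g ∈ D.U) ∨
    ((∃ g, g⁻¹ * x * g ∈ D.H) ∧ IsOT (Cen x) 2 ∧ Nat.card (Cen x) = 2 ^ (2 * m + 1) - 1) ∨
    ((∀ p : Om F m, x • p ≠ p) ∧ IsOT (Cen x) 4 ∧
      (Nat.card (Cen x) = 2 ^ (2 * m + 1) + 2 ^ (m + 1) + 1 ∨ Nat.card (Cen x) = 2 ^ (2 * m + 1) - 2 ^ (m + 1) + 1)) := by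
  by_cases hfix : ∃ p : Om F m, x • p = p
  · rcases (D.fixed_iff hx).1 hfix with h | ⟨g, u, hu⟩
    · exact Or.inl h
    · right; left
      have hu1 : u ≠ 1 := by
        rintro rfl
        rw [D.hh_one] at hu
        exact D.ne_one_of_conj hx hu
      have hH := D.cen_H hu1
      have e1 : Cen x = D.H.map (MulAut.conj g).toMonoidHom := by
        rw [← hH, ← hu]; exact cen_map x g
      have hcard : Nat.card (Cen x) = 2 ^ (2 * m + 1) - 1 := by
        rw [e1, card_map_conj, D.card_H]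
      have hcyc : IsCyclic (Cen x) := by
        rw [e1]
        have := D.H_cyclic
        exact isCyclic_of_surjective (D.H.equivMapOfInjective _ (MulAut.conj g).injective).toMonoidHom
          (D.H.equivMapOfInjective _ (MulAut.conj g).injective).surjective
      refine ⟨⟨g, u, hu⟩, D.isOT_of hx hcyc (Or.inl hcard) (Or.inl rfl) ?_, hcard⟩
      rw [hcard, e1, card_norm_map, D.card_normalizer_H]
  · push Not at hfix
    right; right
    refine ⟨hfix, ?_⟩
    obtain ⟨u, v, hu, hv, hcu, hcv, hnu, hnv, hcov⟩ := D.tori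
    have hlt := D.pow_lt
    have key : ∀ t : Cfsg.Sz F m, Good t → TorOrd m (Nat.card (Cen t)) →
        Nat.card (Subgroup.normalizer (Cen t : Set (Cfsg.Sz F m))) = 4 * Nat.card (Cen t) → (∃ g, g⁻¹ * x * g ∈ Cen t) →
        IsOT (Cen x) 4 ∧ Nat.card (Cen x) = Nat.card (Cen t) := by
      rintro t ht hto htn ⟨g, hg⟩
      have h1 : Cen (g⁻¹ * x * g) = Cen t := D.good_centralizer_eq ht (mem_cen.1 hg) (D.ne_one_of_conj hx)
      have e1 : Cen x = (Cen t).map (MulAut.conj g).toMonoidHom := by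
        rw [← h1]; exact cen_map x g
      have hcard : Nat.card (Cen x) = Nat.card (Cen t) := by
        rw [e1, card_map_conj]
      have hcyc : IsCyclic (Cen x) := by
        rw [e1]
        have := D.good_cyclic ht
        exact isCyclic_of_surjective ((Cen t).equivMapOfInjective _ (MulAut.conj g).injective).toMonoidHom
          ((Cen t).equivMapOfInjective _ (MulAut.conj g).injective).surjective
      refine ⟨D.isOT_of hx hcyc (by rw [hcard]; exact hto) (Or.inr rfl) ?_, hcard⟩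
      rw [hcard, ← htn, e1, card_norm_map]
    rcases hcov x hfix with h | h
    · have h1 : Nat.card (Cen u) = 2 ^ (2 * m + 1) + 2 ^ (m + 1) + 1 := by omega
      obtain ⟨h2, h3⟩ := key u hu (Or.inr (Or.inl h1)) hnu h
      exact ⟨h2, Or.inl (h3.trans h1)⟩
    · have h1 : Nat.card (Cen v) = 2 ^ (2 * m + 1) - 2 ^ (m + 1) + 1 := by omega
      obtain ⟨h2, h3⟩ := key v hv (Or.inr (Or.inr h1)) hnv h
      exact ⟨h2, Or.inr (h3.trans h1)⟩

/-- Torus elements. -/
theorem isOT_of_not_U {x : Cfsg.Sz F m} (hx : x ≠ 1) (h : ¬ ∃ g, g⁻¹ * x * g ∈ D.U) : ∃ w, IsOT (Cen x) w := by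
  rcases D.tor_cases hx with h1 | ⟨-, h1, -⟩ | ⟨-, h1, -⟩
  · exact absurd h1 h
  · exact ⟨2, h1⟩
  · exact ⟨4, h1⟩

/-- In an `IsOT` centraliser, all nontrivial elements have the same centraliser. -/
theorem cen_eq_of {x y : Cfsg.Sz F m} {w : ℕ} (h : IsOT (Cen x) w) (hy : y ∈ Cen x) (hy1 : y ≠ 1) : Cen y = Cen x := by
  apply le_antisymm
  · intro z hz
    exact h.cen y hy hy1 z (mem_cen.1 hz)
  · intro z hz
    exact mem_cen.2 (h.comm y hy z hz)

theorem mem_norm_of {x n : Cfsg.Sz F m} {w : ℕ} (h : IsOT (Cen x) w) (hx : x ≠ 1) (hn : n * x * n⁻¹ ∈ Cen x) :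
    n ∈ Subgroup.normalizer (Cen x : Set (Cfsg.Sz F m)) := by
  have hne : n * x * n⁻¹ ≠ 1 := by
    intro h'
    rw [mul_inv_eq_one] at h'
    exact hx (mul_left_cancel (a := n) (by rw [h', mul_one]))
  have e1 := D.cen_eq_of h hn hne
  have e2 := cen_map (n * x * n⁻¹) n
  have e3 : n⁻¹ * (n * x * n⁻¹) * n = x := by group
  rw [e3] at e2
  rw [Subgroup.mem_normalizer_iff_map_conj_eq]
  exact e2.symm.trans e1

/-- A solvable subgroup fixes a point or normalises a torus. -/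
theorem solvable_sub {S : Subgroup (Cfsg.Sz F m)} (hS : Group.IsSolvable S) (hS1 : S ≠ ⊥) :
    (∃ p : Om F m, ∀ s ∈ S, s • p = p) ∨
    (∃ x : Cfsg.Sz F m, x ≠ 1 ∧ x ∈ S ∧ (¬ ∃ g, g⁻¹ * x * g ∈ D.U) ∧ S ≤ Subgroup.normalizer (Cen x : Set (Cfsg.Sz F m))) := by
  -- last nontrivial derived subgroup
  obtain ⟨n, hn⟩ := Group.IsSolvable.solvable (G := S)
  have hex : ∃ n, derivedSeries S n = ⊥ := ⟨n, hn⟩
  classical
  have hk := Nat.find_spec hex
  set k := Nat.find hex with hkdef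
  have hk0 : k ≠ 0 := by
    intro h0
    rw [h0, derivedSeries_zero] at hk
    apply hS1
    rw [eq_bot_iff]
    intro s hs
    have : (⟨s, hs⟩ : S) ∈ (⊤ : Subgroup S) := trivial
    rw [hk] at this
    exact congrArg Subtype.val (Subgroup.mem_bot.1 this)
  obtain ⟨j, hj⟩ := Nat.exists_eq_succ_of_ne_zero hk0
  have hj1 : derivedSeries S j ≠ ⊥ := Nat.find_min hex (by omega)
  rw [hj, derivedSeries_succ, Subgroup.commutator_eq_bot_iff_le_centralizer] at hk
  obtain ⟨⟨z, hz⟩, hz1⟩ := Subgroup.ne_bot_iff_exists_ne_one.1 hj1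
  have hz1' : (z : Cfsg.Sz F m) ≠ 1 := fun h => hz1 (Subtype.ext (Subtype.ext h))
  have hconj : ∀ s : S, s * z * s⁻¹ ∈ derivedSeries S j := fun s =>
    Subgroup.Normal.conj_mem inferInstance z hz s
  have hcomm : ∀ s ∈ S, (z : Cfsg.Sz F m) * (s * z * s⁻¹) = (s * z * s⁻¹) * z := by
    intro s hs
    have h1 := Subgroup.mem_centralizer_iff.1 (hk hz) _ (hconj ⟨s, hs⟩)
    exact (congrArg Subtype.val h1).symm
  have hne : ∀ s : Cfsg.Sz F m, s * (z : Cfsg.Sz F m) * s⁻¹ ≠ 1 := by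
    intro s h'
    rw [mul_inv_eq_one] at h'
    exact hz1' (mul_left_cancel (a := s) (by rw [h', mul_one]))
  by_cases hU : ∃ g, g⁻¹ * (z : Cfsg.Sz F m) * g ∈ D.U
  · left
    obtain ⟨g, hg⟩ := hU
    have hF := D.Fx_U hz1' hg
    refine ⟨g • D.inf, fun s hs => ?_⟩
    have h1 := (D.comm_same hz1' (hne s) (hcomm s hs)).1
    rw [hF] at h1
    have h2 : s • (g • D.inf) ∈ Fx (s * (z : Cfsg.Sz F m) * s⁻¹) := by
      have h3 : (z : Cfsg.Sz F m) • (g • D.inf) = g • D.inf := by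
        have : g • D.inf ∈ Fx (z : Cfsg.Sz F m) := by rw [hF]; rfl
        exact this
      show (s * (z : Cfsg.Sz F m) * s⁻¹) • (s • (g • D.inf)) = s • (g • D.inf)
      rw [mul_smul, inv_smul_smul, mul_smul, h3]
    rw [← h1] at h2
    exact h2
  · right
    obtain ⟨w, hw⟩ := D.isOT_of_not_U hz1' hU
    exact ⟨z, hz1', z.2, hU, fun s hs => D.mem_norm_of hw hz1' (mem_cen.2 (hcomm s hs))⟩

theorem solvable_B : Group.IsSolvable D.B := by
  have hle : D.U ≤ D.B := by rw [← D.normalizer_U]; exact Subgroup.le_normalizer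
  have hU : Group.IsSolvable (D.U.subgroupOf D.B) := by
    have := D.U_nilpotent
    have h2 : Group.IsSolvable D.U := inferInstance
    exact solvable_of_surjective (f := (Subgroup.subgroupOfEquivOfLe hle).symm.toMonoidHom)
      (Subgroup.subgroupOfEquivOfLe hle).symm.surjective
  apply solvable_of_commutators (D.U.subgroupOf D.B) hU
  intro a b
  rw [Subgroup.mem_subgroupOf]
  show (a : Cfsg.Sz F m) * b * (a : Cfsg.Sz F m)⁻¹ * (b : Cfsg.Sz F m)⁻¹ ∈ D.U
  obtain ⟨c, d, u, ha⟩ := D.mem_B.1 a.2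
  obtain ⟨c', d', u', hb⟩ := D.mem_B.1 b.2
  rw [ha, hb]
  have hcomm : D.hh u * D.hh u' = D.hh u' * D.hh u := by rw [D.hh_mul, D.hh_mul, mul_comm]
  have e : D.tt c d * D.hh u * (D.tt c' d' * D.hh u') * (D.tt c d * D.hh u)⁻¹ * (D.tt c' d' * D.hh u')⁻¹ =
      D.tt c d * (D.hh u * D.tt c' d' * (D.hh u)⁻¹) * (D.hh u' * (D.tt c d)⁻¹ * (D.hh u')⁻¹) * (D.tt c' d')⁻¹ := by
    calc _ = D.tt c d * (D.hh u * D.tt c' d' * (D.hh u)⁻¹) * (D.hh u * D.hh u') * (D.hh u)⁻¹ * (D.tt c d)⁻¹ * (D.hh u')⁻¹ * (D.tt c' d')⁻¹ := by group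
      _ = _ := by rw [hcomm]; group
  rw [e, D.hh_conj_tt, D.tt_inv c d, D.hh_conj_tt, D.tt_inv]
  exact D.U.mul_mem (D.U.mul_mem (D.U.mul_mem ⟨_, _, rfl⟩ ⟨_, _, rfl⟩) ⟨_, _, rfl⟩) ⟨_, _, rfl⟩

/-- Point stabilisers are solvable. -/
theorem solvable_stab (p : Om F m) : Group.IsSolvable (MulAction.stabilizer (Cfsg.Sz F m) p) := by
  obtain ⟨g, rfl⟩ := D.trans_inf p
  have hB := D.solvable_B
  rw [MulAction.stabilizer_smul_eq_stabilizer_map_conj]
  show Group.IsSolvable (D.B.map (MulAut.conj g).toMonoidHom)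
  exact solvable_of_surjective (f := (D.B.equivMapOfInjective _ (MulAut.conj g).injective).toMonoidHom)
    (D.B.equivMapOfInjective _ (MulAut.conj g).injective).surjective

theorem solvable_norm {x : Cfsg.Sz F m} {w : ℕ} (h : IsOT (Cen x) w) :
    Group.IsSolvable (Subgroup.normalizer (Cen x : Set (Cfsg.Sz F m))) := by
  apply solvable_of_commutators ((Cen x).subgroupOf (Subgroup.normalizer (Cen x : Set (Cfsg.Sz F m))))
  · let _ : CommGroup ((Cen x).subgroupOf (Subgroup.normalizer (Cen x : Set (Cfsg.Sz F m)))) :=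
      { (inferInstance : Group ((Cen x).subgroupOf (Subgroup.normalizer (Cen x : Set (Cfsg.Sz F m))))) with
        mul_comm := fun a b => Subtype.ext (Subtype.ext (h.comm _ a.2 _ b.2)) }
    infer_instance
  · intro a b
    exact h.commutator a.2 b.2

/-- Solvability of a two-generated subgroup. -/
theorem solvable_pair {x y : Cfsg.Sz F m} (hx : x ≠ 1) :
    Group.IsSolvable (Subgroup.closure ({x, y} : Set (Cfsg.Sz F m))) ↔
      (∃ p : Om F m, x • p = p ∧ y • p = p) ∨
      (∃ z : Cfsg.Sz F m, z ≠ 1 ∧ (¬ ∃ g, g⁻¹ * z * g ∈ D.U) ∧ x ∈ Subgroup.normalizer (Cen z : Set (Cfsg.Sz F m)) ∧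
        y ∈ Subgroup.normalizer (Cen z : Set (Cfsg.Sz F m))) := by
  have hxm : x ∈ Subgroup.closure ({x, y} : Set (Cfsg.Sz F m)) := Subgroup.subset_closure (Or.inl rfl)
  have hym : y ∈ Subgroup.closure ({x, y} : Set (Cfsg.Sz F m)) := Subgroup.subset_closure (Or.inr rfl)
  constructor
  · intro h
    have hne : Subgroup.closure ({x, y} : Set (Cfsg.Sz F m)) ≠ ⊥ := by
      intro h'
      rw [h'] at hxm
      exact hx (Subgroup.mem_bot.1 hxm)
    rcases D.solvable_sub h hne with ⟨p, hp⟩ | ⟨z, hz1, -, hzU, hz⟩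
    · exact Or.inl ⟨p, hp x hxm, hp y hym⟩
    · exact Or.inr ⟨z, hz1, hzU, hz hxm, hz hym⟩
  · have key : ∀ K : Subgroup (Cfsg.Sz F m), Group.IsSolvable K → x ∈ K → y ∈ K →
        Group.IsSolvable (Subgroup.closure ({x, y} : Set (Cfsg.Sz F m))) := by
      intro K hK hxK hyK
      have hle : Subgroup.closure ({x, y} : Set (Cfsg.Sz F m)) ≤ K := by
        rw [Subgroup.closure_le]
        rintro s (rfl | hs)
        · exact hxK
        · rw [Set.mem_singleton_iff.1 hs]; exact hyK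
      exact solvable_of_solvable_injective (f := Subgroup.inclusion hle) (Subgroup.inclusion_injective hle)
    rintro (⟨p, hp1, hp2⟩ | ⟨z, hz1, hzU, hz2, hz3⟩)
    · exact key _ (D.solvable_stab p) hp1 hp2
    · obtain ⟨w, hw⟩ := D.isOT_of_not_U hz1 hzU
      exact key _ (D.solvable_norm hw) hz2 hz3

end Dat

end Cfsg.Agent.H8.Suz
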