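import Mathlib
import Cfsg.Prelude.Def_LieExceptional
import Cfsg.Agent.H8.SuzSol

set_option autoImplicit false

/-! Counting the solubilizer of a 2-element of the Suzuki group. -/

namespace Cfsg.Agent.H8.Suz

open Matrix MulAction Cfsg.Agent.H8.OddTor

variable {F : Type*} [Field F] [Fintype F] {m : ℕ} (D : Dat F m)

namespace Dat

/-- The standard involution. -/
def t0 : Cfsg.Sz F m := D.tt 0 1

/-- Elements inverted by `t0` but not commuting with it. -/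
def InvSet (z : Cfsg.Sz F m) : Prop := D.t0 * z * D.t0⁻¹ = z⁻¹ ∧ z * D.t0 ≠ D.t0 * z

theorem t0_sq : D.t0 * D.t0 = 1 := by
  show D.tt 0 1 * D.tt 0 1 = 1
  rw [D.tt_sq, mul_zero, D.tt_zero]

theorem t0_inv : D.t0⁻¹ = D.t0 := inv_eq_of_mul_eq_one_left D.t0_sq

theorem t0_ne : D.t0 ≠ 1 := by
  intro h
  rw [← D.tt_zero] at h
  exact one_ne_zero (D.tt_inj h).2

theorem t0_mem : D.t0 ∈ D.U := ⟨0, 1, rfl⟩

theorem t0_fix {p : Om F m} (h : D.t0 • p = p) : p = D.inf :=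
  D.tt_fix (a := 0) (b := 1) (by rintro ⟨-, h⟩; exact one_ne_zero h) h

theorem Fx_t0 : Fx D.t0 = {D.inf} := by
  have := D.Fx_U (g := 1) D.t0_ne (by rw [inv_one, one_mul, mul_one]; exact D.t0_mem)
  rwa [one_smul] at this

theorem t0_comm {u : Cfsg.Sz F m} (hu : u ∈ D.U) : D.t0 * u = u * D.t0 := by
  obtain ⟨a, b, rfl⟩ := hu
  exact D.tt_commute.2 (by rw [map_zero, zero_mul, mul_zero])

/-- A point fixed by an inverted element is moved to a fixed point. -/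
theorem inv_fix {z : Cfsg.Sz F m} (hz : D.t0 * z * D.t0⁻¹ = z⁻¹) {p : Om F m} (hp : z • p = p) :
    z • (D.t0 • p) = D.t0 • p := by
  have h1 : z⁻¹ • (D.t0 • p) = D.t0 • p := by
    rw [← hz, mul_smul, inv_smul_smul, mul_smul, hp]
  rw [inv_smul_eq_iff] at h1
  exact h1.symm

/-- U-type elements, conjugated differently. -/
theorem mem_U_conj {x g g' : Cfsg.Sz F m} (hx : x ≠ 1) (h : g'⁻¹ * x * g' ∈ D.U) (hfix : x • (g • D.inf) = g • D.inf) :
    g⁻¹ * x * g ∈ D.U := by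
  have h1 : g • D.inf ∈ Fx x := hfix
  rw [D.Fx_U hx h] at h1
  have h2 : g⁻¹ * g' ∈ D.B := by
    show (g⁻¹ * g') • D.inf = D.inf
    rw [mul_smul, ← Set.mem_singleton_iff.1 h1, inv_smul_smul]
  rw [← D.normalizer_U] at h2
  have h3 := (Subgroup.mem_normalizer_iff.1 h2 _).1 h
  have e : g⁻¹ * g' * (g'⁻¹ * x * g') * (g⁻¹ * g')⁻¹ = g⁻¹ * x * g := by group
  rwa [e] at h3

theorem InvSet.ne_one {D : Dat F m} {z : Cfsg.Sz F m} (h : D.InvSet z) : z ≠ 1 := by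
  rintro rfl
  exact h.2 (by rw [one_mul, mul_one])

theorem InvSet.notU {D : Dat F m} {z : Cfsg.Sz F m} (h : D.InvSet z) : ¬ ∃ g, g⁻¹ * z * g ∈ D.U := by
  rintro ⟨g, hg⟩
  have hF := D.Fx_U h.ne_one hg
  have h1 : z • (g • D.inf) = g • D.inf := by
    have : g • D.inf ∈ Fx z := by rw [hF]; rfl
    exact this
  have h2 : D.t0 • (g • D.inf) ∈ Fx z := D.inv_fix h.1 h1
  rw [hF] at h2
  have h3 := D.t0_fix (Set.mem_singleton_iff.1 h2)
  have h4 := D.mem_U_conj (g := 1) h.ne_one hg (by rw [one_smul, ← h3, h1])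
  rw [inv_one, one_mul, mul_one] at h4
  exact h.2 (D.t0_comm h4).symm

theorem InvSet.norm {D : Dat F m} {z : Cfsg.Sz F m} (h : D.InvSet z) :
    D.t0 ∈ Subgroup.normalizer (Cen z : Set (Cfsg.Sz F m)) := by
  obtain ⟨w, hw⟩ := D.isOT_of_not_U h.ne_one h.notU
  apply D.mem_norm_of hw h.ne_one
  rw [h.1]
  exact (Cen z).inv_mem (mem_cen.2 rfl)

theorem InvSet.notB {D : Dat F m} {z : Cfsg.Sz F m} (h : D.InvSet z) : z ∉ D.B := by
  intro hB
  obtain ⟨w, hw⟩ := D.isOT_of_not_U h.ne_one h.notU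
  have hB' := hB
  rw [← D.normalizer_U] at hB'
  have h1 : z⁻¹ * z⁻¹ ∈ D.U := by
    have e : z⁻¹ * z⁻¹ = D.t0 * (z * D.t0⁻¹ * z⁻¹) := by
      calc z⁻¹ * z⁻¹ = (D.t0 * z * D.t0⁻¹) * z⁻¹ := by rw [h.1]
        _ = _ := by group
    rw [e]
    exact D.U.mul_mem D.t0_mem ((Subgroup.mem_normalizer_iff.1 hB' _).1 (D.U.inv_mem D.t0_mem))
  have hne : z⁻¹ * z⁻¹ ≠ 1 := by
    intro h'
    apply h.2
    have : z⁻¹ = z := by
      rw [mul_eq_one_iff_eq_inv, inv_inv] at h'; exact h'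
    have h3 := h.1
    rw [this] at h3
    calc z * D.t0 = (D.t0 * z * D.t0⁻¹) * D.t0 := by rw [h3]
      _ = _ := by group
  have h2 := D.t0_comm h1
  have h3 : z⁻¹ * z⁻¹ ∈ Cen z := (Cen z).mul_mem ((Cen z).inv_mem (mem_cen.2 rfl)) ((Cen z).inv_mem (mem_cen.2 rfl))
  have h4 := hw.cen _ h3 hne D.t0 h2.symm
  exact h.2 (mem_cen.1 h4)

/-- In an inverted torus. -/
theorem InvSet.of_cen {D : Dat F m} {c x : Cfsg.Sz F m} {w : ℕ} (hw : IsOT (Cen x) w)
    (ht : D.t0 ∈ Subgroup.normalizer (Cen x : Set (Cfsg.Sz F m))) (hc : c ∈ Cen x) (hc1 : c ≠ 1) : D.InvSet c := by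
  refine ⟨hw.inv D.t0_sq D.t0_ne ht hc, fun h => hc1 ?_⟩
  exact hw.inter D.t0_sq D.t0_ne hc h

/-- The product is outside `B`. -/
theorem mul_notB {z p : Cfsg.Sz F m} (h : D.InvSet z) (hp : D.t0 * p = p * D.t0) : z * p ∉ D.B := by
  intro hB
  have hpU : p ∈ D.U := D.centralizer_U D.t0_mem D.t0_ne hp
  have hpB : p ∈ D.B := by rw [← D.normalizer_U]; exact Subgroup.le_normalizer hpU
  exact h.notB ((Subgroup.mul_mem_cancel_right _ hpB).1 hB)

/-- the group of elements normalising the torus of `z` and commuting with `t0` -/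
abbrev PP (z : Cfsg.Sz F m) : Subgroup (Cfsg.Sz F m) :=
  Subgroup.normalizer (Cen z : Set (Cfsg.Sz F m)) ⊓ Subgroup.centralizer {D.t0}

theorem mem_PP {z p : Cfsg.Sz F m} : p ∈ D.PP z ↔
    p ∈ Subgroup.normalizer (Cen z : Set (Cfsg.Sz F m)) ∧ D.t0 * p = p * D.t0 := by
  rw [Subgroup.mem_inf, Subgroup.mem_centralizer_iff]; simp

/-- The solubilizer of a 2-element. -/
theorem card_sol_aux {x : Cfsg.Sz F m} (hx : x = D.t0 ∨ x * x = D.t0) :
    Nat.card {y : Cfsg.Sz F m // Group.IsSolvable (Subgroup.closure ({x, y} : Set (Cfsg.Sz F m)))} =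
      Nat.card D.B + Nat.card (Σ z : {z : Cfsg.Sz F m // D.InvSet z ∧ x ∈ Subgroup.normalizer (Cen z : Set (Cfsg.Sz F m))},
        D.PP z.1) := by
  classical
  have htx : ∀ K : Subgroup (Cfsg.Sz F m), x ∈ K → D.t0 ∈ K := by
    intro K hK
    rcases hx with rfl | h
    · exact hK
    · rw [← h]; exact K.mul_mem hK hK
  have hx1 : x ≠ 1 := by
    rintro rfl
    rcases hx with h | h
    · exact D.t0_ne h.symm
    · rw [mul_one] at h; exact D.t0_ne h.symm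
  have hxt : D.t0 * x = x * D.t0 := by
    rcases hx with rfl | h
    · rfl
    · rw [← h]; group
  have hxU : x ∈ D.U := D.centralizer_U D.t0_mem D.t0_ne hxt
  have hxfix : ∀ p : Om F m, x • p = p → p = D.inf := by
    intro p hp
    have : p ∈ Fx x := hp
    rw [(D.comm_same hx1 D.t0_ne hxt.symm).1, D.Fx_t0] at this
    exact this
  have hxinf : x • D.inf = D.inf := by
    have : D.inf ∈ Fx x := by rw [(D.comm_same hx1 D.t0_ne hxt.symm).1, D.Fx_t0]; rfl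
    exact this
  rw [← Nat.card_sum]
  symm
  refine Nat.card_congr (Equiv.ofBijective (fun s => match s with
    | Sum.inl b => ⟨b.1, ?_⟩
    | Sum.inr ⟨z, p⟩ => ⟨z.1 * p.1, ?_⟩) ⟨?_, ?_⟩)
  · exact (D.solvable_pair hx1).2 (Or.inl ⟨D.inf, hxinf, b.2⟩)
  · refine (D.solvable_pair hx1).2 (Or.inr ⟨z.1, z.2.1.ne_one, z.2.1.notU, z.2.2, ?_⟩)
    exact Subgroup.mul_mem _ (Subgroup.le_normalizer (mem_cen.2 rfl)) (D.mem_PP.1 p.2).1
  · rintro (⟨b, hb⟩ | ⟨⟨z, hz⟩, ⟨p, hp⟩⟩) (⟨b', hb'⟩ | ⟨⟨z', hz'⟩, ⟨p', hp'⟩⟩) h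
    · have : b = b' := congrArg Subtype.val h
      subst this; rfl
    · exfalso
      have : b = z' * p' := congrArg Subtype.val h
      exact D.mul_notB hz'.1 (D.mem_PP.1 hp').2 (by rw [← this]; exact hb)
    · exfalso
      have : z * p = b' := congrArg Subtype.val h
      exact D.mul_notB hz.1 (D.mem_PP.1 hp).2 (by rw [this]; exact hb')
    · have e : z * p = z' * p' := congrArg Subtype.val h
      have key : ∀ z p : Cfsg.Sz F m, D.InvSet z → D.t0 * p = p * D.t0 →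
          D.t0 * (z * p) * D.t0⁻¹ * (z * p)⁻¹ = z⁻¹ * z⁻¹ := by
        intro z p hz hp
        calc D.t0 * (z * p) * D.t0⁻¹ * (z * p)⁻¹ = (D.t0 * z * D.t0⁻¹) * ((D.t0 * p) * D.t0⁻¹ * p⁻¹) * z⁻¹ := by group
          _ = z⁻¹ * z⁻¹ := by rw [hz.1, hp]; group
      have h1 := key z p hz.1 (D.mem_PP.1 hp).2
      have h2 := key z' p' hz'.1 (D.mem_PP.1 hp').2
      rw [e, h2] at h1
      obtain ⟨w, hw⟩ := D.isOT_of_not_U hz.1.ne_one hz.1.notU
      obtain ⟨w', hw'⟩ := D.isOT_of_not_U hz'.1.ne_one hz'.1.notU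
      have m1 : z⁻¹ * z⁻¹ ∈ Cen z := (Cen z).mul_mem ((Cen z).inv_mem (mem_cen.2 rfl)) ((Cen z).inv_mem (mem_cen.2 rfl))
      have m2 : z'⁻¹ * z'⁻¹ ∈ Cen z' := (Cen z').mul_mem ((Cen z').inv_mem (mem_cen.2 rfl)) ((Cen z').inv_mem (mem_cen.2 rfl))
      have hne : z⁻¹ * z⁻¹ ≠ 1 := by
        intro h'
        have hc := hw.ordOdd (c := z⁻¹) ((Cen z).inv_mem (mem_cen.2 rfl))
        apply hc
        rw [orderOf_eq_prime (p := 2) (by rw [pow_two, h']) (inv_ne_one.2 hz.1.ne_one)]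
      have c1 := D.cen_eq_of hw m1 hne
      have c2 := D.cen_eq_of hw' m2 (by rw [h1]; exact hne)
      rw [h1, c1] at c2
      -- z' ∈ Cen z
      have hz'c : z' ∈ Cen z := by rw [c2]; exact mem_cen.2 rfl
      have hcomm := mem_cen.1 hz'c
      have hzz : z = z' := by
        have h3 : (z'⁻¹ * z) * (z'⁻¹ * z) = 1 := by
          calc (z'⁻¹ * z) * (z'⁻¹ * z) = z'⁻¹ * (z * z'⁻¹) * z := by group
            _ = z'⁻¹ * (z'⁻¹ * z) * z := by
              rw [show z * z'⁻¹ = z'⁻¹ * z by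
                calc z * z'⁻¹ = z'⁻¹ * (z' * z) * z'⁻¹ := by group
                  _ = z'⁻¹ * (z * z') * z'⁻¹ := by rw [hcomm]
                  _ = _ := by group]
            _ = (z'⁻¹ * z'⁻¹) * (z⁻¹ * z⁻¹)⁻¹ := by rw [_root_.mul_inv_rev, inv_inv]; simp only [mul_assoc]
            _ = 1 := by rw [h1, mul_inv_cancel]
        by_contra hne2
        have hmem : z'⁻¹ * z ∈ Cen z := (Cen z).mul_mem ((Cen z).inv_mem hz'c) (mem_cen.2 rfl)
        have hne3 : z'⁻¹ * z ≠ 1 := by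
          intro h'; rw [inv_mul_eq_one] at h'; exact hne2 h'.symm
        exact hw.notMem_of_sq h3 hne3 hmem
      subst hzz
      have hpp : p = p' := mul_left_cancel e
      subst hpp
      rfl
  · rintro ⟨y, hy⟩
    by_cases hyB : y ∈ D.B
    · exact ⟨Sum.inl ⟨y, hyB⟩, rfl⟩
    · rcases (D.solvable_pair hx1).1 hy with ⟨p, hp1, hp2⟩ | ⟨z0, hz1, hzU, hxN, hyN⟩
      · exfalso
        rw [hxfix p hp1] at hp2
        exact hyB hp2
      · obtain ⟨w, hw⟩ := D.isOT_of_not_U hz1 hzU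
        have htN := htx _ hxN
        obtain ⟨c, hc, p, hp, hpt, hcp⟩ := hw.decomp D.t0_sq D.t0_ne htN hyN
        have hc1 : c ≠ 1 := by
          rintro rfl
          apply hyB
          rw [hcp, one_mul, ← D.normalizer_U]
          exact Subgroup.le_normalizer (D.centralizer_U D.t0_mem D.t0_ne hpt.symm)
        have hI := InvSet.of_cen hw htN hc hc1
        have hcc := D.cen_eq_of hw hc hc1
        refine ⟨Sum.inr ⟨⟨c, hI, by rw [hcc]; exact hxN⟩, ⟨p, D.mem_PP.2 ⟨by rw [hcc]; exact hp, hpt.symm⟩⟩⟩, ?_⟩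
        exact Subtype.ext hcp.symm

end Dat

end Cfsg.Agent.H8.Suz
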