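import Mathlib
import Cfsg.Prelude.Def_LieExceptional
import Cfsg.Agent.H8.SuzSolCount

set_option autoImplicit false

/-! Embeddings of Suzuki groups. -/

namespace Cfsg.Agent.H8.Suz

open Matrix MulAction Cfsg.Agent.H8.OddTor

namespace Dat

variable {F : Type*} [Field F] [Fintype F] {m : ℕ} (D : Dat F m)

theorem eq_tt_of_sq' {s : Cfsg.Sz F m} (h : s ∈ D.U) (hs : s * s = 1) : ∃ d, s = D.tt 0 d := by
  obtain ⟨c, d, rfl⟩ := h
  rw [D.tt_sq, ← D.tt_zero] at hs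
  have h1 := (D.tt_inj hs).2
  have hc : c = 0 := by
    rcases mul_eq_zero.1 h1 with h | h
    · exact (map_eq_zero D.θ).1 h
    · exact h
  exact ⟨d, by rw [hc]⟩

theorem conj_t0' {x : Cfsg.Sz F m} (hxx : x * x = 1) (hx1 : x ≠ 1) : ∃ g : Cfsg.Sz F m, g * x * g⁻¹ = D.t0 := by
  have hU : ∃ g, g⁻¹ * x * g ∈ D.U := by
    by_contra hcon
    obtain ⟨w, hw⟩ := D.isOT_of_not_U hx1 hcon
    exact hw.notMem_of_sq hxx hx1 (mem_cen.2 rfl)
  obtain ⟨g, hg⟩ := hU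
  obtain ⟨d, hd⟩ := D.eq_tt_of_sq' hg (by
    calc g⁻¹ * x * g * (g⁻¹ * x * g) = g⁻¹ * (x * x) * g := by group
      _ = 1 := by rw [hxx]; group)
  have hd0 : d ≠ 0 := by
    rintro rfl
    rw [D.tt_zero] at hd
    exact D.ne_one_of_conj hx1 hd
  obtain ⟨u, hu⟩ := D.exists_theta_sq (Units.mk0 d hd0)⁻¹
  refine ⟨D.hh u * g⁻¹, ?_⟩
  have e : D.hh u * g⁻¹ * x * (D.hh u * g⁻¹)⁻¹ = D.hh u * (g⁻¹ * x * g) * (D.hh u)⁻¹ := by group
  rw [e, hd, D.hh_conj_tt, mul_zero, hu]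
  show _ = D.tt 0 1
  congr 1
  rw [Units.val_inv_eq_inv_val, Units.val_mk0, inv_mul_cancel₀ hd0]

include D in
theorem exists_sqrt (c : Fˣ) : ∃ d : Fˣ, d * d = c := by
  obtain ⟨x, hx⟩ := D.theta_surj (c : F)
  obtain ⟨y, hy⟩ := D.theta_surj x
  have h1 : y * y = c := by rw [← pow_two, ← D.hθ, hy, hx]
  have hy0 : y ≠ 0 := by
    rintro rfl
    rw [mul_zero] at h1
    exact c.ne_zero h1.symm
  exact ⟨Units.mk0 y hy0, Units.ext h1⟩

omit [Field F] [Fintype F] in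
omit D in
theorem pow_five {G : Type*} [Monoid G] (g : G) : g ^ 5 = g * (g * (g * (g * g))) := by
  simp [pow_succ, mul_assoc]

/-- `ww * tt 0 c` has order 5 only if `c = 1`. -/
theorem eq_one_of_five {c : F} (hc : c ≠ 0) (h : (D.ww * D.tt 0 c) ^ 5 = 1) : c = 1 := by
  have hchar := D.char
  set g := D.ww * D.tt 0 c with hg
  have hθc : D.θ c ≠ 0 := by simpa using hc
  have hg' : ∀ X : Om F m, g • X = D.ww • (D.tt 0 c • X) := fun X => mul_smul _ _ X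
  have s1 : g • D.inf = D.pt 0 0 := by rw [hg, mul_smul, D.tt_inf, D.ww_inf]
  have z0 : z D.θ 0 c = D.θ c := by simp [z]
  have s2 : g • D.pt 0 0 = D.pt (c / D.θ c) 0 := by
    rw [hg, mul_smul, D.tt_pt]
    rw [show (0 : F) + 0 = 0 from add_zero 0, map_zero, zero_mul, add_zero, zero_add, D.ww_pt _ _ (by rw [z0]; exact hθc), z0,
      zero_div]
  set x1 := c / D.θ c with hx1
  have hx10 : x1 ≠ 0 := div_ne_zero hc hθc
  set z1 := z D.θ x1 c with hz1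
  have hz10 : z1 ≠ 0 := fun h => hc ((z_eq_zero_iff D.θ D.hθ x1 c).1 h).2
  have s3 : g • D.pt x1 0 = D.pt (c / z1) (x1 / z1) := by
    rw [hg, mul_smul, D.tt_pt]
    rw [add_zero, map_zero, zero_mul, add_zero, zero_add, D.ww_pt _ _ hz10]
  have s4 : g • (g • (g • (g • (g • D.inf)))) = D.inf := by
    have h5 := h
    rw [pow_five] at h5
    have h6 := congrArg (fun x : Cfsg.Sz F m => x • D.inf) h5
    simp only [mul_smul, one_smul] at h6
    exact h6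
  rw [s1, s2, s3] at s4
  -- the last point
  have s5 : g • D.pt (c / z1) (x1 / z1) = D.pt 0 c := by
    have h1 : D.tt 0 c • (g • D.pt (c / z1) (x1 / z1)) = D.pt 0 0 := by
      have h3 := congrArg (fun x => D.ww • x) s4
      have h4 : D.ww • (g • (g • D.pt (c / z1) (x1 / z1))) = D.pt 0 0 := h3.trans D.ww_inf
      rw [hg' (g • D.pt (c / z1) (x1 / z1)), ← mul_smul D.ww D.ww, D.ww_mul_ww, one_smul] at h4
      exact h4
    rcases D.cases_pt (g • D.pt (c / z1) (x1 / z1)) with h2 | ⟨a, b, h2⟩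
    · exfalso
      rw [h2, D.tt_inf] at h1
      exact D.pt_ne_inf 0 0 h1.symm
    · rw [h2, D.tt_pt] at h1
      obtain ⟨h3, h4⟩ := D.pt_inj h1
      rw [h2]
      have ha : a = 0 := by rw [add_zero] at h3; exact h3
      rw [ha] at h4 ⊢
      congr 1
      have : b + c = 0 := by rw [mul_comm, map_zero, mul_zero, add_zero] at h4; exact h4
      grind
  have s6 : D.pt (c / z1) (x1 / z1 + c) = D.pt x1 0 := by
    have h1 : D.ww • D.pt (c / z1) (x1 / z1 + c) = D.pt 0 c := by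
      rw [← s5, hg, mul_smul, D.tt_pt, add_zero, map_zero, zero_mul, add_zero]
    have h2 : D.ww • D.pt 0 c = D.pt x1 0 := by
      rw [D.ww_pt _ _ (by rw [z0]; exact hθc), z0, zero_div]
    rw [← h2, ← h1, ← mul_smul, D.ww_mul_ww, one_smul]
  obtain ⟨h1, -⟩ := D.pt_inj s6
  have h2 : z1 = D.θ c := by
    rw [hx1, div_eq_div_iff hz10 hθc] at h1
    exact (mul_left_cancel₀ hc h1).symm
  have h3 : D.θ x1 = D.θ c / c ^ 2 := by rw [hx1, map_div₀, D.hθ]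
  rw [hz1, z, h3, hx1] at h2
  have h4 : c ^ 2 = 1 := by
    have : c / D.θ c * c + D.θ c / c ^ 2 * (c / D.θ c) ^ 2 = 0 := by grind
    have h5 : (c ^ 2 + 1) / D.θ c = 0 := by
      rw [← this]
      field_simp
    rcases div_eq_zero_iff.1 h5 with h6 | h6
    · grind
    · exact absurd h6 hθc
  exact D.sq_eq_one h4

theorem five : (D.ww * D.t0) ^ 5 = 1 := by
  have hchar := D.char
  have h22 : (2 : F) = 0 := D.two_eq
  apply mat_inj
  have h1 : (D.ww * D.t0).1.1 = !![0, 0, 0, 1; 0, 0, 1, 0; 0, 1, 0, 1; 1, 0, 1, 1] := by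
    show wm F * Tm D.θ 0 1 = _
    ext i j
    fin_cases i <;> fin_cases j <;> simp [wm, Tm, z, Matrix.mul_apply, Fin.sum_univ_four]
  have h2 : ((D.ww * D.t0) ^ 5).1.1 = (D.ww * D.t0).1.1 ^ 5 := by
    show ((D.ww * D.t0) ^ 5).1.1 = _
    simp
  have hsq : (!![0, 0, 0, 1; 0, 0, 1, 0; 0, 1, 0, 1; 1, 0, 1, 1] : Matrix (Fin 4) (Fin 4) F) *
      !![0, 0, 0, 1; 0, 0, 1, 0; 0, 1, 0, 1; 1, 0, 1, 1] = !![1, 0, 1, 1; 0, 1, 0, 1; 1, 0, 0, 1; 1, 1, 1, 1] := by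
    ext i j
    fin_cases i <;> fin_cases j <;> simp [Matrix.mul_apply, Fin.sum_univ_four, one_add_one_eq_two, h22]
  have hq : (!![1, 0, 1, 1; 0, 1, 0, 1; 1, 0, 0, 1; 1, 1, 1, 1] : Matrix (Fin 4) (Fin 4) F) *
      !![1, 0, 1, 1; 0, 1, 0, 1; 1, 0, 0, 1; 1, 1, 1, 1] = !![1, 1, 0, 1; 1, 0, 1, 0; 0, 1, 0, 0; 1, 0, 0, 0] := by
    ext i j
    fin_cases i <;> fin_cases j <;> simp [Matrix.mul_apply, Fin.sum_univ_four, one_add_one_eq_two, h22]
  have hf : (!![1, 1, 0, 1; 1, 0, 1, 0; 0, 1, 0, 0; 1, 0, 0, 0] : Matrix (Fin 4) (Fin 4) F) *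
      !![0, 0, 0, 1; 0, 0, 1, 0; 0, 1, 0, 1; 1, 0, 1, 1] = 1 := by
    ext i j
    fin_cases i <;> fin_cases j <;> simp [Matrix.mul_apply, Fin.sum_univ_four, one_add_one_eq_two, h22]
  rw [h2, h1, mat_one, show (5 : ℕ) = 2 * 2 + 1 from rfl, pow_succ, pow_mul, pow_two, pow_two, hsq, hq, hf]

end Dat

end Cfsg.Agent.H8.Suz
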