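import Mathlib
import Cfsg.Prelude.Def_LieExceptional
import Cfsg.Prelude.Def_Sz
import Cfsg.Agent.H8.SuzSylow

set_option autoImplicit false

/-! The two realisations of the Suzuki group agree. -/

namespace Cfsg.Agent.H8.Suz

open Matrix MulAction

section General

variable {F : Type*} [Field F]

theorem cauchy_binet (h2 : (2 : F) = 0) (a a' b b' : Fin 4 → F)
    (hA : a 0 * a' 3 + a 1 * a' 2 + a 2 * a' 1 + a 3 * a' 0 = 0)
    (hB : b 0 * b' 3 + b 1 * b' 2 + b 2 * b' 1 + b 3 * b' 0 = 0) :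
    (a 0 * b 0 + a 1 * b 1 + a 2 * b 2 + a 3 * b 3) * (a' 0 * b' 0 + a' 1 * b' 1 + a' 2 * b' 2 + a' 3 * b' 3)
      - (a' 0 * b 0 + a' 1 * b 1 + a' 2 * b 2 + a' 3 * b 3) * (a 0 * b' 0 + a 1 * b' 1 + a 2 * b' 2 + a 3 * b' 3)
    = (a 0 * a' 1 - a' 0 * a 1) * (b 0 * b' 1 - b 1 * b' 0) + (a 0 * a' 2 - a' 0 * a 2) * (b 0 * b' 2 - b 2 * b' 0)
      + (a 1 * a' 3 - a' 1 * a 3) * (b 1 * b' 3 - b 3 * b' 1) + (a 2 * a' 3 - a' 2 * a 3) * (b 2 * b' 3 - b 3 * b' 2) := by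
  linear_combination hA * (b 0 * b' 3 - b 3 * b' 0) + (a 1 * a' 2 - a' 1 * a 2) * hB
    - ((a 3 * a' 0 + a 2 * a' 1) * (b 0 * b' 3 - b 3 * b' 0) + (a 1 * a' 2 - a' 1 * a 2) *
      ((b 3 * b' 0 + b 2 * b' 1) + (b 0 * b' 3 - b 3 * b' 0))) * h2

/-- `M` preserves the form. -/
def IsSp (M : Matrix (Fin 4) (Fin 4) F) : Prop := M.transpose * Cfsg.suzukiForm F * M = Cfsg.suzukiForm F

theorem J_sq : Cfsg.suzukiForm F * Cfsg.suzukiForm F = 1 := by
  ext i j
  fin_cases i <;> fin_cases j <;> simp [Cfsg.suzukiForm, Matrix.mul_apply, Fin.sum_univ_succ]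

theorem IsSp.transpose {M : Matrix (Fin 4) (Fin 4) F} (h : IsSp M) :
    M * Cfsg.suzukiForm F * M.transpose = Cfsg.suzukiForm F := by
  have h1 : (Cfsg.suzukiForm F * M.transpose * Cfsg.suzukiForm F) * M = 1 := by
    rw [Matrix.mul_assoc, Matrix.mul_assoc, ← Matrix.mul_assoc M.transpose, h, J_sq]
  have h2 := mul_eq_one_comm.1 h1
  calc M * Cfsg.suzukiForm F * M.transpose
      = M * (Cfsg.suzukiForm F * M.transpose * Cfsg.suzukiForm F) * Cfsg.suzukiForm F := by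
        simp only [Matrix.mul_assoc]; rw [J_sq]; simp
    _ = _ := by rw [h2, Matrix.one_mul]

theorem IsSp.mul {M N : Matrix (Fin 4) (Fin 4) F} (hM : IsSp M) (hN : IsSp N) : IsSp (M * N) := by
  unfold IsSp at *
  rw [Matrix.transpose_mul]
  calc _ = N.transpose * (M.transpose * Cfsg.suzukiForm F * M) * N := by simp only [Matrix.mul_assoc]
    _ = _ := by rw [hM, hN]

theorem IsSp.col {M : Matrix (Fin 4) (Fin 4) F} (h : IsSp M) (i j : Fin 4) :
    M 0 i * M 3 j + M 1 i * M 2 j + M 2 i * M 1 j + M 3 i * M 0 j = Cfsg.suzukiForm F i j := by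
  have := congrFun (congrFun h i) j
  rw [← this]
  simp [Matrix.mul_apply, Fin.sum_univ_succ, Cfsg.suzukiForm]
  ring

theorem IsSp.row {M : Matrix (Fin 4) (Fin 4) F} (h : IsSp M) (i j : Fin 4) :
    M i 0 * M j 3 + M i 1 * M j 2 + M i 2 * M j 1 + M i 3 * M j 0 = Cfsg.suzukiForm F i j := by
  have := congrFun (congrFun h.transpose i) j
  rw [← this]
  simp [Matrix.mul_apply, Fin.sum_univ_succ, Cfsg.suzukiForm]
  ring

theorem star4_mul (h2 : (2 : F) = 0) {M N : Matrix (Fin 4) (Fin 4) F} (hM : IsSp M) (hN : IsSp N) :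
    Lie.star4 (M * N) = Lie.star4 M * Lie.star4 N := by
  have hJ : ∀ p : Fin 4, Cfsg.suzukiForm F (Lie.pairOf p).1 (Lie.pairOf p).2 = 0 := by
    intro p; fin_cases p <;> simp [Lie.pairOf, Cfsg.suzukiForm]
  ext p r
  have e := cauchy_binet h2 (M (Lie.pairOf p).1) (M (Lie.pairOf p).2) (fun k => N k (Lie.pairOf r).1)
    (fun k => N k (Lie.pairOf r).2) (by rw [hM.row, hJ]) (by rw [hN.col, hJ])
  have e1 : Lie.star4 (M * N) p r = (M * N) (Lie.pairOf p).1 (Lie.pairOf r).1 * (M * N) (Lie.pairOf p).2 (Lie.pairOf r).2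
    - (M * N) (Lie.pairOf p).2 (Lie.pairOf r).1 * (M * N) (Lie.pairOf p).1 (Lie.pairOf r).2 := rfl
  rw [e1]
  simp only [Matrix.mul_apply, Fin.sum_univ_four]
  rw [e]
  simp only [Lie.star4, Matrix.of_apply, Lie.pairOf]
  simp

end General

variable {F : Type*} [Field F] [Fintype F] {m : ℕ} (D : Dat F m)

namespace Dat

include D

theorem star4_T (a b : F) : Lie.star4 (Tm D.θ a b) = (Tm D.θ a b).map D.θ := by
  have := D.char
  ext i j
  have hθ := D.hθ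
  fin_cases i <;> fin_cases j <;> simp [Lie.star4, Lie.pairOf, Tm, z, hθ] <;> grind

theorem star4_w : Lie.star4 (wm F) = (wm F).map D.θ := by
  have := D.char
  ext i j
  fin_cases i <;> fin_cases j <;> simp [Lie.star4, Lie.pairOf, wm] <;> grind

theorem star4_h (u : Fˣ) : Lie.star4 (Suz.hm D.θ u) = (Suz.hm D.θ u).map D.θ := by
  have := D.char
  have hu : (u : F) ≠ 0 := u.ne_zero
  have hu' : D.θ (u : F) ≠ 0 := by simp
  ext i j
  have hθ := D.hθ
  fin_cases i <;> fin_cases j <;> simp [Lie.star4, Lie.pairOf, Suz.hm, hθ] <;> field_simp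

/-- Membership predicate. -/
def IsX (M : Matrix (Fin 4) (Fin 4) F) : Prop := IsSp M ∧ Lie.star4 M = M.map D.θ

theorem IsX_mul {M N : Matrix (Fin 4) (Fin 4) F} (hM : D.IsX M) (hN : D.IsX N) : D.IsX (M * N) := by
  refine ⟨hM.1.mul hN.1, ?_⟩
  rw [star4_mul D.two_eq hM.1 hN.1, hM.2, hN.2, Matrix.map_mul]

theorem IsX_of_mem {g : Matrix.SpecialLinearGroup (Fin 4) F} (hg : g ∈ Cfsg.Sz F m) : D.IsX g.1 := by
  have := D.char
  let K : Submonoid (Matrix.SpecialLinearGroup (Fin 4) F) := {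
    carrier := {g | D.IsX g.1}
    one_mem' := by
      have e : (1 : Matrix (Fin 4) (Fin 4) F) = Suz.hm D.θ 1 := by
        have := congrArg (fun g : Matrix.SpecialLinearGroup (Fin 4) F => g.1) (h_one D.θ)
        exact this.symm
      show D.IsX (1 : Matrix (Fin 4) (Fin 4) F)
      refine ⟨by unfold IsSp; simp, ?_⟩
      rw [e]
      exact D.star4_h 1
    mul_mem' := by
      intro a b ha hb
      exact D.IsX_mul ha hb }
  have hT : ∀ a b, T D.θ a b ∈ K := fun a b => ⟨D.form_eq (T_mem D.θ D.hθ D.hm a b), D.star4_T a b⟩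
  have hh : ∀ u, h D.θ u ∈ K := fun u => ⟨D.form_eq (h_mem D.θ D.hθ D.hm u), D.star4_h u⟩
  have hw : w F ∈ K := ⟨D.form_eq (w_mem D.θ D.hθ D.hm), D.star4_w⟩
  have : g ∈ K := by
    rcases Suz.bruhat D.hθ D.hm D.hm1 D.hF hg with ⟨a, b, u, rfl⟩ | ⟨x, y, a, b, u, rfl⟩
    · exact K.mul_mem (hT _ _) (hh _)
    · exact K.mul_mem (K.mul_mem (hT _ _) hw) (K.mul_mem (hT _ _) (hh _))
  exact this

theorem col_aux (v0 v1 v2 v3 w0 w1 w2 w3 : F) (e0 : v0 * w1 - v1 * w0 = D.θ v0) (e1 : v0 * w2 - v2 * w0 = D.θ v1)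
    (e2 : v1 * w3 - v3 * w1 = D.θ v2) (e3 : v2 * w3 - v3 * w2 = D.θ v3)
    (e4 : v0 * w3 + v1 * w2 + v2 * w1 + v3 * w0 = 0) :
    (v1 = 0 ∧ v2 = 0 ∧ v3 = 0) ∨ (v3 ≠ 0 ∧ z D.θ (v2 / v3) (v1 / v3) = v0 / v3) := by
  have := D.char
  by_cases h3 : v3 = 0
  · left
    subst h3
    simp at e2 e3 e4
    have h2 : v2 = 0 := by
      by_contra hne
      rcases e3 with h | h
      · exact hne h
      · rw [h] at e2; simp only [mul_zero] at e2; exact hne ((map_eq_zero D.θ).1 e2.symm)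
    subst h2
    simp at e1 e2 e4
    have h1 : v1 = 0 := by
      by_contra hne
      rcases e2 with h | h
      · exact hne h
      · rw [h] at e4; simp at e4
        rcases e4 with h' | h'
        · exact hne h'
        · rw [h'] at e1; simp only [mul_zero] at e1; exact hne ((map_eq_zero D.θ).1 e1.symm)
    exact ⟨h1, rfl, rfl⟩
  · right
    refine ⟨h3, ?_⟩
    have hθ3 : D.θ v3 ≠ 0 := by simpa using h3
    have key : v0 * v3 * D.θ v3 = v1 * v2 * D.θ v3 + D.θ v2 * v2 ^ 2 + D.θ v1 * v3 ^ 2 := by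
      rw [← e1, ← e2, ← e3]; grind
    unfold z
    rw [map_div₀, map_div₀]
    field_simp
    linear_combination -key

/-- The first column of an element of `X` is an ovoid point. -/
theorem col0 {M : Matrix (Fin 4) (Fin 4) F} (hM : D.IsX M) :
    (M 0 0 ≠ 0 ∧ M 1 0 = 0 ∧ M 2 0 = 0 ∧ M 3 0 = 0) ∨
    (M 3 0 ≠ 0 ∧ z D.θ (M 2 0 / M 3 0) (M 1 0 / M 3 0) = M 0 0 / M 3 0) := by
  have := D.char
  have e0 := congrFun (congrFun hM.2 0) 0
  have e1 := congrFun (congrFun hM.2 1) 0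
  have e2 := congrFun (congrFun hM.2 2) 0
  have e3 := congrFun (congrFun hM.2 3) 0
  have e4 := hM.1.col 0 1
  simp [Lie.star4, Lie.pairOf, Cfsg.suzukiForm] at e0 e1 e2 e3 e4
  rcases D.col_aux _ _ _ _ _ _ _ _ e0 e1 e2 e3 e4 with ⟨h1, h2, h3⟩ | h
  · left
    refine ⟨fun h0 => ?_, h1, h2, h3⟩
    have := hM.1.col 0 3
    rw [h0, h1, h2, h3] at this
    simp [Cfsg.suzukiForm] at this
  · exact Or.inr h

theorem mul_col {M : Matrix (Fin 4) (Fin 4) F} {j : Fin 4} {c x y : F}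
    (hcol : ∀ i, M i j = c * ![z D.θ x y, y, x, 1] i) (i : Fin 4) :
    (Tm D.θ x (y + D.θ x * x) * M) i j = c * ![0, 0, 0, 1] i := by
  have := D.char
  have hθ := D.hθ
  rw [Matrix.mul_apply]
  simp only [Fin.sum_univ_four, hcol]
  fin_cases i <;> simp [Tm, z, hθ] <;> grind

theorem exists_mul_col0 {M : Matrix (Fin 4) (Fin 4) F} (hM : D.IsX M) :
    ∃ g ∈ Cfsg.Sz F m, ((g : Matrix (Fin 4) (Fin 4) F) * M) 1 0 = 0 ∧ (g.1 * M) 2 0 = 0 ∧
      (g.1 * M) 3 0 = 0 := by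
  have := D.char
  rcases D.col0 hM with h | ⟨h3, hz⟩
  · exact ⟨1, one_mem _, by simpa using h.2⟩
  · obtain ⟨x, hx⟩ : ∃ x, x = M 2 0 / M 3 0 := ⟨_, rfl⟩
    obtain ⟨y, hy⟩ : ∃ x, x = M 1 0 / M 3 0 := ⟨_, rfl⟩
    rw [← hx, ← hy] at hz
    refine ⟨w F * T D.θ x (y + D.θ x * x), (Cfsg.Sz F m).mul_mem (w_mem D.θ D.hθ D.hm) (T_mem D.θ D.hθ D.hm _ _), ?_⟩
    have hcol : ∀ i, (M i 0) = M 3 0 * ![z D.θ x y, y, x, 1] i := by
      intro i; fin_cases i
      · show M 0 0 = M 3 0 * z D.θ x y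
        rw [hz]; field_simp
      · show M 1 0 = M 3 0 * y
        rw [hy]; field_simp
      · show M 2 0 = M 3 0 * x
        rw [hx]; field_simp
      · show M 3 0 = M 3 0 * 1
        rw [mul_one]
    have h1 := D.mul_col hcol
    have hmul : ∀ i, ((w F * T D.θ x (y + D.θ x * x) : Matrix.SpecialLinearGroup (Fin 4) F).1 * M) i 0 =
        M 3 0 * ![1, 0, 0, 0] i := by
      intro i
      show ((wm F * Tm D.θ x (y + D.θ x * x)) * M) i 0 = _
      rw [Matrix.mul_assoc, Matrix.mul_apply]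
      simp only [Fin.sum_univ_four, h1]
      fin_cases i <;> simp [wm]
    refine ⟨?_, ?_, ?_⟩
    · rw [hmul]; simp
    · rw [hmul]; simp
    · rw [hmul]; simp

theorem IsX_diag {M : Matrix (Fin 4) (Fin 4) F} (hM : D.IsX M) (h10 : M 1 0 = 0) (h20 : M 2 0 = 0)
    (h30 : M 3 0 = 0) (h03 : M 0 3 = 0) (h13 : M 1 3 = 0) (h23 : M 2 3 = 0) : ∃ u : Fˣ, M = Suz.hm D.θ u := by
  have := D.char
  have c03 := hM.1.col 0 3
  have c01 := hM.1.col 0 1
  have c02 := hM.1.col 0 2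
  have c31 := hM.1.col 3 1
  have c32 := hM.1.col 3 2
  have c12 := hM.1.col 1 2
  simp [h10, h20, h30, h03, h13, h23, Cfsg.suzukiForm] at c03 c01 c02 c31 c32 c12
  have n00 : M 0 0 ≠ 0 := left_ne_zero_of_mul_eq_one c03
  have n33 : M 3 3 ≠ 0 := right_ne_zero_of_mul_eq_one c03
  have h31 : M 3 1 = 0 := by rcases c01 with h | h; exact absurd h n00; exact h
  have h32 : M 3 2 = 0 := by rcases c02 with h | h; exact absurd h n00; exact h
  have h01 : M 0 1 = 0 := by rcases c31 with h | h; exact absurd h n33; exact h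
  have h02 : M 0 2 = 0 := by rcases c32 with h | h; exact absurd h n33; exact h
  have e00 := congrFun (congrFun hM.2 0) 0
  have e10 := congrFun (congrFun hM.2 1) 0
  have e01 := congrFun (congrFun hM.2 0) 1
  have e11 := congrFun (congrFun hM.2 1) 1
  simp [Lie.star4, Lie.pairOf, h10, h20, h30, h03, h13, h23, h31, h32, h01, h02] at e00 e10 e01 e11
  have h21 : M 2 1 = 0 := by rcases e10 with h | h; exact absurd h n00; exact h
  have h12 : M 1 2 = 0 := by rcases e01 with h | h; exact absurd h n00; exact h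
  rw [h21, h12, h31, h32, h01, h02] at c12
  simp at c12
  have n11 : M 1 1 ≠ 0 := left_ne_zero_of_mul_eq_one c12
  refine ⟨Units.mk0 (M 1 1) n11, ?_⟩
  have h22 : M 2 2 = (M 1 1)⁻¹ := eq_inv_of_mul_eq_one_right c12
  have h33 : M 3 3 = (M 0 0)⁻¹ := eq_inv_of_mul_eq_one_right c03
  have h00 : M 0 0 = M 1 1 * D.θ (M 1 1) := by
    rw [← e11, h22]; field_simp
  ext i j
  fin_cases i <;> fin_cases j <;> simp [Suz.hm, h10, h20, h30, h03, h13, h23, h31, h32, h01, h02, h21, h12, h22, h33, h00]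

theorem fix_col3 {N : Matrix (Fin 4) (Fin 4) F} (hNX : D.IsX N) (h10 : N 1 0 = 0) (h20 : N 2 0 = 0)
    (h30 : N 3 0 = 0) : ∃ g ∈ Cfsg.Sz F m, ∃ u, (g : Matrix (Fin 4) (Fin 4) F) * N = Suz.hm D.θ u := by
  have := D.char
  -- last column: use w
  have hNw : D.IsX (N * wm F) := D.IsX_mul hNX (D.IsX_of_mem (w_mem D.θ D.hθ D.hm))
  have hcolw : ∀ i, (N * wm F) i 0 = N i 3 := by
    intro i; simp [Matrix.mul_apply, wm, Fin.sum_univ_four]
  have h03 : N 3 3 ≠ 0 := by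
    have c03 := hNX.1.col 0 3
    simp [h10, h20, h30, Cfsg.suzukiForm] at c03
    exact right_ne_zero_of_mul_eq_one c03
  rcases D.col0 hNw with ⟨_, _, _, h⟩ | ⟨-, hz⟩
  · rw [hcolw] at h; exact absurd h h03
  · simp only [hcolw] at hz
    obtain ⟨x, hx⟩ : ∃ x, x = N 2 3 / N 3 3 := ⟨_, rfl⟩
    obtain ⟨y, hy⟩ : ∃ x, x = N 1 3 / N 3 3 := ⟨_, rfl⟩
    rw [← hx, ← hy] at hz
    have hcol : ∀ i, N i 3 = N 3 3 * ![z D.θ x y, y, x, 1] i := by
      intro i; fin_cases i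
      · show N 0 3 = N 3 3 * z D.θ x y
        rw [hz]; field_simp
      · show N 1 3 = N 3 3 * y
        rw [hy]; field_simp
      · show N 2 3 = N 3 3 * x
        rw [hx]; field_simp
      · show N 3 3 = N 3 3 * 1
        rw [mul_one]
    have hT : T D.θ x (y + D.θ x * x) ∈ Cfsg.Sz F m := T_mem D.θ D.hθ D.hm _ _
    have hmul3 := D.mul_col hcol
    have hmul0 : ∀ i, i ≠ 0 → (Tm D.θ x (y + D.θ x * x) * N) i 0 = 0 := by
      intro i hi
      rw [Matrix.mul_apply]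
      simp only [Fin.sum_univ_four, h10, h20, h30, mul_zero, add_zero]
      fin_cases i
      · exact absurd rfl hi
      · simp [Tm]
      · simp [Tm]
      · simp [Tm]
    have hTX : D.IsX (Tm D.θ x (y + D.θ x * x)) := by
      have h := D.IsX_of_mem hT
      have e : (T D.θ x (y + D.θ x * x)).1 = Tm D.θ x (y + D.θ x * x) := rfl
      rwa [e] at h
    have hX : D.IsX (Tm D.θ x (y + D.θ x * x) * N) := D.IsX_mul hTX hNX
    have a1 := hmul0 1 (by simp)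
    have a2 := hmul0 2 (by simp)
    have a3 := hmul0 3 (by simp)
    have b0 := hmul3 0
    have b1 := hmul3 1
    have b2 := hmul3 2
    simp only [Matrix.cons_val_zero, mul_zero] at b0
    have b1' : (Tm D.θ x (y + D.θ x * x) * N) 1 3 = 0 := by rw [b1]; simp
    have b2' : (Tm D.θ x (y + D.θ x * x) * N) 2 3 = 0 := by rw [b2]; simp
    obtain ⟨u, hu⟩ := D.IsX_diag hX a1 a2 a3 b0 b1' b2'
    exact ⟨_, hT, u, hu⟩

/-- Every element of `X` is (the matrix of) an element of the group. -/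
theorem mem_of_IsX {M : Matrix (Fin 4) (Fin 4) F} (hM : D.IsX M) : ∃ g ∈ Cfsg.Sz F m, g.1 = M := by
  have := D.char
  obtain ⟨g, hg, h10, h20, h30⟩ := D.exists_mul_col0 hM
  obtain ⟨k, hk, u, hu⟩ := D.fix_col3 (D.IsX_mul (D.IsX_of_mem hg) hM) h10 h20 h30
  refine ⟨(k * g)⁻¹ * h D.θ u, (Cfsg.Sz F m).mul_mem ((Cfsg.Sz F m).inv_mem
      ((Cfsg.Sz F m).mul_mem hk hg)) (h_mem D.θ D.hθ D.hm u), ?_⟩
  have e1 : (k * g).1 * M = (h D.θ u).1 := by
    show (k.1 * g.1) * M = Suz.hm D.θ u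
    rw [← hu, Matrix.mul_assoc]
  have e2 : ((k * g)⁻¹ * h D.θ u).1 = ((k * g)⁻¹).1 * (h D.θ u).1 := rfl
  rw [e2, ← e1, ← Matrix.mul_assoc]
  have e3 : ((k * g)⁻¹).1 * (k * g).1 = 1 := by
    have := congrArg (fun g : Matrix.SpecialLinearGroup (Fin 4) F => g.1) (inv_mul_cancel (k * g))
    exact this
  rw [e3, Matrix.one_mul]

theorem altForm_iff {g : GL (Fin 4) F} : g ∈ Lie.Sp4 F ↔ IsSp (g : Matrix (Fin 4) (Fin 4) F) := by
  have hf : ∀ (M : Matrix (Fin 4) (Fin 4) F) (u v : Fin 4 → F), Lie.altForm4 (M *ᵥ u) (M *ᵥ v) =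
      u ⬝ᵥ ((M.transpose * Cfsg.suzukiForm F * M) *ᵥ v) := by
    intro M u v
    rw [← Matrix.mulVec_mulVec, ← Matrix.mulVec_mulVec, Matrix.dotProduct_mulVec, Matrix.vecMul_transpose]
    simp [Lie.altForm4, Cfsg.suzukiForm, dotProduct, Matrix.mulVec, Fin.sum_univ_four]
  have hf0 : ∀ (u v : Fin 4 → F), Lie.altForm4 u v = u ⬝ᵥ (Cfsg.suzukiForm F *ᵥ v) := by
    intro u v
    simp [Lie.altForm4, Cfsg.suzukiForm, dotProduct, Matrix.mulVec, Fin.sum_univ_four]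
  constructor
  · intro hg
    unfold IsSp
    ext i j
    have h1 : Lie.altForm4 ((g : Matrix (Fin 4) (Fin 4) F) *ᵥ (Pi.single i 1)) ((g : Matrix (Fin 4) (Fin 4) F) *ᵥ (Pi.single j 1)) =
      Lie.altForm4 (Pi.single i 1) (Pi.single j 1) := hg _ _
    rw [hf, hf0] at h1
    simpa using h1
  · intro hg u v
    show Lie.altForm4 ((g : Matrix (Fin 4) (Fin 4) F) *ᵥ u) ((g : Matrix (Fin 4) (Fin 4) F) *ᵥ v) = _
    rw [hf, hg, hf0]

theorem map_eq_theta (M : Matrix (Fin 4) (Fin 4) F) : M.map (fun x => x ^ (2 ^ (m + 1))) = M.map D.θ := by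
  ext i j
  simp [D.hm]

theorem LieSz_eq : Lie.Sz F (2 ^ (m + 1)) = (Cfsg.Sz F m).map (Matrix.SpecialLinearGroup.toGL) := by
  apply le_antisymm
  · unfold Lie.Sz
    rw [Subgroup.closure_le]
    rintro g ⟨hg1, hg2⟩
    rw [D.map_eq_theta] at hg2
    obtain ⟨s, hs, hsg⟩ := D.mem_of_IsX ⟨D.altForm_iff.1 hg1, hg2⟩
    refine ⟨s, hs, ?_⟩
    apply Units.ext
    exact hsg
  · rintro _ ⟨s, hs, rfl⟩
    apply Subgroup.subset_closure
    have := D.IsX_of_mem hs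
    refine ⟨D.altForm_iff.2 this.1, ?_⟩
    rw [D.map_eq_theta]
    exact this.2

theorem LieSz_equiv : Nonempty (Lie.Sz F (2 ^ (m + 1)) ≃* Cfsg.Sz F m) := by
  rw [D.LieSz_eq]
  have hinj : Function.Injective (Matrix.SpecialLinearGroup.toGL : Matrix.SpecialLinearGroup (Fin 4) F →* GL (Fin 4) F) := by
    intro a b hab
    apply Subtype.ext
    exact congrArg (fun g : GL (Fin 4) F => (g : Matrix (Fin 4) (Fin 4) F)) hab
  exact ⟨((Cfsg.Sz F m).equivMapOfInjective _ hinj).symm⟩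

end Dat

end Cfsg.Agent.H8.Suz
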