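import Mathlib
import Cfsg.Prelude.Def_LieExceptional
import Cfsg.Agent.H8.SuzSolCount

set_option autoImplicit false

/-! Numbers of elements inverted by an involution of the Suzuki group. -/

namespace Cfsg.Agent.H8.Suz

open Matrix MulAction Cfsg.Agent.H8.OddTor

variable {F : Type*} [Field F] [Fintype F] {m : ℕ} (D : Dat F m)

namespace Dat

include D in
theorem card_F : Nat.card F = 2 ^ (2 * m + 1) := by rw [Nat.card_eq_fintype_card, D.hF]

theorem eq_tt_of_sq {s : Cfsg.Sz F m} (h : s ∈ D.U) (hs : s * s = 1) : ∃ d, s = D.tt 0 d := by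
  obtain ⟨c, d, rfl⟩ := h
  rw [D.tt_sq, ← D.tt_zero] at hs
  have h1 := (D.tt_inj hs).2
  have hc : c = 0 := by
    rcases mul_eq_zero.1 h1 with h | h
    · exact (map_eq_zero D.θ).1 h
    · exact h
  exact ⟨d, by rw [hc]⟩

/-- Number of elements inverted by `t0` and not commuting with it. -/
theorem card_InvSet : Nat.card {z : Cfsg.Sz F m // D.InvSet z} = (2 ^ (2 * m + 1)) ^ 2 * (2 ^ (2 * m + 1) - 1) := by
  have hfin : Finite (Cfsg.Sz F m) := inferInstance
  rw [← D.card_units, ← D.card_F, pow_two, ← Nat.card_prod, ← Nat.card_prod]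
  symm
  have hg : ∀ a b, (D.tt a b * D.ww) • D.inf = D.pt a b := by
    intro a b; rw [mul_smul, D.ww_inf, D.tt_pt]; simp
  have hne : ∀ (a b : F) (c : Fˣ), (D.tt a b * D.ww) * D.tt 0 c * (D.tt a b * D.ww)⁻¹ ≠ 1 := by
    intro a b c h
    rw [mul_inv_eq_one] at h
    have h1 : D.tt 0 c = 1 := mul_left_cancel (a := D.tt a b * D.ww) (by rw [h, mul_one])
    rw [← D.tt_zero] at h1
    exact c.ne_zero (D.tt_inj h1).2
  have hFx : ∀ (a b : F) (c : Fˣ), Fx ((D.tt a b * D.ww) * D.tt 0 c * (D.tt a b * D.ww)⁻¹) = {D.pt a b} := by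
    intro a b c
    rw [← hg a b]
    apply D.Fx_U (hne a b c)
    refine ⟨0, c, ?_⟩
    group
  have hsq : ∀ (a b : F) (c : Fˣ), (D.tt a b * D.ww) * D.tt 0 c * (D.tt a b * D.ww)⁻¹ *
      ((D.tt a b * D.ww) * D.tt 0 c * (D.tt a b * D.ww)⁻¹) = 1 := by
    intro a b c
    calc _ = (D.tt a b * D.ww) * (D.tt 0 c * D.tt 0 c) * (D.tt a b * D.ww)⁻¹ := by group
      _ = 1 := by rw [D.tt_sq, mul_zero, D.tt_zero]; group
  refine Nat.card_congr (Equiv.ofBijective (fun x : (F × F) × Fˣ =>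
    (⟨D.t0 * ((D.tt x.1.1 x.1.2 * D.ww) * D.tt 0 x.2 * (D.tt x.1.1 x.1.2 * D.ww)⁻¹), ?_, ?_⟩ : {z : Cfsg.Sz F m // D.InvSet z})) ⟨?_, ?_⟩)
  · have h1 := hsq x.1.1 x.1.2 x.2
    set s := (D.tt x.1.1 x.1.2 * D.ww) * D.tt 0 x.2 * (D.tt x.1.1 x.1.2 * D.ww)⁻¹
    have hs : s⁻¹ = s := inv_eq_of_mul_eq_one_left h1
    rw [_root_.mul_inv_rev, hs, D.t0_inv]
    calc D.t0 * (D.t0 * s) * D.t0 = (D.t0 * D.t0) * s * D.t0 := by group
      _ = _ := by rw [D.t0_sq, one_mul]
  · intro h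
    have h1 := hsq x.1.1 x.1.2 x.2
    have h2 := hFx x.1.1 x.1.2 x.2
    have h3 := hne x.1.1 x.1.2 x.2
    set s := (D.tt x.1.1 x.1.2 * D.ww) * D.tt 0 x.2 * (D.tt x.1.1 x.1.2 * D.ww)⁻¹
    have hcomm : s * D.t0 = D.t0 * s := by
      apply mul_left_cancel (a := D.t0)
      rw [← mul_assoc, h]
    have h4 := (D.comm_same h3 D.t0_ne hcomm).1
    rw [h2, D.Fx_t0] at h4
    exact D.pt_ne_inf _ _ (Set.singleton_injective h4)
  · rintro ⟨⟨a, b⟩, c⟩ ⟨⟨a', b'⟩, c'⟩ h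
    have h1 := mul_left_cancel (congrArg Subtype.val h)
    have h2 : ({D.pt a b} : Set (Om F m)) = {D.pt a' b'} := by
      rw [← hFx a b c, ← hFx a' b' c']
      exact congrArg Fx h1
    obtain ⟨rfl, rfl⟩ := D.pt_inj (Set.singleton_injective h2)
    have h3 : D.tt 0 (c : F) = D.tt 0 c' := by
      have := mul_left_cancel (mul_right_cancel h1)
      exact this
    have h4 : c = c' := Units.ext (D.tt_inj h3).2
    rw [h4]
  · rintro ⟨z, hz⟩
    set s := D.t0 * z with hs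
    have hss : s * s = 1 := by
      have h1 := hz.1
      rw [D.t0_inv] at h1
      calc s * s = (D.t0 * z * D.t0) * z := by rw [hs]; group
        _ = 1 := by rw [h1]; group
    have hs1 : s ≠ 1 := by
      intro h
      apply hz.2
      have : z = D.t0⁻¹ := by rw [eq_inv_iff_mul_eq_one]; rw [mul_eq_one_iff_eq_inv] at h ⊢; rw [h, inv_inv]
      rw [this]; group
    have hzst : z = D.t0 * s := by rw [hs, ← mul_assoc, D.t0_sq, one_mul]
    have hsU : ∃ g, g⁻¹ * s * g ∈ D.U := by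
      by_contra hcon
      obtain ⟨w, hw⟩ := D.isOT_of_not_U hs1 hcon
      exact hw.notMem_of_sq hss hs1 (mem_cen.2 rfl)
    obtain ⟨g, hgU⟩ := hsU
    have hfx := D.Fx_U hs1 hgU
    have hfix : s • (g • D.inf) = g • D.inf := by
      have : g • D.inf ∈ Fx s := by rw [hfx]; rfl
      exact this
    rcases D.cases_pt (g • D.inf) with hp | ⟨a, b, hp⟩
    · exfalso
      have h4 := D.mem_U_conj (g := 1) hs1 hgU (by rw [one_smul, ← hp, hfix])
      rw [inv_one, one_mul, mul_one] at h4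
      apply hz.2
      have h5 := D.t0_comm h4
      rw [hzst]
      calc D.t0 * s * D.t0 = D.t0 * (s * D.t0) := by group
        _ = _ := by rw [← h5]
    · have h4 := D.mem_U_conj (g := D.tt a b * D.ww) hs1 hgU (by rw [hg, ← hp, hfix])
      obtain ⟨d, hd⟩ := D.eq_tt_of_sq h4 (by
        calc _ = (D.tt a b * D.ww)⁻¹ * (s * s) * (D.tt a b * D.ww) := by group
          _ = 1 := by rw [hss]; group)
      have hs' : s = (D.tt a b * D.ww) * D.tt 0 d * (D.tt a b * D.ww)⁻¹ := by rw [← hd]; group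
      have hd0 : d ≠ 0 := by
        rintro rfl
        rw [D.tt_zero] at hs'
        exact hs1 (by rw [hs']; group)
      refine ⟨((a, b), Units.mk0 d hd0), Subtype.ext ?_⟩
      show D.t0 * ((D.tt a b * D.ww) * D.tt 0 d * (D.tt a b * D.ww)⁻¹) = z
      rw [← hs', hzst]

/-- Number of inverted elements with fixed points. -/
theorem card_InvSet_H : 2 * Nat.card {z : Cfsg.Sz F m // D.InvSet z ∧ ∃ p : Om F m, z • p = p} =
    (2 ^ (2 * m + 1)) ^ 2 * (2 ^ (2 * m + 1) - 2) := by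
  classical
  have hfin : Finite (Cfsg.Sz F m) := inferInstance
  have hfin2 : Finite (Om F m) := inferInstance
  have := Fintype.ofFinite {z : Cfsg.Sz F m // D.InvSet z ∧ ∃ p : Om F m, z • p = p}
  -- H-type
  have htype : ∀ z : Cfsg.Sz F m, D.InvSet z → (∃ p : Om F m, z • p = p) → ∃ g, g⁻¹ * z * g ∈ D.H := by
    intro z hz hp
    rcases (D.fixed_iff hz.ne_one).1 hp with h | h
    · exact absurd h hz.notU
    · exact h
  have h1 : Nat.card (Σ z : {z : Cfsg.Sz F m // D.InvSet z ∧ ∃ p : Om F m, z • p = p}, Fx z.1) =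
      2 * Nat.card {z : Cfsg.Sz F m // D.InvSet z ∧ ∃ p : Om F m, z • p = p} := by
    rw [Nat.card_sigma]
    have : ∀ z : {z : Cfsg.Sz F m // D.InvSet z ∧ ∃ p : Om F m, z • p = p}, Nat.card (Fx z.1) = 2 := by
      intro z
      obtain ⟨g, hg⟩ := htype z.1 z.2.1 z.2.2
      rw [D.Fx_H z.2.1.ne_one hg, Nat.card_coe_set_eq, Set.ncard_pair]
      intro h
      exact D.pt_ne_inf 0 0 (smul_left_cancel g h).symm
    rw [Finset.sum_congr rfl (fun z _ => this z), Finset.sum_const, Finset.card_univ, Nat.card_eq_fintype_card, smul_eq_mul, mul_comm]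
  -- a fixed element moving the two points
  have htwo := D.two_trans
  rw [MulAction.is_two_pretransitive_iff] at htwo
  obtain ⟨k0, hk1, hk2⟩ := htwo (show D.inf ≠ D.pt 0 0 from (D.pt_ne_inf 0 0).symm)
    (show D.pt 0 0 ≠ D.pt 0 1 from fun h => zero_ne_one (D.pt_inj h).2)
  have hk : ∀ a b, (D.tt a b * k0) • D.inf = D.pt a b ∧ (D.tt a b * k0) • D.pt 0 0 = D.t0 • D.pt a b := by
    intro a b
    constructor
    · rw [mul_smul, hk1, D.tt_pt]; simp
    · rw [mul_smul, hk2, D.tt_pt]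
      show _ = D.tt 0 1 • D.pt a b
      rw [D.tt_pt]
      simp [add_comm]
  have hcardu : Nat.card {u : Fˣ // u ≠ 1} = 2 ^ (2 * m + 1) - 2 := by
    have h1 : Nat.card {a : Fˣ // a ≠ 1} + 1 = Nat.card Fˣ := by
      rw [← Finite.card_option]
      refine Nat.card_congr (Equiv.ofBijective (fun o => match o with | none => (1 : Fˣ) | some a => a.1) ⟨?_, ?_⟩)
      · rintro (_ | a) (_ | b) h
        · rfl
        · exact absurd h.symm b.2
        · exact absurd h a.2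
        · congr 1; exact Subtype.ext h
      · intro a
        by_cases ha : a = 1
        · exact ⟨none, ha.symm⟩
        · exact ⟨some ⟨a, ha⟩, rfl⟩
    rw [D.card_units] at h1
    omega
  have hne : ∀ (a b : F) (u : Fˣ), u ≠ 1 → (D.tt a b * k0) * D.hh u * (D.tt a b * k0)⁻¹ ≠ 1 := by
    intro a b u hu h
    rw [mul_inv_eq_one] at h
    have h1 : D.hh u = 1 := mul_left_cancel (a := D.tt a b * k0) (by rw [h, mul_one])
    rw [← D.hh_one] at h1
    exact hu (D.hh_inj h1)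
  have hFx : ∀ (a b : F) (u : Fˣ), u ≠ 1 → Fx ((D.tt a b * k0) * D.hh u * (D.tt a b * k0)⁻¹) = {D.pt a b, D.t0 • D.pt a b} := by
    intro a b u hu
    rw [← (hk a b).2, ← (hk a b).1]
    apply D.Fx_H (hne a b u hu)
    exact ⟨u, by group⟩
  have hInv : ∀ (a b : F) (u : Fˣ), u ≠ 1 → D.InvSet ((D.tt a b * k0) * D.hh u * (D.tt a b * k0)⁻¹) := by
    intro a b u hu
    set k := D.tt a b * k0 with hkdef
    set z := k * D.hh u * k⁻¹ with hz
    have hz1 : z ≠ 1 := hne a b u hu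
    have hzF : Fx z = {D.pt a b, D.t0 • D.pt a b} := hFx a b u hu
    have hzU : ¬ ∃ g, g⁻¹ * z * g ∈ D.U := fun h => D.not_both hz1 h ⟨k, u, by rw [hz]; group⟩
    obtain ⟨w, hw⟩ := D.isOT_of_not_U hz1 hzU
    -- `t0 z t0⁻¹` fixes the same points
    have htz : D.t0 * z * D.t0⁻¹ ∈ Cen z := by
      have f1 : z • D.pt a b = D.pt a b := by
        have : D.pt a b ∈ Fx z := by rw [hzF]; exact Or.inl rfl
        exact this
      have f2 : z • (D.t0 • D.pt a b) = D.t0 • D.pt a b := by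
        have : D.t0 • D.pt a b ∈ Fx z := by rw [hzF]; exact Or.inr rfl
        exact this
      have g1 : (k⁻¹ * (D.t0 * z * D.t0⁻¹) * k) • D.inf = D.inf := by
        rw [mul_smul, mul_smul, (hk a b).1, mul_smul, mul_smul, D.t0_inv, f2, ← mul_smul D.t0 D.t0, D.t0_sq, one_smul,
          ← (hk a b).1, inv_smul_smul]
      have g2 : (k⁻¹ * (D.t0 * z * D.t0⁻¹) * k) • D.pt 0 0 = D.pt 0 0 := by
        rw [mul_smul, mul_smul, (hk a b).2, mul_smul, mul_smul, inv_smul_smul, f1, ← (hk a b).2, inv_smul_smul]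
      obtain ⟨v, hv⟩ := D.exists_hh g1 g2
      apply mem_cen.2
      have e : D.t0 * z * D.t0⁻¹ = k * D.hh v * k⁻¹ := by rw [← hv]; group
      rw [e, hz]
      calc k * D.hh u * k⁻¹ * (k * D.hh v * k⁻¹) = k * (D.hh u * D.hh v) * k⁻¹ := by group
        _ = k * (D.hh v * D.hh u) * k⁻¹ := by rw [D.hh_mul, D.hh_mul, mul_comm]
        _ = _ := by group
    have htN := D.mem_norm_of hw hz1 htz
    exact InvSet.of_cen hw htN (mem_cen.2 rfl) hz1
  have h2 : Nat.card ((F × F) × {u : Fˣ // u ≠ 1}) =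
      Nat.card (Σ z : {z : Cfsg.Sz F m // D.InvSet z ∧ ∃ p : Om F m, z • p = p}, Fx z.1) := by
    refine Nat.card_congr (Equiv.ofBijective (fun x : (F × F) × {u : Fˣ // u ≠ 1} =>
      (⟨⟨(D.tt x.1.1 x.1.2 * k0) * D.hh x.2.1 * (D.tt x.1.1 x.1.2 * k0)⁻¹, hInv _ _ _ x.2.2, D.pt x.1.1 x.1.2, ?_⟩,
        ⟨D.pt x.1.1 x.1.2, ?_⟩⟩ : Σ z : {z : Cfsg.Sz F m // D.InvSet z ∧ ∃ p : Om F m, z • p = p}, Fx z.1)) ⟨?_, ?_⟩)
    · have : D.pt x.1.1 x.1.2 ∈ Fx ((D.tt x.1.1 x.1.2 * k0) * D.hh x.2.1 * (D.tt x.1.1 x.1.2 * k0)⁻¹) := by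
        rw [hFx _ _ _ x.2.2]; exact Or.inl rfl
      exact this
    · rw [hFx _ _ _ x.2.2]; exact Or.inl rfl
    · rintro ⟨⟨a, b⟩, u, hu⟩ ⟨⟨a', b'⟩, u', hu'⟩ h
      have e1 : D.pt a b = D.pt a' b' :=
        congrArg (fun s : (Σ z : {z : Cfsg.Sz F m // D.InvSet z ∧ ∃ p : Om F m, z • p = p}, Fx z.1) => (s.2 : Om F m)) h
      have e2 : (D.tt a b * k0) * D.hh u * (D.tt a b * k0)⁻¹ = (D.tt a' b' * k0) * D.hh u' * (D.tt a' b' * k0)⁻¹ :=
        congrArg (fun s : (Σ z : {z : Cfsg.Sz F m // D.InvSet z ∧ ∃ p : Om F m, z • p = p}, Fx z.1) => (s.1 : Cfsg.Sz F m)) h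
      obtain ⟨rfl, rfl⟩ := D.pt_inj e1
      have e3 := D.hh_inj (mul_left_cancel (mul_right_cancel e2))
      subst e3
      rfl
    · rintro ⟨⟨z, hz, hz'⟩, ⟨p, hp⟩⟩
      have hpf : z • p = p := hp
      have hpi : p ≠ D.inf := by
        rintro rfl
        exact hz.notB hpf
      rcases D.cases_pt p with h | ⟨a, b, rfl⟩
      · exact absurd h hpi
      have hpf2 := D.inv_fix hz.1 hpf
      obtain ⟨u, hu⟩ := D.exists_hh (g := (D.tt a b * k0)⁻¹ * z * (D.tt a b * k0))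
        (by rw [mul_smul, mul_smul, (hk a b).1, hpf, ← (hk a b).1, inv_smul_smul])
        (by rw [mul_smul, mul_smul, (hk a b).2, hpf2, ← (hk a b).2, inv_smul_smul])
      have hzz : z = (D.tt a b * k0) * D.hh u * (D.tt a b * k0)⁻¹ := by rw [← hu]; group
      have hu1 : u ≠ 1 := by
        rintro rfl
        rw [D.hh_one] at hzz
        exact hz.ne_one (by rw [hzz]; group)
      subst hzz
      exact ⟨((a, b), ⟨u, hu1⟩), rfl⟩
  rw [← h1, ← h2, Nat.card_prod, Nat.card_prod, hcardu, D.card_F, pow_two]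

/-- Number of inverted elements without fixed points. -/
theorem card_InvSet_A : 2 * Nat.card {z : Cfsg.Sz F m // D.InvSet z ∧ ¬ ∃ p : Om F m, z • p = p} =
    (2 ^ (2 * m + 1)) ^ 3 := by
  classical
  have hfin : Finite (Cfsg.Sz F m) := inferInstance
  have h1 := D.card_InvSet
  have h2 := D.card_InvSet_H
  have h3 : Nat.card {z : Cfsg.Sz F m // D.InvSet z} = Nat.card {z : Cfsg.Sz F m // D.InvSet z ∧ ∃ p : Om F m, z • p = p} +
      Nat.card {z : Cfsg.Sz F m // D.InvSet z ∧ ¬ ∃ p : Om F m, z • p = p} := by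
    rw [← Nat.card_sum]
    refine Nat.card_congr (Equiv.ofBijective (fun z : {z : Cfsg.Sz F m // D.InvSet z} =>
      if h : ∃ p : Om F m, z.1 • p = p then Sum.inl ⟨z.1, z.2, h⟩ else Sum.inr ⟨z.1, z.2, h⟩) ⟨?_, ?_⟩)
    · rintro ⟨z, hz⟩ ⟨z', hz'⟩ h
      by_cases h1 : ∃ p : Om F m, z • p = p <;> by_cases h2 : ∃ p : Om F m, z' • p = p
      · simp only [h1, h2, dif_pos] at h
        have h' := Sum.inl.inj h
        exact Subtype.ext (Subtype.mk.inj h')
      · simp only [h1, h2, dif_pos, dif_neg, not_false_eq_true] at h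
        exact absurd h (by simp)
      · simp only [h1, h2, dif_pos, dif_neg, not_false_eq_true] at h
        exact absurd h (by simp)
      · simp only [h1, h2, dif_neg, not_false_eq_true] at h
        have h' := Sum.inr.inj h
        exact Subtype.ext (Subtype.mk.inj h')
    · rintro (⟨z, hz, h⟩ | ⟨z, hz, h⟩)
      · exact ⟨⟨z, hz⟩, by simp only [h, dif_pos]⟩
      · exact ⟨⟨z, hz⟩, by simp only [h, dif_neg, not_false_eq_true]⟩
  have hq := D.q_ge
  obtain ⟨r, hr⟩ : ∃ r, 2 ^ (2 * m + 1) = r + 2 := ⟨2 ^ (2 * m + 1) - 2, by omega⟩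
  rw [hr] at h1 h2 ⊢
  rw [show r + 2 - 1 = r + 1 from rfl] at h1
  rw [show r + 2 - 2 = r from rfl] at h2
  nlinarith [h1, h2, h3]

end Dat

end Cfsg.Agent.H8.Suz
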