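import Mathlib
import Cfsg.Prelude.Def_LieExceptional
import Cfsg.Agent.H8.SuzSolNum

set_option autoImplicit false

/-! Solubilizers in the Suzuki group: the counts. -/

namespace Cfsg.Agent.H8.Suz

open Matrix MulAction Cfsg.Agent.H8.OddTor

theorem sum_two_vals {α : Type*} [Finite α] (Q P : α → Prop) (f : α → ℕ) (a b : ℕ) (h1 : ∀ z, Q z → P z → f z = a)
    (h2 : ∀ z, Q z → ¬ P z → f z = b) [Fintype {z // Q z}] :
    ∑ z : {z // Q z}, f z.1 = a * Nat.card {z // Q z ∧ P z} + b * Nat.card {z // Q z ∧ ¬ P z} := by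
  classical
  rw [← Finset.sum_filter_add_sum_filter_not Finset.univ (fun z : {z // Q z} => P z.1)]
  rw [Finset.sum_congr rfl (g := fun _ => a) (fun z hz => h1 z.1 z.2 (Finset.mem_filter.1 hz).2),
    Finset.sum_congr (s₁ := Finset.univ.filter (fun z : {z // Q z} => ¬ P z.1)) rfl (g := fun _ => b)
      (fun z hz => h2 z.1 z.2 (Finset.mem_filter.1 hz).2)]
  rw [Finset.sum_const, Finset.sum_const, smul_eq_mul, smul_eq_mul, mul_comm a, mul_comm b]
  congr 2
  · rw [← Fintype.card_subtype, ← Nat.card_eq_fintype_card]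
    exact Nat.card_congr (Equiv.subtypeSubtypeEquivSubtypeInter Q P)
  · rw [← Fintype.card_subtype, ← Nat.card_eq_fintype_card]
    exact Nat.card_congr (Equiv.subtypeSubtypeEquivSubtypeInter Q (fun z => ¬ P z))

variable {F : Type*} [Field F] [Fintype F] {m : ℕ} (D : Dat F m)

namespace Dat

include D

theorem comm_of_root {x : Cfsg.Sz F m} (hx : x * x = D.t0) : D.t0 * x = x * D.t0 := by rw [← hx]; group

theorem card_PP_H {z : Cfsg.Sz F m} (hz : D.InvSet z) (h : ∃ p : Om F m, z • p = p) : Nat.card (D.PP z) = 2 := by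
  rcases D.tor_cases hz.ne_one with h1 | ⟨-, h1, -⟩ | ⟨h1, -, -⟩
  · exact absurd h1 hz.notU
  · exact h1.card_P D.t0_sq D.t0_ne hz.norm
  · obtain ⟨p, hp⟩ := h
    exact absurd hp (h1 p)

theorem isOT_A {z : Cfsg.Sz F m} (hz : z ≠ 1) (h : ¬ ∃ p : Om F m, z • p = p) : IsOT (Cen z) 4 := by
  rcases D.tor_cases hz with h1 | ⟨h1, -, -⟩ | ⟨-, h1, -⟩
  · exact absurd ((D.fixed_iff hz).2 (Or.inl h1)) h
  · exact absurd ((D.fixed_iff hz).2 (Or.inr h1)) h
  · exact h1

theorem card_PP_A {z : Cfsg.Sz F m} (hz : D.InvSet z) (h : ¬ ∃ p : Om F m, z • p = p) : Nat.card (D.PP z) = 4 :=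
  (D.isOT_A hz.ne_one h).card_P D.t0_sq D.t0_ne hz.norm

/-- Solubilizer of an involution. -/
theorem sol_t0 : Nat.card {y : Cfsg.Sz F m // Group.IsSolvable (Subgroup.closure ({D.t0, y} : Set (Cfsg.Sz F m)))} =
    (2 ^ (2 * m + 1)) ^ 2 * (4 * 2 ^ (2 * m + 1) - 3) := by
  classical
  have hfin : Finite (Cfsg.Sz F m) := inferInstance
  have := Fintype.ofFinite {z : Cfsg.Sz F m // D.InvSet z ∧ D.t0 ∈ Subgroup.normalizer (Cen z : Set (Cfsg.Sz F m))}
  rw [D.card_sol_aux (Or.inl rfl), Nat.card_sigma,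
    sum_two_vals (fun z : Cfsg.Sz F m => D.InvSet z ∧ D.t0 ∈ Subgroup.normalizer (Cen z : Set (Cfsg.Sz F m)))
      (fun z => ∃ p : Om F m, z • p = p) (fun z => Nat.card (D.PP z)) 2 4 (fun z hz hp => D.card_PP_H hz.1 hp)
      (fun z hz hp => D.card_PP_A hz.1 hp)]
  have e1 : Nat.card {z : Cfsg.Sz F m // (D.InvSet z ∧ D.t0 ∈ Subgroup.normalizer (Cen z : Set (Cfsg.Sz F m))) ∧ ∃ p : Om F m, z • p = p} =
      Nat.card {z : Cfsg.Sz F m // D.InvSet z ∧ ∃ p : Om F m, z • p = p} :=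
    Nat.card_congr (Equiv.subtypeEquivRight (fun z => ⟨fun h => ⟨h.1.1, h.2⟩, fun h => ⟨⟨h.1, h.1.norm⟩, h.2⟩⟩))
  have e2 : Nat.card {z : Cfsg.Sz F m // (D.InvSet z ∧ D.t0 ∈ Subgroup.normalizer (Cen z : Set (Cfsg.Sz F m))) ∧ ¬ ∃ p : Om F m, z • p = p} =
      Nat.card {z : Cfsg.Sz F m // D.InvSet z ∧ ¬ ∃ p : Om F m, z • p = p} :=
    Nat.card_congr (Equiv.subtypeEquivRight (fun z => ⟨fun h => ⟨h.1.1, h.2⟩, fun h => ⟨⟨h.1, h.1.norm⟩, h.2⟩⟩))
  rw [e1, e2, D.card_B]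
  have h1 := D.card_InvSet_H
  have h2 := D.card_InvSet_A
  have hq := D.q_ge
  obtain ⟨r, hr⟩ : ∃ r, 2 ^ (2 * m + 1) = r + 2 := ⟨2 ^ (2 * m + 1) - 2, by omega⟩
  rw [hr] at h1 h2 ⊢
  rw [show r + 2 - 1 = r + 1 from rfl]
  rw [show r + 2 - 2 = r from rfl] at h1
  rw [show 4 * (r + 2) - 3 = 4 * r + 5 by omega]
  nlinarith [h1, h2]

/-- Roots of `t0`. -/
theorem root_iff {x : Cfsg.Sz F m} : x * x = D.t0 ↔ ∃ b, x = D.tt 1 b := by
  constructor
  · intro h
    have hxt : D.t0 * x = x * D.t0 := by rw [← h]; group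
    obtain ⟨a, b, rfl⟩ := D.centralizer_U D.t0_mem D.t0_ne hxt
    rw [D.tt_sq] at h
    have h1 : D.θ a * a = 1 := (D.tt_inj (a := 0) (c := 0) h).2
    have ha0 : a ≠ 0 := by rintro rfl; rw [mul_zero] at h1; exact zero_ne_one h1
    have h2 : a ^ 2 * D.θ a = 1 := by
      have := congrArg D.θ h1
      rw [map_mul, D.hθ, map_one] at this; exact this
    have ha : a = 1 := by
      have h3 : a * (D.θ a * a) = 1 := by rw [← h2]; ring
      rw [h1, mul_one] at h3; exact h3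
    exact ⟨b, by rw [ha]⟩
  · rintro ⟨b, rfl⟩
    rw [D.tt_sq, map_one, mul_one]; rfl

theorem card_roots : Nat.card {x : Cfsg.Sz F m // x * x = D.t0} = 2 ^ (2 * m + 1) := by
  rw [← D.card_F]
  symm
  refine Nat.card_congr (Equiv.ofBijective (fun b : F => (⟨D.tt 1 b, D.root_iff.2 ⟨b, rfl⟩⟩ : {x : Cfsg.Sz F m // x * x = D.t0})) ⟨?_, ?_⟩)
  · intro b c h; exact (D.tt_inj (congrArg Subtype.val h)).2
  · rintro ⟨x, hx⟩
    obtain ⟨b, rfl⟩ := D.root_iff.1 hx
    exact ⟨b, rfl⟩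

theorem index_two (b : F) : (∃ c, c + D.θ c = b) ∨ (∃ c, c + D.θ c = b + 1) := by
  classical
  have hchar := D.char
  let f : F →+ F := { toFun := fun c => c + D.θ c, map_zero' := by simp, map_add' := fun x y => by rw [map_add]; ring }
  have hker : Nat.card f.ker = 2 := by
    have : (f.ker : Set F) = {0, 1} := by
      ext c
      constructor
      · intro hc
        have h1 : c + D.θ c = 0 := hc
        have h2 : D.θ c = c := by grind
        rcases D.theta_eq_self h2 with h | h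
        · exact Or.inl h
        · exact Or.inr h
      · rintro (rfl | hc)
        · exact f.ker.zero_mem
        · rw [Set.mem_singleton_iff.1 hc]
          show (1 : F) + D.θ 1 = 0
          rw [map_one]; exact CharTwo.add_self_eq_zero 1
    have h2 : Nat.card (f.ker : Set F) = 2 := by rw [this, Nat.card_coe_set_eq, Set.ncard_pair zero_ne_one]
    exact h2
  have hidx : f.range.index = 2 := by
    have h1 := AddSubgroup.card_mul_index f.ker
    have h2 : f.ker.index = Nat.card f.range := AddSubgroup.index_ker f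
    have h3 := f.range.card_mul_index
    rw [hker, h2] at h1
    have hpos : 0 < Nat.card f.range := Nat.card_pos
    have : Nat.card f.range * f.range.index = Nat.card f.range * 2 := by rw [h3, ← h1, mul_comm]
    exact Nat.eq_of_mul_eq_mul_left hpos this
  by_cases hb : b ∈ f.range
  · obtain ⟨c, hc⟩ := hb
    exact Or.inl ⟨c, hc⟩
  · right
    have h1 : (1 : F) ∉ f.range := by
      rintro ⟨c, hc⟩
      have hc' : c + D.θ c = 1 := hc
      have h2 : D.θ c = c + 1 := by grind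
      have h3 : D.θ (D.θ c) = c := by rw [h2, map_add, map_one, h2]; grind
      rw [D.hθ] at h3
      have h4 : c = 0 ∨ c = 1 := by
        have : c * (c - 1) = 0 := by linear_combination h3
        rcases mul_eq_zero.1 this with h | h
        · exact Or.inl h
        · exact Or.inr (sub_eq_zero.1 h)
      rcases h4 with rfl | rfl
      · rw [map_zero, add_zero] at hc'; exact zero_ne_one hc'
      · rw [map_one, CharTwo.add_self_eq_zero] at hc'; exact zero_ne_one hc'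
    have h2 : b + 1 ∈ f.range := (AddSubgroup.add_mem_iff_of_index_two hidx).2 ⟨fun h => absurd h hb, fun h => absurd h h1⟩
    obtain ⟨c, hc⟩ := h2
    exact ⟨c, hc⟩

/-- Roots of `t0` are conjugate or inverse-conjugate under `U`. -/
theorem root_conj {x : Cfsg.Sz F m} (hx : x * x = D.t0) : ∃ u ∈ D.U, x = u * D.tt 1 0 * u⁻¹ ∨ x = u * (D.tt 1 0)⁻¹ * u⁻¹ := by
  have hchar := D.char
  obtain ⟨b, rfl⟩ := D.root_iff.1 hx
  have key : ∀ c b, D.tt c 0 * D.tt 1 b * (D.tt c 0)⁻¹ = D.tt 1 (b + (c + D.θ c)) := by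
    intro c b
    have e : D.tt c 0 * D.tt 1 b * (D.tt c 0)⁻¹ = (D.tt c 0 * D.tt 1 b * (D.tt c 0)⁻¹ * (D.tt 1 b)⁻¹) * D.tt 1 b := by group
    rw [e, D.tt_comm, D.tt_mul, map_one, map_zero]
    congr 1
    · grind
    · grind
  rcases D.index_two b with ⟨c, hc⟩ | ⟨c, hc⟩
  · refine ⟨D.tt c 0, ⟨c, 0, rfl⟩, Or.inl ?_⟩
    rw [key, hc, zero_add]
  · refine ⟨D.tt c 0, ⟨c, 0, rfl⟩, Or.inr ?_⟩
    rw [D.tt_inv, key, hc, map_one]
    congr 1
    grind

theorem conj_InvSet {z u : Cfsg.Sz F m} (hu : u ∈ D.U) : D.InvSet (u * z * u⁻¹) ↔ D.InvSet z := by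
  have h1 := D.t0_comm hu
  have e1 : D.t0 * (u * z * u⁻¹) * D.t0⁻¹ = u * (D.t0 * z * D.t0⁻¹) * u⁻¹ := by
    calc _ = (D.t0 * u) * z * (D.t0 * u)⁻¹ := by group
      _ = (u * D.t0) * z * (u * D.t0)⁻¹ := by rw [h1]
      _ = _ := by group
  have e2 : (u * z * u⁻¹)⁻¹ = u * z⁻¹ * u⁻¹ := by group
  have e3 : u * z * u⁻¹ * D.t0 = u * (z * D.t0) * u⁻¹ := by
    have : u⁻¹ * D.t0 = D.t0 * u⁻¹ := by
      calc u⁻¹ * D.t0 = u⁻¹ * (D.t0 * u) * u⁻¹ := by group
        _ = u⁻¹ * (u * D.t0) * u⁻¹ := by rw [h1]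
        _ = _ := by group
    calc _ = u * z * (u⁻¹ * D.t0) := by group
      _ = u * z * (D.t0 * u⁻¹) := by rw [this]
      _ = _ := by group
  have e4 : D.t0 * (u * z * u⁻¹) = u * (D.t0 * z) * u⁻¹ := by
    calc _ = (D.t0 * u) * z * u⁻¹ := by group
      _ = (u * D.t0) * z * u⁻¹ := by rw [h1]
      _ = _ := by group
  unfold InvSet
  rw [e1, e2, e3, e4]
  constructor
  · rintro ⟨h2, h3⟩
    exact ⟨mul_left_cancel (mul_right_cancel h2), fun h => h3 (by rw [h])⟩
  · rintro ⟨h2, h3⟩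
    exact ⟨by rw [h2], fun h => h3 (mul_left_cancel (mul_right_cancel h))⟩

omit [Fintype F] in
omit D in
theorem mem_norm_conj {z u x : Cfsg.Sz F m} :
    u * x * u⁻¹ ∈ Subgroup.normalizer (Cen (u * z * u⁻¹) : Set (Cfsg.Sz F m)) ↔ x ∈ Subgroup.normalizer (Cen z : Set (Cfsg.Sz F m)) := by
  have e := cen_map (u * z * u⁻¹) u
  have e' : u⁻¹ * (u * z * u⁻¹) * u = z := by group
  rw [e'] at e
  rw [show Cen (u * z * u⁻¹) = (Cen z).map (MulAut.conj u).toMonoidHom from e, ← Subgroup.map_equiv_normalizer_eq]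
  constructor
  · rintro ⟨y, hy, hyx⟩
    have h1 : u * y * u⁻¹ = u * x * u⁻¹ := hyx
    rw [← mul_left_cancel (mul_right_cancel h1)]; exact hy
  · intro h
    exact ⟨x, h, rfl⟩

theorem n_root (x : Cfsg.Sz F m) (hx : x * x = D.t0) :
    Nat.card {z : Cfsg.Sz F m // D.InvSet z ∧ x ∈ Subgroup.normalizer (Cen z : Set (Cfsg.Sz F m))} =
    Nat.card {z : Cfsg.Sz F m // D.InvSet z ∧ D.tt 1 0 ∈ Subgroup.normalizer (Cen z : Set (Cfsg.Sz F m))} := by
  have key : ∀ (u : Cfsg.Sz F m), u ∈ D.U → ∀ y : Cfsg.Sz F m,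
      Nat.card {z : Cfsg.Sz F m // D.InvSet z ∧ u * y * u⁻¹ ∈ Subgroup.normalizer (Cen z : Set (Cfsg.Sz F m))} =
      Nat.card {z : Cfsg.Sz F m // D.InvSet z ∧ y ∈ Subgroup.normalizer (Cen z : Set (Cfsg.Sz F m))} := by
    intro u hu y
    symm
    refine Nat.card_congr (Equiv.subtypeEquiv (MulAut.conj u).toEquiv (fun z => ?_))
    show _ ↔ D.InvSet (u * z * u⁻¹) ∧ u * y * u⁻¹ ∈ Subgroup.normalizer (Cen (u * z * u⁻¹) : Set (Cfsg.Sz F m))
    rw [D.conj_InvSet hu, mem_norm_conj]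
  obtain ⟨u, hu, h | h⟩ := D.root_conj hx
  · rw [h, key u hu]
  · rw [h, key u hu]
    exact Nat.card_congr (Equiv.subtypeEquivRight (fun z => by rw [Subgroup.inv_mem_iff]))

omit [Field F] [Fintype F] in
omit D in
/-- In a group of order four with a unique involution, it has two roots. -/
theorem two_roots {P : Type*} [Group P] (h4 : Nat.card P = 4) (t : P) (ht : t * t = 1) (ht1 : t ≠ 1)
    (huniq : ∀ s : P, s * s = 1 → s ≠ 1 → s = t) : Nat.card {x : P // x * x = t} = 2 := by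
  classical
  have hfin : Finite P := Nat.finite_of_card_ne_zero (by rw [h4]; norm_num)
  have := Fintype.ofFinite P
  have h1 : ∀ x : P, x * x = t ∨ x = 1 ∨ x = t := by
    intro x
    by_cases hx : x * x = 1
    · right
      by_cases hx1 : x = 1
      · exact Or.inl hx1
      · exact Or.inr (huniq x hx hx1)
    · left
      apply huniq _ _ hx
      have : x ^ Nat.card P = 1 := pow_card_eq_one'
      rw [h4] at this
      calc x * x * (x * x) = x ^ (2 + 2) := by rw [pow_add, pow_two]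
        _ = 1 := this
  have e : Nat.card P = Nat.card {x : P // x * x = t} + 2 := by
    have h3 : Nat.card {x : P // ¬ (x * x = t)} = 2 := by
      have : {x : P | ¬ (x * x = t)} = {1, t} := by
        ext x
        constructor
        · intro hx
          rcases h1 x with h | h | h
          · exact absurd h hx
          · exact Or.inl h
          · exact Or.inr h
        · rintro (rfl | hx)
          · intro h; rw [mul_one] at h; exact ht1 h.symm
          · rw [Set.mem_singleton_iff.1 hx]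
            intro h
            exact ht1 (h.symm.trans ht)
      have h2 : Nat.card ({x : P | ¬ (x * x = t)} : Set P) = 2 := by
        rw [this, Nat.card_coe_set_eq, Set.ncard_pair ht1.symm]
      exact h2
    rw [← h3, ← Nat.card_sum]
    exact Nat.card_congr (Equiv.sumCompl (fun x : P => x * x = t)).symm
  omega

theorem n_root_eq : Nat.card {z : Cfsg.Sz F m // D.InvSet z ∧ D.tt 1 0 ∈ Subgroup.normalizer (Cen z : Set (Cfsg.Sz F m))} =
    (2 ^ (2 * m + 1)) ^ 2 := by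
  classical
  have hfin : Finite (Cfsg.Sz F m) := inferInstance
  set n := Nat.card {z : Cfsg.Sz F m // D.InvSet z ∧ D.tt 1 0 ∈ Subgroup.normalizer (Cen z : Set (Cfsg.Sz F m))} with hn
  have f1 := Fintype.ofFinite {x : Cfsg.Sz F m // x * x = D.t0}
  have f2 := Fintype.ofFinite {z : Cfsg.Sz F m // D.InvSet z ∧ ¬ ∃ p : Om F m, z • p = p}
  have h1 : Nat.card (Σ x : {x : Cfsg.Sz F m // x * x = D.t0},
      {z : Cfsg.Sz F m // D.InvSet z ∧ x.1 ∈ Subgroup.normalizer (Cen z : Set (Cfsg.Sz F m))}) = 2 ^ (2 * m + 1) * n := by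
    rw [Nat.card_sigma, Finset.sum_congr rfl (fun x _ => D.n_root x.1 x.2), Finset.sum_const, Finset.card_univ,
      ← Nat.card_eq_fintype_card, D.card_roots, smul_eq_mul]
  have h2 : Nat.card (Σ z : {z : Cfsg.Sz F m // D.InvSet z ∧ ¬ ∃ p : Om F m, z • p = p},
      {x : Cfsg.Sz F m // x * x = D.t0 ∧ x ∈ Subgroup.normalizer (Cen z.1 : Set (Cfsg.Sz F m))}) = (2 ^ (2 * m + 1)) ^ 3 := by
    rw [Nat.card_sigma, ← D.card_InvSet_A, Nat.card_eq_fintype_card, mul_comm]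
    rw [← smul_eq_mul, ← Finset.card_univ, ← Finset.sum_const]
    apply Finset.sum_congr rfl
    rintro ⟨z, hz, hzp⟩ -
    have hOT := D.isOT_A hz.ne_one hzp
    have h3 := two_roots (D.card_PP_A hz hzp) ⟨D.t0, D.mem_PP.2 ⟨hz.norm, rfl⟩⟩ (Subtype.ext D.t0_sq)
      (fun h => D.t0_ne (congrArg Subtype.val h)) (by
        rintro ⟨s, hs⟩ hss hs1
        have hs' := D.mem_PP.1 hs
        apply Subtype.ext
        apply hOT.unique_inv (congrArg Subtype.val hss) (fun h => hs1 (Subtype.ext h)) D.t0_sq D.t0_ne hs'.1 hz.norm hs'.2.symm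
        intro hbot
        have hzc : z ∈ Cen z := mem_cen.2 rfl
        rw [hbot] at hzc
        exact hz.ne_one (Subgroup.mem_bot.1 hzc))
    rw [← h3]
    refine Nat.card_congr (Equiv.ofBijective (fun x : {x : Cfsg.Sz F m // x * x = D.t0 ∧ x ∈ Subgroup.normalizer (Cen z : Set (Cfsg.Sz F m))} =>
      (⟨⟨x.1, D.mem_PP.2 ⟨x.2.2, ?_⟩⟩, ?_⟩ : {x : D.PP z // x * x = ⟨D.t0, D.mem_PP.2 ⟨hz.norm, rfl⟩⟩})) ⟨?_, ?_⟩)
    · exact D.comm_of_root x.2.1
    · exact Subtype.ext x.2.1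
    · intro x y h
      exact Subtype.ext (congrArg (fun s : {x : D.PP z // x * x = ⟨D.t0, D.mem_PP.2 ⟨hz.norm, rfl⟩⟩} => (s.1 : Cfsg.Sz F m)) h)
    · rintro ⟨⟨x, hx⟩, hxx⟩
      exact ⟨⟨x, congrArg Subtype.val hxx, (D.mem_PP.1 hx).1⟩, rfl⟩
  have h3 : Nat.card (Σ x : {x : Cfsg.Sz F m // x * x = D.t0},
      {z : Cfsg.Sz F m // D.InvSet z ∧ x.1 ∈ Subgroup.normalizer (Cen z : Set (Cfsg.Sz F m))}) =
      Nat.card (Σ z : {z : Cfsg.Sz F m // D.InvSet z ∧ ¬ ∃ p : Om F m, z • p = p},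
      {x : Cfsg.Sz F m // x * x = D.t0 ∧ x ∈ Subgroup.normalizer (Cen z.1 : Set (Cfsg.Sz F m))}) := by
    refine Nat.card_congr {
      toFun := fun s => ⟨⟨s.2.1, s.2.2.1, ?_⟩, ⟨s.1.1, s.1.2, s.2.2.2⟩⟩
      invFun := fun s => ⟨⟨s.2.1, s.2.2.1⟩, ⟨s.1.1, s.1.2.1, s.2.2.2⟩⟩
      left_inv := fun _ => rfl
      right_inv := fun _ => rfl }
    intro hp
    have h4 := D.card_PP_H s.2.2.1 hp
    -- `x` has order four in a group of order two
    have hmem : s.1.1 ∈ D.PP s.2.1 := D.mem_PP.2 ⟨s.2.2.2, D.comm_of_root s.1.2⟩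
    have h5 : (⟨s.1.1, hmem⟩ : D.PP s.2.1) ^ Nat.card (D.PP s.2.1) = 1 := pow_card_eq_one'
    rw [h4, pow_two] at h5
    have h6 : s.1.1 * s.1.1 = 1 := congrArg Subtype.val h5
    rw [s.1.2] at h6
    exact D.t0_ne h6
  rw [h1, h2] at h3
  have hpos : 0 < 2 ^ (2 * m + 1) := by positivity
  apply Nat.eq_of_mul_eq_mul_left hpos
  rw [h3]; ring

/-- Solubilizer of an element of order four. -/
theorem sol_root {x : Cfsg.Sz F m} (hx : x * x = D.t0) :
    Nat.card {y : Cfsg.Sz F m // Group.IsSolvable (Subgroup.closure ({x, y} : Set (Cfsg.Sz F m)))} =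
    (2 ^ (2 * m + 1)) ^ 2 * (2 ^ (2 * m + 1) + 3) := by
  classical
  have hfin : Finite (Cfsg.Sz F m) := inferInstance
  have := Fintype.ofFinite {z : Cfsg.Sz F m // D.InvSet z ∧ x ∈ Subgroup.normalizer (Cen z : Set (Cfsg.Sz F m))}
  have hnp : ∀ z : Cfsg.Sz F m, D.InvSet z → x ∈ Subgroup.normalizer (Cen z : Set (Cfsg.Sz F m)) → ¬ ∃ p : Om F m, z • p = p := by
    intro z hz hxN hp
    have h4 := D.card_PP_H hz hp
    have hmem : x ∈ D.PP z := D.mem_PP.2 ⟨hxN, by rw [← hx]; group⟩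
    have h5 : (⟨x, hmem⟩ : D.PP z) ^ Nat.card (D.PP z) = 1 := pow_card_eq_one'
    rw [h4, pow_two] at h5
    have h6 : x * x = 1 := congrArg Subtype.val h5
    rw [hx] at h6
    exact D.t0_ne h6
  rw [D.card_sol_aux (Or.inr hx), Nat.card_sigma,
    Finset.sum_congr rfl (fun z _ => D.card_PP_A z.2.1 (hnp z.1 z.2.1 z.2.2)), Finset.sum_const, Finset.card_univ,
    ← Nat.card_eq_fintype_card, D.n_root x hx, D.n_root_eq, D.card_B, smul_eq_mul, ← mul_add]
  congr 1
  have := D.q_ge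
  omega

/-- Odd order elements of the normaliser are in the torus. -/
theorem odd_mem {z x : Cfsg.Sz F m} {w : ℕ} (hw : IsOT (Cen z) w) (hx : x ∈ Subgroup.normalizer (Cen z : Set (Cfsg.Sz F m)))
    (ho : ¬ 2 ∣ orderOf x) : x ∈ Cen z := by
  set N := Subgroup.normalizer (Cen z : Set (Cfsg.Sz F m)) with hN
  have hnorm : ((Cen z).subgroupOf N).Normal := Subgroup.normal_in_normalizer
  have hle : Cen z ≤ N := Subgroup.le_normalizer
  have hcard : Nat.card (N ⧸ (Cen z).subgroupOf N) = w := by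
    have h1 := ((Cen z).subgroupOf N).card_eq_card_quotient_mul_card_subgroup
    rw [hw.norm, Nat.card_congr (Subgroup.subgroupOfEquivOfLe hle).toEquiv] at h1
    exact (Nat.eq_of_mul_eq_mul_right Nat.card_pos h1).symm
  have h1 : (QuotientGroup.mk (⟨x, hx⟩ : N) : N ⧸ (Cen z).subgroupOf N) ^ 4 = 1 := by
    have h2 : (QuotientGroup.mk (⟨x, hx⟩ : N) : N ⧸ (Cen z).subgroupOf N) ^ w = 1 := by
      rw [← hcard]; exact pow_card_eq_one'
    have h4 : w ∣ 4 := by rcases hw.w24 with rfl | rfl <;> norm_num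
    obtain ⟨k, hk⟩ := h4
    have h5 : (QuotientGroup.mk (⟨x, hx⟩ : N) : N ⧸ (Cen z).subgroupOf N) ^ (w * k) = 1 := by rw [pow_mul, h2, one_pow]
    rwa [← hk] at h5
  have h2 : x ^ 4 ∈ Cen z := by
    have h3 : (QuotientGroup.mk ((⟨x, hx⟩ : N) ^ 4) : N ⧸ (Cen z).subgroupOf N) = 1 := h1
    rw [QuotientGroup.eq_one_iff, Subgroup.mem_subgroupOf] at h3
    exact h3
  -- `x` is a power of `x ^ 4`
  have hcop : Nat.Coprime 4 (orderOf x) := by
    have h5 : Nat.Coprime 2 (orderOf x) := (Nat.Prime.coprime_iff_not_dvd Nat.prime_two).2 ho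
    exact Nat.Coprime.pow_left 2 h5
  obtain ⟨k, hk⟩ := exists_pow_eq_self_of_coprime hcop
  rw [← hk]
  exact (Cen z).pow_mem h2 k

/-- Solubilizer of an element without fixed points. -/
theorem sol_A {x : Cfsg.Sz F m} (hx : x ≠ 1) (hp : ¬ ∃ p : Om F m, x • p = p) :
    Nat.card {y : Cfsg.Sz F m // Group.IsSolvable (Subgroup.closure ({x, y} : Set (Cfsg.Sz F m)))} =
    4 * Nat.card (Cen x) := by
  have hOT := D.isOT_A hx hp
  rw [← hOT.norm]
  refine Nat.card_congr (Equiv.subtypeEquivRight (fun y => ?_))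
  rw [D.solvable_pair hx]
  constructor
  · rintro (⟨p, h, -⟩ | ⟨z, hz1, hzU, hxN, hyN⟩)
    · exact absurd ⟨p, h⟩ hp
    · -- `x` of odd order in `N(Cen z)`, so in `Cen z`
      obtain ⟨w, hw⟩ := D.isOT_of_not_U hz1 hzU
      have hxz : x ∈ Cen z := D.odd_mem hw hxN (hOT.ordOdd (mem_cen.2 rfl))
      have e := D.cen_eq_of hw hxz hx
      have e' : Subgroup.normalizer (Cen x : Set (Cfsg.Sz F m)) = Subgroup.normalizer (Cen z : Set (Cfsg.Sz F m)) := by rw [e]
      rw [e']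
      exact hyN
  · intro hy
    right
    refine ⟨x, hx, fun h => hp ((D.fixed_iff hx).2 (Or.inl h)), Subgroup.le_normalizer (mem_cen.2 rfl), hy⟩

/-- Solubilizer of an element with two fixed points. -/
theorem sol_H {x : Cfsg.Sz F m} (hx : x ≠ 1) (hp : ∃ g, g⁻¹ * x * g ∈ D.H) :
    Nat.card {y : Cfsg.Sz F m // Group.IsSolvable (Subgroup.closure ({x, y} : Set (Cfsg.Sz F m)))} =
    2 * (2 ^ (2 * m + 1)) ^ 2 * (2 ^ (2 * m + 1) - 1) := by
  classical
  have hfin : Finite (Cfsg.Sz F m) := inferInstance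
  obtain ⟨g, hg⟩ := id hp
  have hFx := D.Fx_H hx hg
  have hnU : ¬ ∃ g, g⁻¹ * x * g ∈ D.U := fun h => D.not_both hx h hp
  obtain ⟨hOT, hcard⟩ : IsOT (Cen x) 2 ∧ Nat.card (Cen x) = 2 ^ (2 * m + 1) - 1 := by
    rcases D.tor_cases hx with h1 | ⟨-, h1, h2⟩ | ⟨h1, -, -⟩
    · exact absurd h1 hnU
    · exact ⟨h1, h2⟩
    · obtain ⟨p, hp'⟩ := (D.fixed_iff hx).2 (Or.inr hp)
      exact absurd hp' (h1 p)
  set p1 := g • D.inf with hp1
  set p2 := g • D.pt 0 0 with hp2
  have hne : p1 ≠ p2 := fun h => D.pt_ne_inf 0 0 (smul_left_cancel g h).symm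
  have hx1 : x • p1 = p1 := by
    have : p1 ∈ Fx x := by rw [hFx]; exact Or.inl rfl
    exact this
  have hx2 : x • p2 = p2 := by
    have : p2 ∈ Fx x := by rw [hFx]; exact Or.inr rfl
    exact this
  have hxor : ∀ p : Om F m, x • p = p → p = p1 ∨ p = p2 := by
    intro p hp
    have : p ∈ Fx x := hp
    rw [hFx] at this
    exact this
  -- the two stabilisers
  have hcen : ∀ y : Cfsg.Sz F m, y ∈ Cen x ↔ y • p1 = p1 ∧ y • p2 = p2 := by
    intro y
    constructor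
    · intro hy
      by_cases hy1 : y = 1
      · rw [hy1, one_smul, one_smul]; exact ⟨rfl, rfl⟩
      · have h1 := (D.comm_same hx hy1 (mem_cen.1 hy)).1
        rw [hFx] at h1
        refine ⟨?_, ?_⟩
        · have : p1 ∈ Fx y := by rw [← h1]; exact Or.inl rfl
          exact this
        · have : p2 ∈ Fx y := by rw [← h1]; exact Or.inr rfl
          exact this
    · rintro ⟨h1, h2⟩
      obtain ⟨v, hv⟩ := D.exists_hh (g := g⁻¹ * y * g) (by rw [mul_smul, mul_smul, ← hp1, h1, hp1, inv_smul_smul])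
        (by rw [mul_smul, mul_smul, ← hp2, h2, hp2, inv_smul_smul])
      obtain ⟨u, hu⟩ := hg
      apply mem_cen.2
      have e1 : x = g * D.hh u * g⁻¹ := by rw [← hu]; group
      have e2 : y = g * D.hh v * g⁻¹ := by rw [← hv]; group
      rw [e1, e2]
      calc g * D.hh u * g⁻¹ * (g * D.hh v * g⁻¹) = g * (D.hh u * D.hh v) * g⁻¹ := by group
        _ = g * (D.hh v * D.hh u) * g⁻¹ := by rw [D.hh_mul, D.hh_mul, mul_comm]
        _ = _ := by group
  have hnorm : ∀ y : Cfsg.Sz F m, y ∈ Subgroup.normalizer (Cen x : Set (Cfsg.Sz F m)) →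
      (y • p1 = p1 ∧ y • p2 = p2) ∨ (y • p1 = p2 ∧ y • p2 = p1) := by
    intro y hy
    have h1 : y⁻¹ * x * y ∈ Cen x := (Subgroup.mem_normalizer_iff''.1 hy x).1 (mem_cen.2 rfl)
    rw [hcen] at h1
    have f1 : x • (y • p1) = y • p1 := by
      have := congrArg (fun t => y • t) h1.1
      simpa [mul_smul] using this
    have f2 : x • (y • p2) = y • p2 := by
      have := congrArg (fun t => y • t) h1.2
      simpa [mul_smul] using this
    rcases hxor _ f1 with h3 | h3 <;> rcases hxor _ f2 with h4 | h4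
    · exact absurd (smul_left_cancel y (h3.trans h4.symm)) hne
    · exact Or.inl ⟨h3, h4⟩
    · exact Or.inr ⟨h3, h4⟩
    · exact absurd (smul_left_cancel y (h3.trans h4.symm)) hne
  -- the set of solutions
  set S1 : Set (Cfsg.Sz F m) := (MulAction.stabilizer (Cfsg.Sz F m) p1 : Set (Cfsg.Sz F m)) with hS1
  set S2 : Set (Cfsg.Sz F m) := (MulAction.stabilizer (Cfsg.Sz F m) p2 : Set (Cfsg.Sz F m)) with hS2
  set N : Set (Cfsg.Sz F m) := (Subgroup.normalizer (Cen x : Set (Cfsg.Sz F m)) : Set (Cfsg.Sz F m)) with hN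
  have hset : {y : Cfsg.Sz F m | Group.IsSolvable (Subgroup.closure ({x, y} : Set (Cfsg.Sz F m)))} =
      (S1 ∪ S2) ∪ (N \ (Cen x : Set (Cfsg.Sz F m))) := by
    ext y
    show Group.IsSolvable (Subgroup.closure ({x, y} : Set (Cfsg.Sz F m))) ↔ _
    rw [D.solvable_pair hx]
    constructor
    · rintro (⟨p, h1, h2⟩ | ⟨z, hz1, hzU, hxN, hyN⟩)
      · left
        rcases hxor p h1 with rfl | rfl
        · exact Or.inl h2
        · exact Or.inr h2
      · obtain ⟨w, hw⟩ := D.isOT_of_not_U hz1 hzU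
        have hxz : x ∈ Cen z := D.odd_mem hw hxN (hOT.ordOdd (mem_cen.2 rfl))
        have e := D.cen_eq_of hw hxz hx
        have hyN' : y ∈ Subgroup.normalizer (Cen x : Set (Cfsg.Sz F m)) := by rw [e]; exact hyN
        by_cases hyc : y ∈ Cen x
        · left; left
          exact ((hcen y).1 hyc).1
        · right
          exact ⟨hyN', hyc⟩
    · rintro ((h | h) | h)
      · exact Or.inl ⟨p1, hx1, h⟩
      · exact Or.inl ⟨p2, hx2, h⟩
      · exact Or.inr ⟨x, hx, hnU, Subgroup.le_normalizer (mem_cen.2 rfl), h.1⟩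
  have hdisj : Disjoint (S1 ∪ S2) (N \ (Cen x : Set (Cfsg.Sz F m))) := by
    rw [Set.disjoint_left]
    rintro y hy ⟨hyN, hyc⟩
    have hyc' : ¬ (y • p1 = p1 ∧ y • p2 = p2) := fun h => hyc ((hcen y).2 h)
    rcases hnorm y hyN with h | h
    · exact hyc' h
    · rcases hy with hy | hy
      · have : y • p1 = p1 := hy
        exact hne (this.symm.trans h.1)
      · have : y • p2 = p2 := hy
        exact hne (h.2.symm.trans this)
  have hcS : ∀ g : Cfsg.Sz F m, ∀ p : Om F m, Nat.card (MulAction.stabilizer (Cfsg.Sz F m) (g • p)) =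
      Nat.card (MulAction.stabilizer (Cfsg.Sz F m) p) := by
    intro g p
    rw [MulAction.stabilizer_smul_eq_stabilizer_map_conj]
    exact card_map_conj _ g
  have c1 : S1.ncard = (2 ^ (2 * m + 1)) ^ 2 * (2 ^ (2 * m + 1) - 1) := by
    rw [hS1, ← Nat.card_coe_set_eq]
    show Nat.card (MulAction.stabilizer (Cfsg.Sz F m) p1) = _
    rw [hp1, hcS, D.card_stab]
  have c2 : S2.ncard = (2 ^ (2 * m + 1)) ^ 2 * (2 ^ (2 * m + 1) - 1) := by
    rw [hS2, ← Nat.card_coe_set_eq]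
    show Nat.card (MulAction.stabilizer (Cfsg.Sz F m) p2) = _
    rw [hp2, hcS, ← D.ww_inf, hcS, D.card_stab]
  have c12 : (S1 ∩ S2).ncard = 2 ^ (2 * m + 1) - 1 := by
    have : S1 ∩ S2 = (Cen x : Set (Cfsg.Sz F m)) := by
      ext y
      exact (hcen y).symm
    rw [this, ← Nat.card_coe_set_eq]
    exact hcard
  have c3 : (N \ (Cen x : Set (Cfsg.Sz F m))).ncard = 2 ^ (2 * m + 1) - 1 := by
    have hsub : (Cen x : Set (Cfsg.Sz F m)) ⊆ N := Subgroup.le_normalizer
    rw [Set.ncard_sdiff hsub, hN, ← Nat.card_coe_set_eq, ← Nat.card_coe_set_eq]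
    have h1 : Nat.card ((Subgroup.normalizer (Cen x : Set (Cfsg.Sz F m)) : Set (Cfsg.Sz F m))) = 2 * Nat.card (Cen x) := hOT.norm
    have h2 : Nat.card ((Cen x : Set (Cfsg.Sz F m))) = Nat.card (Cen x) := rfl
    rw [h1, h2, hcard]
    omega
  have h0 : Nat.card {y : Cfsg.Sz F m // Group.IsSolvable (Subgroup.closure ({x, y} : Set (Cfsg.Sz F m)))} =
      ((S1 ∪ S2) ∪ (N \ (Cen x : Set (Cfsg.Sz F m)))).ncard := by
    rw [← hset]; rfl
  rw [h0, Set.ncard_union_eq hdisj, c3]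
  have h1 := Set.ncard_union_add_ncard_inter S1 S2
  rw [c1, c2, c12] at h1
  rw [h1]
  ring

end Dat

end Cfsg.Agent.H8.Suz
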